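import Cfsg.Agent.Lib.BaseTwo.Bases

/-! Three vectors for fields of at least seven elements, and for groups of scalars or quaternion type. -/

set_option autoImplicit false
set_option linter.style.haveILetI false

namespace Cfsg.Agent.BaseTwo

variable {E W : Type} [Field E] [AddCommGroup W] [Module E W] [Nontrivial W] {n : ℕ} {S : Sys E W n}

/-- The vectors over a group of scalars. -/
theorem pre_trivial (ht : S.Trivial) {x : W} (hx : x ≠ 0) {θ : E} (hθ : θ ≠ 0) (hrig : Rigid θ) :
    Pre S x (θ • x) x := by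
  refine { freeX := ⟨hx, fun m hm _ _ => ht m hm⟩, freeW := ⟨hx, fun m hm _ _ => ht m hm⟩,
           ne := smul_ne_zero hθ hx, key := fun g hg hgx hgy _ => ?_ }
  obtain ⟨⟨σ, hσ⟩, -⟩ := hg
  have hfix : σ θ = θ := smul_left_injective E hx (by simpa [hσ, hgx] using hgy)
  have hlin := linear_of_rigid hσ hx hrig hfix
  refine ⟨hlin, fun m hm u => ?_, hgx⟩
  obtain ⟨c, rfl⟩ := ht m hm
  rw [sc_apply, sc_apply, hlin]

theorem nonsq_add [Finite E] (h2 : (2 : E) ≠ 0) : ∃ α β : E, α * α + β * β = -1 := by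
  classical
  haveI := Fintype.ofFinite E
  have hodd : Fintype.card E % 2 = 1 := by
    refine FiniteField.odd_card_of_char_ne_two (F := E) fun h => h2 ?_
    haveI := ringChar.of_eq h
    exact CharTwo.two_eq_zero
  obtain ⟨a, b, hab⟩ := FiniteField.exists_root_sum_quadratic (R := E)
    (f := Polynomial.X ^ 2 + Polynomial.C 1) (g := Polynomial.X ^ 2)
    (Polynomial.degree_X_pow_add_C (by norm_num) 1) (Polynomial.degree_X_pow 2) hodd
  simp only [Polynomial.eval_add, Polynomial.eval_pow, Polynomial.eval_X, Polynomial.eval_C] at hab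
  exact ⟨a, b, by linear_combination hab⟩

/-- The candidates for the image of a generator of a quaternion group. -/
theorem Quat.square {a b : W ≃ₗ[E] W} (hq : Quat S a b) (h2 : (2 : E) ≠ 0) {m : W ≃ₗ[E] W} (hm : m ∈ S.grp)
    (hm2 : ∀ u, m (m u) = -u) :
    ∃ ε : E, (ε = 1 ∨ ε = -1) ∧
      ((∀ u, m u = ε • a u) ∨ (∀ u, m u = ε • b u) ∨ ∀ u, m u = ε • a (b u)) := by
  obtain ⟨u₀, hu₀⟩ := exists_ne (0 : W)
  have ha2 : ∀ u, a (a u) = -u := fun u => by
    have := LinearEquiv.congr_fun hq.sqa u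
    simpa [app_mul] using this
  have hb2 : ∀ u, b (b u) = -u := fun u => by
    have := LinearEquiv.congr_fun hq.sqb u
    simpa [app_mul] using this
  have hba : ∀ u, b (a u) = -a (b u) := fun u => by
    have := LinearEquiv.congr_fun hq.anti u
    simp only [app_mul, sc_apply, Units.val_neg, Units.val_one, neg_one_smul] at this
    rw [this, neg_neg]
  obtain ⟨s, hs⟩ := hq.span m hm
  have hsq : ∀ t : W → W, (∀ u, t (t u) = -u) → (∀ (c : E) u, t (c • u) = c • t u) →
      (∀ u, m u = (s : E) • t u) → (s : E) = 1 ∨ (s : E) = -1 := by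
    intro t ht hl he
    have h1 : m (m u₀) = ((s : E) * (s : E)) • -u₀ := by rw [he, he, hl, smul_smul, ht]
    rw [hm2] at h1
    have h3 : (1 : E) = (s : E) * (s : E) :=
      smul_left_injective E (neg_ne_zero.2 hu₀) (by simp only [one_smul]; exact h1)
    exact sq_eq_one_iff.1 (by rw [pow_two]; exact h3.symm)
  rcases hs with hs | hs | hs | hs
  · exfalso
    have h1 := hm2 u₀
    rw [hs, sc_apply, sc_apply, smul_smul, ← neg_one_smul E u₀] at h1
    exact hq.nonsq _ (smul_left_injective E hu₀ h1)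
  · have he : ∀ u, m u = (s : E) • a u := fun u => LinearEquiv.congr_fun hs u
    exact ⟨s, hsq a ha2 (map_smul a) he, Or.inl he⟩
  · have he : ∀ u, m u = (s : E) • b u := fun u => LinearEquiv.congr_fun hs u
    exact ⟨s, hsq b hb2 (map_smul b) he, Or.inr (Or.inl he)⟩
  · have he : ∀ u, m u = (s : E) • a (b u) := fun u => LinearEquiv.congr_fun hs u
    refine ⟨s, hsq (fun u => a (b u)) (fun u => ?_) (fun c u => ?_) he, Or.inr (Or.inr he)⟩
    · rw [hba, map_neg, ha2, neg_neg, hb2]
    · rw [map_smul, map_smul]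

/-- The vectors over a quaternion group. -/
theorem Quat.base [Finite E] {a b : W ≃ₗ[E] W} (hq : Quat S a b) (h2 : (2 : E) ≠ 0) :
    ∃ x y : W, Pre S x y x ∧ (3 < Nat.card E → Tri S x y x) := by
  have ha2 : ∀ u, a (a u) = -u := fun u => by
    have := LinearEquiv.congr_fun hq.sqa u
    simpa [app_mul] using this
  have hb2 : ∀ u, b (b u) = -u := fun u => by
    have := LinearEquiv.congr_fun hq.sqb u
    simpa [app_mul] using this
  have hba : ∀ u, b (a u) = -a (b u) := fun u => by
    have := LinearEquiv.congr_fun hq.anti u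
    simp only [app_mul, sc_apply, Units.val_neg, Units.val_one, neg_one_smul] at this
    rw [this, neg_neg]
  -- the invariant plane
  obtain ⟨x, α, β, hx, hαβ, hbx⟩ : ∃ (x : W) (α β : E), x ≠ 0 ∧ α * α + β * β = -1 ∧ b x = α • x + β • a x := by
    obtain ⟨α, β, hαβ⟩ := nonsq_add (E := E) h2
    obtain ⟨u, hu⟩ := exists_ne (0 : W)
    by_cases hz : b u - β • a u + α • u = 0
    · refine ⟨u, -α, β, hu, by linear_combination hαβ, ?_⟩
      rw [neg_smul, ← sub_eq_zero]
      rw [← hz]; abel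
    · refine ⟨_, α, β, hz, hαβ, ?_⟩
      simp only [map_add, map_sub, map_smul, ha2, hb2, hba, smul_add, smul_sub, smul_neg, smul_smul]
      rw [← sub_eq_zero]
      calc _ = (-1 - (α * α + β * β)) • u := by module
        _ = 0 := by rw [hαβ, sub_self, zero_smul]
  have hα : α ≠ 0 := fun e => hq.nonsq β (by rw [e] at hαβ; linear_combination hαβ)
  have hβ : β ≠ 0 := fun e => hq.nonsq α (by rw [e] at hαβ; linear_combination hαβ)
  have habx : a (b x) = α • a x - β • x := by rw [hbx, map_add, map_smul, map_smul, ha2, smul_neg, sub_eq_add_neg]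
  have hind : ∀ p q : E, p • x + q • a x = 0 → p = 0 ∧ q = 0 := by
    intro p q he
    by_cases hq0 : q = 0
    · rw [hq0, zero_smul, add_zero] at he
      exact ⟨(smul_eq_zero.1 he).resolve_right hx, hq0⟩
    exfalso
    have hax : a x = (-(q⁻¹ * p)) • x := by
      rw [neg_smul, mul_smul, ← smul_neg, eq_inv_smul_iff₀ hq0, eq_neg_iff_add_eq_zero, add_comm, he]
    have h1 := ha2 x
    rw [hax, map_smul, hax, smul_smul, ← neg_one_smul E x] at h1
    exact hq.nonsq _ (smul_left_injective E hx h1)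
  have hline : ∀ z : W, z ≠ 0 → LineFree S z := by
    intro z hz
    refine ⟨hz, fun m hm c he => ?_⟩
    obtain ⟨s, hs | hs | hs | hs⟩ := hq.span m hm
    · exact ⟨s, hs⟩
    all_goals
      exfalso
      rw [hs, app_mul, sc_apply] at he
    · have h1 : a z = ((s : E)⁻¹ * c) • z := by rw [mul_smul, ← he, inv_smul_smul₀ s.ne_zero]
      have h3 := ha2 z
      rw [h1, map_smul, h1, smul_smul, ← neg_one_smul E z] at h3
      exact hq.nonsq _ (smul_left_injective E hz h3)
    · have h1 : b z = ((s : E)⁻¹ * c) • z := by rw [mul_smul, ← he, inv_smul_smul₀ s.ne_zero]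
      have h3 := hb2 z
      rw [h1, map_smul, h1, smul_smul, ← neg_one_smul E z] at h3
      exact hq.nonsq _ (smul_left_injective E hz h3)
    · have h1 : a (b z) = ((s : E)⁻¹ * c) • z := by rw [mul_smul, ← he, app_mul, inv_smul_smul₀ s.ne_zero]
      have h3 : a (b (a (b z))) = -z := by rw [hba, map_neg, ha2, neg_neg, hb2]
      rw [h1, map_smul, map_smul, h1, smul_smul, ← neg_one_smul E z] at h3
      exact hq.nonsq _ (smul_left_injective E hz h3)
  obtain ⟨γ, hγ⟩ := exists_generator (E := E)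
  -- the vectors for a multiplier `±γ`
  have hpre : ∀ θ : E, θ = (γ : E) ∨ θ = -(γ : E) → Pre S x (x + θ • a x) x := by
    intro θ hθ
    have hθ0 : θ ≠ 0 := by rcases hθ with rfl | rfl <;> simp
    refine { freeX := hline x hx, freeW := hline x hx, ne := fun e => ?_, key := fun g hg hgx hgy _ => ?_ }
    · exact one_ne_zero (hind 1 θ (by rw [one_smul, e])).1
    obtain ⟨⟨σ, hσ⟩, hn⟩ := hg
    obtain ⟨τ, hτ⟩ := exists_ringHom hσ hx
    have hσ' : ∀ (c : E) (u : W), g (c • u) = τ c • g u := fun c u => by rw [hσ, hτ]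
    have hneg : ∀ u, g (-u) = -g u := fun u => map_neg g u
    have hτ0 : τ θ ≠ 0 := fun e => hθ0 ((map_eq_zero τ).1 e)
    obtain ⟨A, hA, hgA⟩ := hn a hq.ha
    have hA2 : ∀ u, A (A u) = -u := by
      intro u
      obtain ⟨u, rfl⟩ := g.surjective u
      rw [← hgA, ← hgA, ha2, hneg]
    obtain ⟨ε, hε, hAcases⟩ := hq.square h2 hA hA2
    rw [map_add, hσ', hgA, hgx, add_right_inj] at hgy
    have hAx : ∀ u, (A x = u) → τ θ • u = θ • a x := fun u e => e ▸ hgy
    have hA' : A x = ε • a x ∧ ∀ u, A u = ε • a u := by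
      rcases hAcases with h' | h' | h'
      · exact ⟨h' x, h'⟩
      · exfalso
        have h1 := hAx _ (h' x)
        rw [hbx] at h1
        have h3 := (hind (τ θ * ε * α) (τ θ * ε * β - θ) (by rw [← sub_eq_zero] at h1; rw [← h1]; module)).1
        rcases hε with rfl | rfl <;> simp [hτ0, hα] at h3
      · exfalso
        have h1 := hAx _ (h' x)
        rw [habx] at h1
        have h3 := (hind (-(τ θ * ε * β)) (τ θ * ε * α - θ) (by rw [← sub_eq_zero] at h1; rw [← h1]; module)).1
        rcases hε with rfl | rfl <;> simp [hτ0, hβ] at h3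
    have hτθ : τ θ * ε = θ := by
      have h1 := hAx _ hA'.1
      have h3 := (hind 0 (τ θ * ε - θ) (by rw [← sub_eq_zero] at h1; rw [← h1]; module)).2
      exact sub_eq_zero.1 h3
    -- the field automorphism fixes squares
    have hsqθ : τ θ * τ θ = θ * θ := by
      rcases hε with rfl | rfl
      · linear_combination (τ θ + θ) * hτθ
      · linear_combination (-τ θ + θ) * hτθ
    have hid : ∀ c, τ c = c := by
      intro c
      by_cases hc : c = 0
      · rw [hc, map_zero]
      have hγ2 : τ ((γ : E) * (γ : E)) = (γ : E) * (γ : E) := by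
        rcases hθ with e | e <;> rw [e] at hsqθ <;> simpa [map_mul, map_neg] using hsqθ
      have hsquares : ∀ d : Eˣ, τ ((d : E) * d) = (d : E) * d := by
        intro d
        obtain ⟨k, rfl⟩ := hγ d
        rw [Units.val_pow_eq_pow_val, ← mul_pow, map_pow, hγ2]
      obtain ⟨k, hk⟩ := hγ (Units.mk0 c hc)
      obtain ⟨l, hl⟩ : ∃ l, (-1 : Eˣ) = γ ^ l := let ⟨l, hl⟩ := hγ (-1); ⟨l, hl.symm⟩
      have hlodd : Odd l := by
        rcases Nat.even_or_odd l with ⟨i, hi⟩ | h'
        · exfalso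
          refine hq.nonsq ((γ ^ i : Eˣ) : E) ?_
          rw [← Units.val_mul, ← pow_add, ← hi, ← hl, Units.val_neg, Units.val_one]
        · exact h'
      have hceq : c = ((γ ^ k : Eˣ) : E) := by rw [hk, Units.val_mk0]
      rcases Nat.even_or_odd k with ⟨i, hi⟩ | hodd
      · rw [hceq, hi, pow_add, Units.val_mul, hsquares]
      · obtain ⟨i, hi⟩ := hodd
        obtain ⟨j, hj⟩ := hlodd
        have h1 : c * ((γ ^ (i + j + 1) : Eˣ) : E) ^ 0 * (-1) = ((γ ^ (i + j + 1) : Eˣ) : E) * ((γ ^ (i + j + 1) : Eˣ) : E) := by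
          rw [pow_zero, mul_one, show (-1 : E) = ((γ ^ l : Eˣ) : E) by rw [← hl, Units.val_neg, Units.val_one], hceq,
            ← Units.val_mul, ← Units.val_mul, ← pow_add, ← pow_add]
          congr 2
          omega
        rw [pow_zero, mul_one, mul_neg_one] at h1
        have h3 := hsquares (γ ^ (i + j + 1))
        rw [← h1, map_neg, neg_inj] at h3
        exact h3
    have hε1 : ε = 1 := mul_left_cancel₀ hθ0 (by rw [hid] at hτθ; rw [hτθ, mul_one])
    have hlin : ∀ (c : E) (u : W), g (c • u) = c • g u := fun c u => by rw [hσ', hid]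
    have hga : ∀ u, g (a u) = a (g u) := fun u => by rw [hgA, hA'.2, hε1, one_smul]
    obtain ⟨B, hB, hgB⟩ := hn b hq.hb
    have hB2 : ∀ u, B (B u) = -u := by
      intro u
      obtain ⟨u, rfl⟩ := g.surjective u
      rw [← hgB, ← hgB, hb2, hneg]
    have hBx : B x = α • x + β • a x := by
      have := hgB x
      rw [hgx, hbx, map_add, hlin, hlin, hga, hgx] at this
      exact this.symm
    obtain ⟨η, hη, hBcases⟩ := hq.square h2 hB hB2
    have hgb : ∀ u, g (b u) = b (g u) := by
      intro u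
      rw [hgB]
      rcases hBcases with h' | h' | h'
      · exfalso
        rw [h' x] at hBx
        exact hα (neg_eq_zero.1 (hind (-α) (η - β) (by rw [← sub_eq_zero] at hBx; rw [← hBx]; module)).1)
      · rw [h' x, hbx] at hBx
        have h3 := (hind ((η - 1) * α) ((η - 1) * β) (by rw [← sub_eq_zero] at hBx; rw [← hBx]; module)).1
        rw [h', sub_eq_zero.1 ((mul_eq_zero.1 h3).resolve_right hα), one_smul]
      · exfalso
        rw [h' x, habx] at hBx
        have h3 := hind (-(η * β) - α) (η * α - β) (by rw [← sub_eq_zero] at hBx; rw [← hBx]; module)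
        have h4 : (-1 : E) = 0 := by linear_combination (-α) * h3.1 + (-β) * h3.2 - hαβ
        exact one_ne_zero (neg_eq_zero.1 h4)
    refine ⟨hlin, fun m hm u => ?_, hgx⟩
    obtain ⟨s, hs | hs | hs | hs⟩ := hq.span m hm <;>
      simp only [hs, app_mul, sc_apply, hlin, hga, hgb]
  have hout : ∀ θ : E, θ * α ≠ β → θ * β ≠ -α → θ ≠ 0 → ∀ m ∈ S.grp, m x ≠ x + θ • a x := by
    intro θ h1 h3 hθ0 m hm he
    obtain ⟨s, hs | hs | hs | hs⟩ := hq.span m hm
    all_goals
      rw [hs] at he
      simp only [app_mul, sc_apply] at he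
      rw [← sub_eq_zero] at he
    · exact hθ0 (neg_eq_zero.1 (hind ((s : E) - 1) (-θ) (by rw [← he]; module)).2)
    · exact one_ne_zero (neg_eq_zero.1 (hind (-1) ((s : E) - θ) (by rw [← he]; module)).1)
    · rw [hbx] at he
      obtain ⟨e1, e2⟩ := hind ((s : E) * α - 1) ((s : E) * β - θ) (by rw [← he]; module)
      exact h1 (by linear_combination (-α) * e2 + β * e1)
    · rw [habx] at he
      obtain ⟨e1, e2⟩ := hind (-((s : E) * β) - 1) ((s : E) * α - θ) (by rw [← he]; module)
      exact h3 (by linear_combination (-β) * e2 - α * e1)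
  by_cases hQ : 3 < Nat.card E
  · -- one of the two multipliers will do
    obtain ⟨θ, hθ, h1, h3⟩ : ∃ θ : E, (θ = (γ : E) ∨ θ = -(γ : E)) ∧ θ * α ≠ β ∧ θ * β ≠ -α := by
      by_contra hno
      push Not at hno
      have hγγ : (γ : E) * (γ : E) = 1 ∨ (γ : E) * (γ : E) = -1 := by
        rcases Classical.em ((γ : E) * α = β) with h1 | h1 <;>
          rcases Classical.em (-(γ : E) * α = β) with h3 | h3
        · exact absurd (show 2 * ((γ : E) * α) = 0 by linear_combination h1 - h3)
            (mul_ne_zero h2 (mul_ne_zero γ.ne_zero hα))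
        · have h5 := hno _ (Or.inr rfl) h3
          left
          exact mul_right_cancel₀ hα (by rw [← h1] at h5; linear_combination -h5)
        · have h5 := hno _ (Or.inl rfl) h1
          left
          exact mul_right_cancel₀ hα (by rw [← h3] at h5; linear_combination -h5)
        · exact absurd (show 2 * ((γ : E) * β) = 0 by
            linear_combination hno _ (Or.inl rfl) h1 - hno _ (Or.inr rfl) h3)
            (mul_ne_zero h2 (mul_ne_zero γ.ne_zero hβ))
      have h4 : γ ^ 2 = 1 := by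
        rcases hγγ with h' | h'
        · exact Units.ext (by rw [Units.val_pow_eq_pow_val, pow_two, h', Units.val_one])
        · exact absurd h' (hq.nonsq _)
      haveI := Fintype.ofFinite E
      classical
      have h5 : Nat.card Eˣ ≤ 2 := by
        rw [Nat.card_eq_fintype_card, ← Finset.card_univ]
        refine le_trans (Finset.card_le_card (t := ({1, γ} : Finset Eˣ)) fun d _ => ?_) (Finset.card_le_two)
        obtain ⟨k, rfl⟩ := hγ d
        rcases Nat.even_or_odd' k with ⟨i, rfl | rfl⟩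
        · simp [pow_mul, h4]
        · simp [pow_succ, pow_mul, h4]
      rw [Nat.card_units] at h5
      omega
    have hθ0 : θ ≠ 0 := by rcases hθ with rfl | rfl <;> simp
    exact ⟨x, _, hpre θ hθ, fun _ => { toPre := hpre θ hθ, out := hout θ h1 h3 hθ0 }⟩
  · exact ⟨x, _, hpre _ (Or.inl rfl), fun h => absurd h hQ⟩

/-- Rigid multipliers for the step. -/
theorem exists_multiplier [Finite E] (h2 : (2 : E) ≠ 0) (hQ : 7 ≤ Nat.card E) {r : ℕ} {l v : W ≃ₗ[E] W} {ζ ν : Eˣ}
    (h : Split S r l v ζ ν) :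
    ∃ θ c : E, θ ≠ 0 ∧ Rigid θ ∧ (c = 1 ∨ c = -1) ∧ (r = 3 → (c ^ 3 * (ν : E)) ^ 3 ≠ 1) ∧
      (r = 2 → θ ^ 4 ≠ (ν : E) ^ 2) ∧ (r = 3 → (θ * c) ^ 3 ≠ 1) := by
  classical
  obtain ⟨c, hc, hcν⟩ : ∃ c : E, (c = 1 ∨ c = -1) ∧ (r = 3 → (c ^ 3 * (ν : E)) ^ 3 ≠ 1) := by
    by_cases hν : (ν : E) ^ 3 = 1
    · refine ⟨-1, Or.inr rfl, fun _ e => h2 ?_⟩
      have : ((-1 : E) ^ 3 * (ν : E)) ^ 3 = -1 := by rw [mul_pow, hν]; ring
      rw [this] at e
      linear_combination -e
    · exact ⟨1, Or.inl rfl, fun _ e => hν (by simpa using e)⟩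
  haveI : NeZero r := ⟨h.hr.ne_zero⟩
  let P : Polynomial E := if r = 2 then Polynomial.X ^ 4 - Polynomial.C ((ν : E) ^ 2)
    else Polynomial.X ^ 3 - Polynomial.C (c ^ 3)
  have hP : P ≠ 0 ∧ P.natDegree ≤ 4 := by
    simp only [P]
    split_ifs
    · exact ⟨Polynomial.X_pow_sub_C_ne_zero (by norm_num) _, (Polynomial.natDegree_X_pow_sub_C).le⟩
    · exact ⟨Polynomial.X_pow_sub_C_ne_zero (by norm_num) _, (Polynomial.natDegree_X_pow_sub_C).le.trans (by norm_num)⟩
  obtain ⟨θ, hθ0, hθb, hrig⟩ := exists_rigid h2 hQ P.roots.toFinset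
    ((Multiset.toFinset_card_le _).trans ((Polynomial.card_roots' P).trans hP.2))
  refine ⟨θ, c, hθ0, hrig, hc, hcν, fun hr e => hθb ?_, fun hr e => hθb ?_⟩
  · rw [Multiset.mem_toFinset, Polynomial.mem_roots hP.1]
    simp [P, hr, e, Polynomial.IsRoot.def]
  · rw [Multiset.mem_toFinset, Polynomial.mem_roots hP.1]
    have : θ ^ 3 = c ^ 3 := by
      rcases hc with rfl | rfl <;> [linear_combination e; linear_combination -e]
    simp [P, hr, Polynomial.IsRoot.def, this]

/-- Fields of at least seven elements: all is scalar or there are three vectors. -/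
theorem tri_large [Finite E] [Finite W] (S : Sys E W n) (hsq : Squarefree n) (h2 : (2 : E) ≠ 0)
    (hQ : 7 ≤ Nat.card E) : S.Trivial ∨ ∃ x y : W, Tri S x y x := by
  suffices hall : ∀ (N : ℕ) (W : Type) [AddCommGroup W] [Module E W] [Nontrivial W] [Finite W] (S : Sys E W n),
      Nat.card W ≤ N → S.Trivial ∨ ∃ x y : W, Tri S x y x from hall _ W S le_rfl
  intro N
  induction N with
  | zero =>
    intro W _ _ _ _ S hN
    exact absurd hN (by have := Nat.card_pos (α := W); omega)
  | succ N ih =>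
    intro W _ _ _ _ S hN
    rcases trichotomy S hsq h2 with ht | ⟨r, l, v, ζ, ν, h⟩ | ⟨a, b, hq⟩
    · exact Or.inl ht
    · right
      obtain ⟨u₀, hu₀, hu₀P⟩ := h.exists_P0
      haveI : Nontrivial (P0 l) := ⟨⟨⟨u₀, hu₀P⟩, 0, fun e => hu₀ (congrArg Subtype.val e)⟩⟩
      obtain ⟨θ, c, hθ0, hrig, hc, hν, hr2, hr3⟩ := exists_multiplier h2 hQ h
      have hc0 : c ≠ 0 := by rcases hc with rfl | rfl <;> simp
      rcases ih (P0 l) h.sys (by have := h.card_lt; omega) with ht | ⟨x, y, hp⟩
      · have hx : (⟨u₀, hu₀P⟩ : P0 l) ≠ 0 := fun e => hu₀ (congrArg Subtype.val e)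
        exact ⟨_, _, h.step h2 (pre_trivial ht hx hθ0 hrig) hc hν (h.lineFree_of_trivial ht hx hθ0 hc hr2 hr3)⟩
      · exact ⟨_, _, h.step h2 hp.toPre hc hν (h.lineFree_of_out hp hc0)⟩
    · right
      obtain ⟨x, y, -, ht⟩ := hq.base h2
      exact ⟨x, y, ht (by omega)⟩

end Cfsg.Agent.BaseTwo
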