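import Cfsg.Agent.Lib.BaseTwo.Sys
import Mathlib.FieldTheory.Finite.Basic
import Mathlib.RingTheory.IntegralDomain

/-! Field elements for the bases and hyperbolic pairs with eigenvalues in the field. -/

set_option autoImplicit false
set_option linter.style.haveILetI false

namespace Cfsg.Agent.BaseTwo

variable {E : Type} [Field E]

/-- Fixed only by the identity among the endomorphisms of the field. -/
def Rigid (θ : E) : Prop := ∀ σ : E →+* E, σ θ = θ → ∀ a, σ a = a

theorem exists_generator [Finite E] : ∃ g : Eˣ, ∀ u : Eˣ, ∃ k : ℕ, g ^ k = u := by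
  obtain ⟨g, hg⟩ := IsCyclic.exists_generator (α := Eˣ)
  refine ⟨g, fun u => ?_⟩
  have : u ∈ Submonoid.powers g := mem_powers_iff_mem_zpowers.2 (hg u)
  exact this

theorem generator_rigid {g : Eˣ} (hg : ∀ u : Eˣ, ∃ k : ℕ, g ^ k = u) : Rigid (g : E) := by
  intro σ hσ a
  by_cases ha : a = 0
  · rw [ha, map_zero]
  obtain ⟨k, hk⟩ := hg (Units.mk0 a ha)
  rw [show a = (g : E) ^ k by rw [← Units.val_pow_eq_pow_val, hk, Units.val_mk0], map_pow, hσ]

/-- A rigid element outside a small set. -/
theorem exists_rigid [Finite E] (h2 : (2 : E) ≠ 0) (hQ : 7 ≤ Nat.card E) (bad : Finset E) (hbad : bad.card ≤ 4) :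
    ∃ θ : E, θ ≠ 0 ∧ θ ∉ bad ∧ Rigid θ := by
  classical
  haveI := Fintype.ofFinite E
  by_cases hall : ∀ σ : E →+* E, ∀ a, σ a = a
  · obtain ⟨θ, -, hθ⟩ := Finset.exists_mem_notMem_of_card_lt_card (s := insert (0 : E) bad) (t := Finset.univ) (by
      refine lt_of_le_of_lt (Finset.card_insert_le _ _) ?_
      rw [Finset.card_univ, ← Nat.card_eq_fintype_card]
      omega)
    rw [Finset.mem_insert, not_or] at hθ
    exact ⟨θ, hθ.1, hθ.2, fun σ _ => hall σ⟩
  push Not at hall
  obtain ⟨σ₀, a₀, ha₀⟩ := hall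
  obtain ⟨g, hg⟩ := exists_generator (E := E)
  set γ : E := (g : E)
  have hrig : Rigid γ := generator_rigid hg
  have hmove : ∀ k : ℤ, (k : E) ≠ 0 → ∀ m : ℤ, (k : E) * γ ≠ (m : E) := by
    intro k hk m he
    refine ha₀ (hrig σ₀ ?_ a₀)
    have := congrArg σ₀ he
    rw [map_mul, map_intCast, map_intCast, ← he] at this
    exact mul_left_cancel₀ hk this
  have hlin : ∀ (k : ℤ), (k : E) = 1 ∨ (k : E) = -1 → ∀ m : ℤ, Rigid ((k : E) * γ + (m : E)) := by
    intro k hk m σ hσ
    rw [map_add, map_mul, map_intCast, map_intCast, add_left_inj] at hσ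
    exact hrig σ (mul_left_cancel₀ (by rcases hk with h | h <;> rw [h] <;> simp) hσ)
  let cand : Finset E := ({(1, 0), (-1, 0), (1, 1), (-1, 1), (1, -1)} : Finset (ℤ × ℤ)).image
    fun q => (q.1 : E) * γ + (q.2 : E)
  have hinj : Set.InjOn (fun q : ℤ × ℤ => (q.1 : E) * γ + (q.2 : E))
      (({(1, 0), (-1, 0), (1, 1), (-1, 1), (1, -1)} : Finset (ℤ × ℤ)) : Set (ℤ × ℤ)) := by
    intro q hq q' hq' he
    simp only at he
    by_cases hk : ((q.1 - q'.1 : ℤ) : E) = 0
    · rw [Int.cast_sub, sub_eq_zero] at hk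
      rw [hk, add_right_inj] at he
      have hm : ((q.2 - q'.2 : ℤ) : E) = 0 := by rw [Int.cast_sub, sub_eq_zero]; exact he
      have hk' : ((q.1 - q'.1 : ℤ) : E) = 0 := by rw [Int.cast_sub, sub_eq_zero]; exact hk
      simp only [Finset.coe_insert, Finset.coe_singleton, Set.mem_insert_iff, Set.mem_singleton_iff] at hq hq'
      rcases hq with rfl | rfl | rfl | rfl | rfl <;> rcases hq' with rfl | rfl | rfl | rfl | rfl <;>
        first
          | rfl
          | (norm_num at hk'; done)
          | (norm_num at hm; done)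
          | (norm_num at hk' hm; exact absurd (by linear_combination hk') h2)
          | (norm_num at hk' hm; exact absurd (by linear_combination hm) h2)
          | (norm_num at hk' hm; exact absurd (by linear_combination -hk') h2)
          | (norm_num at hk' hm; exact absurd (by linear_combination -hm) h2)
    · exact absurd (show ((q.1 - q'.1 : ℤ) : E) * γ = ((q'.2 - q.2 : ℤ) : E) by
        push_cast; linear_combination he) (hmove _ hk _)
  obtain ⟨θ, hθ, hθb⟩ := Finset.exists_mem_notMem_of_card_lt_card (s := bad) (t := cand) (by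
    rw [Finset.card_image_of_injOn hinj]
    exact lt_of_le_of_lt hbad (by decide))
  obtain ⟨q, hq, rfl⟩ := Finset.mem_image.1 hθ
  have hq1 : (q.1 : E) = 1 ∨ (q.1 : E) = -1 := by
    simp only [Finset.mem_insert, Finset.mem_singleton] at hq
    rcases hq with rfl | rfl | rfl | rfl | rfl <;> simp
  refine ⟨_, fun e => ?_, hθb, hlin q.1 hq1 q.2⟩
  refine hmove q.1 (by rcases hq1 with h | h <;> rw [h] <;> simp) (-q.2) ?_
  push_cast
  linear_combination e

variable {W : Type} [AddCommGroup W] [Module E W] {n : ℕ} {S : Sys E W n}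

/-- The field endomorphism of a semilinear map. -/
theorem exists_ringHom {g : W ≃+ W} {σ : E → E} (hσ : ∀ (c : E) (u : W), g (c • u) = σ c • g u)
    {u : W} (hu : u ≠ 0) : ∃ τ : E →+* E, ∀ a, τ a = σ a := by
  have hgu : g u ≠ 0 := fun e => hu (g.injective (e.trans (map_zero g).symm))
  refine ⟨{ toFun := σ
            map_one' := ?_
            map_mul' := fun a b => ?_
            map_zero' := ?_
            map_add' := fun a b => ?_ }, fun a => rfl⟩
  · exact smul_left_injective E hgu (by simp only [← hσ, one_smul])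
  · exact smul_left_injective E hgu (by simp only [mul_smul, ← hσ])
  · exact smul_left_injective E hgu (by simp only [← hσ, zero_smul, map_zero])
  · exact smul_left_injective E hgu (by simp only [add_smul, ← hσ, map_add])

/-- Semilinear maps fixing a vector and a rigid multiple of it are linear. -/
theorem linear_of_rigid {g : W ≃+ W} {σ : E → E} (hσ : ∀ (c : E) (u : W), g (c • u) = σ c • g u)
    {u : W} (hu : u ≠ 0) {θ : E} (hθ : Rigid θ) (hfix : σ θ = θ) :
    ∀ (c : E) (w : W), g (c • w) = c • g w := by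
  obtain ⟨τ, hτ⟩ := exists_ringHom hσ hu
  intro c w
  rw [hσ, ← hτ, hθ τ (by rw [hτ, hfix])]

end Cfsg.Agent.BaseTwo
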