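import Cfsg.Agent.Lib.BaseTwo.Peel
import Cfsg.Agent.Lib.BaseTwo.Choice

/-! Hyperbolic pairs with eigenvalues in the field, or a quaternion group. -/

set_option autoImplicit false
set_option linter.style.haveILetI false

namespace Cfsg.Agent.BaseTwo

variable {E W : Type} [Field E] [AddCommGroup W] [Module E W] [Nontrivial W] {n : ℕ} {S : Sys E W n}

/-- The group is a quaternion group of scalars multiples of `1, a, b, ab`. -/
structure Quat (S : Sys E W n) (a b : W ≃ₗ[E] W) : Prop where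
  ha : a ∈ S.grp
  hb : b ∈ S.grp
  sqa : a * a = sc (-1)
  sqb : b * b = sc (-1)
  anti : a * b = sc (-1) * (b * a)
  span : ∀ m ∈ S.grp, ∃ s : Eˣ, m = sc s ∨ m = sc s * a ∨ m = sc s * b ∨ m = sc s * (a * b)
  nonsq : ∀ x : E, x * x ≠ -1

theorem pow_smul_scalar (a : W ≃ₗ[E] W) (e : Eˣ) (r : ℕ) : (sc e * a) ^ r = sc (e ^ r) * a ^ r := by
  rw [(show Commute (sc e) a from sc_comm e a).mul_pow, map_pow]

/-- A non-scalar element has a non-scalar power whose `r`-th power is scalar. -/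
theorem exists_prime_power (S : Sys E W n) (hn : 0 < n) {a : W ≃ₗ[E] W} (ha : a ∈ S.grp)
    (hns : ¬ ∃ c : Eˣ, a = sc c) :
    ∃ r k : ℕ, r.Prime ∧ r ∣ n ∧ (¬ ∃ c : Eˣ, a ^ k = sc c) ∧ (∃ c : Eˣ, (a ^ k) ^ r = sc c) ∧
      (r = 2 → k = 1 ∨ ∃ c : Eˣ, a ^ (2 * k) = sc c) := by
  classical
  have hex : ∃ d, 0 < d ∧ ∃ c : Eˣ, a ^ d = sc c := ⟨n, hn, S.pow a ha⟩
  obtain ⟨hd0, hdc⟩ := Nat.find_spec hex
  set d := Nat.find hex
  have hd1 : d ≠ 1 := fun e => hns (by rw [e, pow_one] at hdc; exact hdc)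
  have hdn : d ∣ n := by
    rcases Nat.eq_zero_or_pos (n % d) with h0 | hpos
    · exact Nat.dvd_of_mod_eq_zero h0
    · exfalso
      obtain ⟨c, hc⟩ := hdc
      obtain ⟨c', hc'⟩ := S.pow a ha
      refine Nat.find_min hex (Nat.mod_lt n hd0) ⟨hpos, (c ^ (n / d))⁻¹ * c', ?_⟩
      rw [map_mul, map_inv, map_pow, ← hc, ← hc', ← pow_mul, eq_inv_mul_iff_mul_eq, ← pow_add, Nat.div_add_mod]
  set r := d.minFac
  have hr : r.Prime := Nat.minFac_prime hd1
  have hrd : r ∣ d := d.minFac_dvd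
  refine ⟨r, d / r, hr, hrd.trans hdn, fun hc => Nat.find_min hex (Nat.div_lt_self hd0 hr.one_lt)
    ⟨Nat.div_pos (Nat.le_of_dvd hd0 hrd) hr.pos, hc⟩, ?_, ?_⟩
  · rw [← pow_mul, Nat.div_mul_cancel hrd]; exact hdc
  · intro h2
    right
    rw [← h2, Nat.mul_div_cancel' hrd]
    exact hdc

/-- An element with a power scalar and a partner with a power scalar. -/
theorem exists_partner (hsq : Squarefree n) {b : W ≃ₗ[E] W} (hb : b ∈ S.grp) {r : ℕ} (hr : r.Prime) (hrn : r ∣ n)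
    (hns : ¬ ∃ c : Eˣ, b = sc c) {c : Eˣ} (hc : b ^ r = sc c) :
    ∃ (w : W ≃ₗ[E] W) (ξ d : Eˣ), w ∈ S.grp ∧ IsPrimitiveRoot ξ r ∧ w * b = sc ξ * (b * w) ∧ w ^ r = sc d := by
  obtain ⟨w, hw, hwb⟩ : ∃ w ∈ S.grp, w * b ≠ b * w := by
    by_contra hno
    push Not at hno
    exact hns (S.center b hb fun m hm => (hno m hm).symm)
  obtain ⟨ξ, hξ⟩ := S.comm w hw b hb
  have hξ1 : ξ ≠ 1 := fun e => hwb (by rw [hξ, e, map_one, one_mul])
  have hξr : ξ ^ r = 1 := by
    have h1 := comm_pow w b hξ r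
    rw [hc, ← sc_comm] at h1
    exact sc_inj (W := W) ((mul_eq_right.1 h1.symm).trans (map_one sc).symm)
  haveI := Fact.mk hr
  have hξo : orderOf ξ = r := orderOf_eq_prime hξr hξ1
  obtain ⟨q, hq⟩ := hrn
  have hqr : ¬ r ∣ q := fun hd => hr.one_lt.ne' (Nat.isUnit_iff.1 (hsq r (by
    obtain ⟨q', hq'⟩ := hd
    exact ⟨q', by rw [hq, hq', mul_assoc]⟩)))
  obtain ⟨d, hd⟩ := S.pow w hw
  refine ⟨w ^ q, ξ ^ q, d, pow_mem hw q, ?_, ?_, ?_⟩
  · exact (hξo ▸ IsPrimitiveRoot.orderOf ξ : IsPrimitiveRoot ξ r).pow_of_coprime q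
      ((hr.coprime_iff_not_dvd.2 hqr).symm)
  · have h1 := comm_pow b w (comm_symm w b hξ) q
    have h2 := comm_symm b (w ^ q) h1
    rwa [inv_pow, inv_inv] at h2
  · rw [← pow_mul, mul_comm, ← hq]; exact hd

/-- A split element from one whose power is the power of a scalar. -/
theorem split_of_root {l₀ v : W ≃ₗ[E] W} (hl : l₀ ∈ S.grp) (hv : v ∈ S.grp) {r : ℕ} (hr : r.Prime)
    {ξ ν e : Eˣ} (hξ : IsPrimitiveRoot ξ r) (hcomm : v * l₀ = sc ξ * (l₀ * v)) (hl0 : l₀ ^ r = sc (e ^ r))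
    (hvr : v ^ r = sc ν) : Split S r (sc e⁻¹ * l₀) v ξ ν :=
  { hr := hr
    hl := S.grp.mul_mem (S.scal _) hl
    hv := hv
    hζ := hξ
    comm := by
      rw [← mul_assoc, ← sc_comm, mul_assoc, hcomm, ← mul_assoc, ← map_mul, mul_comm e⁻¹ ξ, map_mul]
      simp only [mul_assoc]
    lpow := by rw [pow_smul_scalar, hl0, ← map_mul, inv_pow, inv_mul_cancel, map_one]
    vpow := hvr }

theorem exists_split_odd [Finite E] {b v : W ≃ₗ[E] W} (hb : b ∈ S.grp) (hv : v ∈ S.grp) {r : ℕ} (hr : r.Prime)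
    (hodd : r ≠ 2) {ξ c d : Eˣ} (hξ : IsPrimitiveRoot ξ r) (hcomm : v * b = sc ξ * (b * v))
    (hc : b ^ r = sc c) (hd : v ^ r = sc d) : ∃ l v' ζ ν, Split S r l v' ζ ν := by
  obtain ⟨g, hg⟩ := exists_generator (E := E)
  obtain ⟨α, rfl⟩ := hg c
  obtain ⟨β, rfl⟩ := hg d
  haveI := Fact.mk hr
  by_cases hα : r ∣ α
  · obtain ⟨α', rfl⟩ := hα
    exact ⟨_, v, ξ, _, split_of_root hb hv hr hξ hcomm (e := g ^ α') (by rw [hc, ← pow_mul, mul_comm α' r]) hd⟩
  · -- adjust `v` by a power of `b`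
    obtain ⟨k, hk⟩ : ∃ k : ℕ, r ∣ β + k * α := by
      have hα' : (α : ZMod r) ≠ 0 := fun e => hα ((ZMod.natCast_eq_zero_iff α r).1 (by exact_mod_cast e))
      refine ⟨(-(β : ZMod r) * (α : ZMod r)⁻¹).val, (ZMod.natCast_eq_zero_iff _ r).1 ?_⟩
      push_cast [ZMod.natCast_zmod_val]
      field_simp
      ring_nf
    obtain ⟨q, hq⟩ := hk
    have hbv : b * v = sc ξ⁻¹ * (v * b) := comm_symm v b hcomm
    -- the power of a product
    have hpow : ∀ i : ℕ, (v * b ^ k) ^ i = sc ((ξ⁻¹ ^ k) ^ (i.choose 2)) * (v ^ i * (b ^ k) ^ i) := by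
      intro i
      induction i with
      | zero => simp
      | succ i ih =>
        have hbk : b ^ k * v = sc (ξ⁻¹ ^ k) * (v * b ^ k) := by
          have := comm_symm v (b ^ k) (comm_pow v b hcomm k)
          rwa [← inv_pow] at this
        have hbki : (b ^ k) ^ i * v = sc ((ξ⁻¹ ^ k) ^ i) * (v * (b ^ k) ^ i) := by
          have := comm_symm v ((b ^ k) ^ i) (comm_pow v (b ^ k) (comm_symm (b ^ k) v hbk) i)
          rwa [← inv_pow, inv_inv] at this
        rw [pow_succ, ih, Nat.choose_succ_succ', Nat.choose_one_right, pow_add, pow_succ v, pow_succ (b ^ k)]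
        calc sc ((ξ⁻¹ ^ k) ^ i.choose 2) * (v ^ i * (b ^ k) ^ i) * (v * b ^ k)
            = sc ((ξ⁻¹ ^ k) ^ i.choose 2) * (v ^ i * ((b ^ k) ^ i * v) * b ^ k) := by group
          _ = sc ((ξ⁻¹ ^ k) ^ i.choose 2) * (v ^ i * sc ((ξ⁻¹ ^ k) ^ i) * (v * (b ^ k) ^ i) * b ^ k) := by
              rw [hbki]; group
          _ = _ := by rw [← sc_comm, mul_comm ((ξ⁻¹ ^ k) ^ i), map_mul]; group
    have hvb : (v * b ^ k) ^ r = sc ((g ^ q) ^ r) := by
      obtain ⟨t, ht⟩ : r ∣ r.choose 2 := hr.dvd_choose_self (by omega) (by have := hr.two_le; omega)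
      have hbkr : (b ^ k) ^ r = sc ((g ^ α) ^ k) := by rw [← pow_mul, mul_comm, pow_mul, hc, ← map_pow]
      have hξ' : (ξ⁻¹ ^ k) ^ r = 1 := by
        rw [← pow_mul, mul_comm, pow_mul, inv_pow, hξ.pow_eq_one, inv_one, one_pow]
      rw [hpow, ht, pow_mul (ξ⁻¹ ^ k) r, hξ', one_pow, map_one, one_mul, hd, hbkr, ← map_mul, ← pow_mul g α,
        ← pow_add, ← pow_mul g q, mul_comm α k, hq, mul_comm q r]
    have hcomm' : b * (v * b ^ k) = sc ξ⁻¹ * (v * b ^ k * b) := by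
      rw [← mul_assoc, hbv, mul_assoc (sc ξ⁻¹), mul_assoc v, ← pow_succ', pow_succ, mul_assoc v]
    exact ⟨_, b, ξ⁻¹, _, split_of_root (S.grp.mul_mem hv (pow_mem hb k)) hb hr hξ.inv hcomm' hvb hc⟩

/-- The alternatives. -/
theorem trichotomy [Finite E] (S : Sys E W n) (hsq : Squarefree n) (h2 : (2 : E) ≠ 0) :
    S.Trivial ∨ (∃ r l v ζ ν, Split S r l v ζ ν) ∨ ∃ a b, Quat S a b := by
  by_cases htriv : S.Trivial
  · exact Or.inl htriv
  refine Or.inr (or_iff_not_imp_left.2 fun hsplit => ?_)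
  push Not at hsplit
  have hn : 0 < n := Nat.pos_of_ne_zero fun e => by rw [e] at hsq; exact not_squarefree_zero hsq
  -- non-scalar elements have scalar squares
  have hsqr : ∀ a ∈ S.grp, ∃ c : Eˣ, a * a = sc c := by
    intro a ha
    by_cases hs : ∃ c : Eˣ, a = sc c
    · obtain ⟨c, rfl⟩ := hs; exact ⟨c * c, (map_mul sc c c).symm⟩
    by_contra hc2
    have hns2 : ¬ ∃ c : Eˣ, a * a = sc c := hc2
    obtain ⟨r, k, hr, hrn, hns, ⟨c, hc⟩, -⟩ := exists_prime_power S hn (S.grp.mul_mem ha ha) hns2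
    by_cases hr2 : r = 2
    · -- the square of a square
      subst hr2
      have h4 : ∃ c : Eˣ, (a ^ k) ^ 4 = sc c := ⟨c, by rw [← hc, ← pow_two]; simp only [← pow_mul]; congr 1; ring⟩
      obtain ⟨c', hc'⟩ := h4
      obtain ⟨d, hd⟩ := S.pow (a ^ k) (pow_mem ha k)
      refine hns ?_
      have hg : Nat.gcd 4 n ∣ 2 := by
        have h4n : ¬ 4 ∣ n := fun h4 => absurd (hsq 2 h4) (by norm_num [Nat.isUnit_iff])
        have h1 : Nat.gcd 4 n ∣ 2 ^ 2 := Nat.gcd_dvd_left 4 n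
        obtain ⟨i, hi, he⟩ := (Nat.dvd_prime_pow Nat.prime_two).1 h1
        interval_cases i
        · rw [he]; norm_num
        · rw [he]; norm_num
        · exact absurd ((he ▸ Nat.gcd_dvd_right 4 n : 2 ^ 2 ∣ n)) h4n
      obtain ⟨t, ht⟩ := hg
      have hmem : (a ^ k) ^ Nat.gcd 4 n ∈ (sc : Eˣ →* (W ≃ₗ[E] W)).range := by
        have hb := Nat.gcd_eq_gcd_ab 4 n
        rw [← zpow_natCast, hb, zpow_add, zpow_mul, zpow_mul, zpow_natCast, zpow_natCast, hc', hd]
        exact mul_mem (zpow_mem (MonoidHom.mem_range.2 ⟨c', rfl⟩) _) (zpow_mem (MonoidHom.mem_range.2 ⟨d, rfl⟩) _)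
      have : (a * a) ^ k ∈ (sc : Eˣ →* (W ≃ₗ[E] W)).range := by
        rw [← pow_two, ← pow_mul, mul_comm, pow_mul, ht, pow_mul]
        exact pow_mem hmem t
      obtain ⟨e, he⟩ := this
      exact ⟨e, he.symm⟩
    · obtain ⟨w, ξ, d, hw, hξ, hwb, hd⟩ := exists_partner hsq (pow_mem (S.grp.mul_mem ha ha) k) hr hrn hns hc
      obtain ⟨l, v', ζ, ν, h⟩ := exists_split_odd (pow_mem (S.grp.mul_mem ha ha) k) hw hr hr2 hξ hwb hc hd
      exact hsplit r l v' ζ ν h
  have hm1ne : (-1 : Eˣ) ≠ 1 := fun e => h2 (by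
    have : ((-1 : Eˣ) : E) = 1 := congrArg Units.val e
    rw [Units.val_neg, Units.val_one] at this
    linear_combination -this)
  have hanti : ∀ a ∈ S.grp, ∀ b ∈ S.grp, a * b = b * a ∨ a * b = sc (-1) * (b * a) := by
    intro a ha b hb
    obtain ⟨c, hc⟩ := S.comm a ha b hb
    obtain ⟨d, hd⟩ := hsqr b hb
    have h1 := comm_pow a b hc 2
    rw [pow_two b, hd, ← sc_comm] at h1
    have hc2 : c ^ 2 = 1 := sc_inj (W := W) ((mul_eq_right.1 h1.symm).trans (map_one sc).symm)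
    have : (c : E) = 1 ∨ (c : E) = -1 := sq_eq_one_iff.1 (by rw [← Units.val_pow_eq_pow_val, hc2, Units.val_one])
    rcases this with h | h
    · left; rw [hc, show c = 1 from Units.ext h, map_one, one_mul]
    · right; rw [hc, show c = -1 from Units.ext (by rw [h, Units.val_neg, Units.val_one])]
  have hprim : IsPrimitiveRoot (-1 : Eˣ) 2 := by
    refine IsPrimitiveRoot.mk_of_lt _ (by norm_num) (by simp) fun i hi hi2 => ?_
    interval_cases i
    simpa using hm1ne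
  -- squares of non-scalar elements are non-squares
  have hnon : ∀ a ∈ S.grp, (¬ ∃ c : Eˣ, a = sc c) → ∀ c : Eˣ, a * a = sc c → ∀ e : Eˣ, c ≠ e * e := by
    intro a ha hns c hc e he
    obtain ⟨w, hw, hwa⟩ : ∃ w ∈ S.grp, w * a ≠ a * w := by
      by_contra hno
      push Not at hno
      exact hns (S.center a ha fun m hm => (hno m hm).symm)
    obtain ⟨d, hd⟩ := hsqr w hw
    exact hsplit 2 _ w (-1) d (split_of_root ha hw Nat.prime_two hprim ((hanti w hw a ha).resolve_left hwa)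
      (e := e) (by rw [pow_two, pow_two, hc, he]) (by rw [pow_two, hd]))
  obtain ⟨g, hg⟩ := exists_generator (E := E)
  -- a non-square is an odd power
  have hodd : ∀ c : Eˣ, (∀ e : Eˣ, c ≠ e * e) → ∃ k, c = g * (g ^ k * g ^ k) := by
    intro c hc
    obtain ⟨i, rfl⟩ := hg c
    obtain ⟨k, hk⟩ : Odd i := by
      rcases Nat.even_or_odd i with ⟨k, hk⟩ | h
      · exact absurd (by rw [hk, pow_add]) (hc (g ^ k))
      · exact h
    exact ⟨k, by rw [hk, pow_succ', two_mul, pow_add]⟩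
  have hprod : ∀ c d : Eˣ, (∀ e : Eˣ, c ≠ e * e) → (∀ e : Eˣ, d ≠ e * e) → ∃ e : Eˣ, c * d = e * e := by
    intro c d hc hd
    obtain ⟨i, rfl⟩ := hodd c hc
    obtain ⟨j, rfl⟩ := hodd d hd
    exact ⟨g * g ^ i * g ^ j, by simp only [mul_assoc, mul_left_comm]⟩
  obtain ⟨a, ha, hns⟩ : ∃ a ∈ S.grp, ¬ ∃ c : Eˣ, a = sc c := by
    simpa [Sys.Trivial] using htriv
  obtain ⟨b, hb, hba⟩ : ∃ b ∈ S.grp, a * b ≠ b * a := by
    by_contra hno
    push Not at hno
    exact hns (S.center a ha fun m hm => hno m hm)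
  have hab := (hanti a ha b hb).resolve_left hba
  have hnb : ¬ ∃ c : Eˣ, b = sc c := by rintro ⟨c, rfl⟩; exact hba (sc_comm c a).symm
  obtain ⟨ca, hca⟩ := hsqr a ha
  obtain ⟨cb, hcb⟩ := hsqr b hb
  have hab2 : a * b * (a * b) = sc (-1 * (ca * cb)) := by
    calc a * b * (a * b) = a * (b * a) * b := by group
      _ = a * (sc (-1) * (a * b)) * b := by
          rw [comm_symm a b hab]
          simp
      _ = sc (-1) * (a * a * (b * b)) := by rw [← mul_assoc a, ← sc_comm]; group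
      _ = _ := by rw [hca, hcb, ← map_mul, ← map_mul]
  have hnab : ¬ ∃ c : Eˣ, a * b = sc c := by
    rintro ⟨c, hc⟩
    exact hba (by
      have h1 : b = a⁻¹ * sc c := by rw [← hc]; group
      rw [h1, ← mul_assoc, mul_inv_cancel, one_mul, mul_assoc, sc_comm, ← mul_assoc, inv_mul_cancel, one_mul])
  have hm1 : ∀ e : Eˣ, (-1 : Eˣ) ≠ e * e := by
    intro e he
    obtain ⟨f, hf⟩ := hprod ca cb (hnon a ha hns ca hca) (hnon b hb hnb cb hcb)
    exact hnon (a * b) (S.grp.mul_mem ha hb) hnab _ hab2 (e * f) (by rw [he, hf, mul_mul_mul_comm])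
  have hnorm : ∀ c : Eˣ, (∀ e : Eˣ, c ≠ e * e) → ∃ e : Eˣ, e * e * c = -1 := by
    intro c hc
    obtain ⟨f, hf⟩ := hprod (-1) c hm1 hc
    refine ⟨f * c⁻¹, ?_⟩
    calc f * c⁻¹ * (f * c⁻¹) * c = (f * f) * c⁻¹ := by
          rw [mul_mul_mul_comm, mul_assoc, mul_assoc c⁻¹, inv_mul_cancel, mul_one]
      _ = -1 := by rw [← hf, mul_inv_cancel_right]
  obtain ⟨ea, hea⟩ := hnorm ca (hnon a ha hns ca hca)
  obtain ⟨eb, heb⟩ := hnorm cb (hnon b hb hnb cb hcb)
  -- commuting non-scalar elements agree up to scalars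
  have hagree : ∀ x ∈ S.grp, ∀ y ∈ S.grp, (¬ ∃ c : Eˣ, x = sc c) → x * y = y * x →
      ∃ c : Eˣ, y = sc c ∨ y = sc c * x := by
    intro x hx y hy hnx hxy
    by_cases hny : ∃ c : Eˣ, y = sc c
    · obtain ⟨c, hc⟩ := hny; exact ⟨c, Or.inl hc⟩
    by_cases hxys : ∃ c : Eˣ, x * y = sc c
    · obtain ⟨c, hc⟩ := hxys
      obtain ⟨cx, hcx⟩ := hsqr x hx
      refine ⟨cx⁻¹ * c, Or.inr ?_⟩
      have h1 : x * (x * y) = x * sc c := by rw [hc]
      rw [← mul_assoc, hcx, ← sc_comm c x] at h1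
      rw [map_mul, mul_assoc, ← h1, ← mul_assoc, ← map_mul, inv_mul_cancel, map_one, one_mul]
    · exfalso
      obtain ⟨cx, hcx⟩ := hsqr x hx
      obtain ⟨cy, hcy⟩ := hsqr y hy
      obtain ⟨f, hf⟩ := hprod cx cy (hnon x hx hnx cx hcx) (hnon y hy hny cy hcy)
      refine hnon (x * y) (S.grp.mul_mem hx hy) hxys (cx * cy) ?_ f hf
      rw [map_mul, ← hcx, ← hcy]
      calc x * y * (x * y) = x * (y * x) * y := by group
        _ = x * (x * y) * y := by rw [hxy]
        _ = _ := by group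
  have habu : ∀ u, a (b u) = ((-1 : Eˣ) : E) • b (a u) := fun u => by
    have := LinearEquiv.congr_fun hab u
    rwa [app_mul, app_mul, app_mul, sc_apply] at this
  refine ⟨sc ea * a, sc eb * b,
    { ha := S.grp.mul_mem (S.scal _) ha, hb := S.grp.mul_mem (S.scal _) hb, sqa := ?_, sqb := ?_, anti := ?_,
      span := ?_, nonsq := ?_ }⟩
  · rw [← pow_two, pow_smul_scalar, pow_two, pow_two, hca, ← map_mul, hea]
  · rw [← pow_two, pow_smul_scalar, pow_two, pow_two, hcb, ← map_mul, heb]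
  · refine LinearEquiv.ext fun u => ?_
    simp only [app_mul, sc_apply, map_smul, smul_smul, habu, Units.val_neg, Units.val_one]
    congr 1
    ring
  · intro m hm
    have hA : ∀ s, sc s * a = sc (s * ea⁻¹) * (sc ea * a) := fun s => by
      rw [← mul_assoc, ← map_mul, inv_mul_cancel_right]
    have hB : ∀ s, sc s * b = sc (s * eb⁻¹) * (sc eb * b) := fun s => by
      rw [← mul_assoc, ← map_mul, inv_mul_cancel_right]
    have hAB : ∀ s, sc s * (a * b) = sc (s * ea⁻¹ * eb⁻¹) * (sc ea * a * (sc eb * b)) := fun s => by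
      refine LinearEquiv.ext fun u => ?_
      simp only [app_mul, sc_apply, map_smul, smul_smul, Units.val_mul, Units.val_inv_eq_inv_val]
      congr 1
      field_simp
    rcases hanti a ha m hm with hma | hma
    · obtain ⟨c, hc | hc⟩ := hagree a ha m hm hns hma
      · exact ⟨c, Or.inl hc⟩
      · exact ⟨_, Or.inr (Or.inl (hc.trans (hA c)))⟩
    · -- `b * m` commutes with `a`
      have hcm : a * (b * m) = b * m * a := by
        rw [comm_scalar a b m hab hma, neg_mul_neg, one_mul, map_one, one_mul]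
      obtain ⟨c, hc | hc⟩ := hagree a ha (b * m) (S.grp.mul_mem hb hm) hns hcm
      · refine ⟨cb⁻¹ * c * eb⁻¹, Or.inr (Or.inr (Or.inl ?_))⟩
        rw [← hB, map_mul, map_inv, mul_assoc, sc_comm c b, ← mul_assoc, ← hcb, mul_inv_rev, ← hc]
        group
      · refine ⟨cb⁻¹ * c * (-1) * ea⁻¹ * eb⁻¹, Or.inr (Or.inr (Or.inr ?_))⟩
        rw [← hAB]
        refine LinearEquiv.ext fun u => b.injective ?_
        have h1 := LinearEquiv.congr_fun hc u
        have h2' := LinearEquiv.congr_fun hcb (a u)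
        rw [app_mul, sc_apply] at h2'
        rw [app_mul, app_mul, sc_apply] at h1
        rw [h1, app_mul, app_mul, sc_apply, habu, map_smul, map_smul, h2', smul_smul, smul_smul]
        congr 1
        simp only [Units.val_mul, Units.val_inv_eq_inv_val, Units.val_neg, Units.val_one]
        field_simp
  · intro x hx
    have hx0 : x ≠ 0 := fun e => by rw [e, mul_zero] at hx; exact one_ne_zero (neg_eq_zero.1 hx.symm)
    exact hm1 (Units.mk0 x hx0) (Units.ext (by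
      rw [Units.val_neg, Units.val_one, Units.val_mul, Units.val_mk0, hx]))

end Cfsg.Agent.BaseTwo
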