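import Cfsg.Agent.Lib.BaseTwo.Step
import Cfsg.Agent.Lib.BaseTwo.Pairs

/-! Where the recursion starts, and when the new first vector is moved by all but the scalars. -/

set_option autoImplicit false
set_option linter.style.haveILetI false

namespace Cfsg.Agent.BaseTwo

variable {E W : Type} [Field E] [AddCommGroup W] [Module E W] [Nontrivial W] {n : ℕ} {S : Sys E W n}
  {r : ℕ} {l v : W ≃ₗ[E] W} {ζ ν : Eˣ}

theorem Split.reduce (h : Split S r l v ζ ν) (i : ℕ) (u : W) :
    (v ^ i) u = (v ^ (i % r)) (((ν ^ (i / r) : Eˣ) : E) • u) := by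
  conv_lhs => rw [← Nat.mod_add_div i r, pow_add, pow_mul, h.vpow, ← map_pow, app_mul, sc_apply]

/-- The equation for an eigenvalue on the new first vector, slot by slot. -/
theorem Split.newX_slots (h : Split S r l v ζ ν) {c : E} {y w : W} (hy : y ∈ P0 l) (hw : w ∈ P0 l) {j : ℕ}
    (hj : j < r) {δ : W ≃ₗ[E] W} (hδ : δ ∈ Cent S l) {τ : Eˣ} (hτ : δ * v = sc τ * (v * δ)) {a : E}
    (he : (v ^ j * δ) (newX r v c y w) = a • newX r v c y w) :
    ∀ q < r, (if q = j then δ y else 0)
      + (if q = (j + 1) % r then ((τ : E) * ((ν ^ ((j + 1) / r) : Eˣ) : E)) • δ w else 0)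
      + (if q = (j + 2) % r then
          ((if r = 2 then 0 else c) * ((τ : E) * (τ : E)) * ((ν ^ ((j + 2) / r) : Eˣ) : E)) • δ w else 0)
      - (if q = 0 then a • y else 0) - (if q = 1 then a • w else 0)
      - (if q = 2 then (a * (if r = 2 then 0 else c)) • w else 0) = 0 := by
  set c' : E := if r = 2 then 0 else c with hc'
  have hX : newX r v c y w = y + v w + c' • (v ^ 2) w := by
    rw [newX, hc']
    split_ifs <;> simp
  have hδv : ∀ z, δ (v z) = (τ : E) • v (δ z) := fun z => LinearEquiv.congr_fun hτ z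
  have hδw : δ w ∈ P0 l := Cent.apply_mem hδ hw
  let u : ℕ → W := fun q => (if q = j then δ y else 0)
      + (if q = (j + 1) % r then ((τ : E) * ((ν ^ ((j + 1) / r) : Eˣ) : E)) • δ w else 0)
      + (if q = (j + 2) % r then (c' * ((τ : E) * (τ : E)) * ((ν ^ ((j + 2) / r) : Eˣ) : E)) • δ w else 0)
      - (if q = 0 then a • y else 0) - (if q = 1 then a • w else 0) - (if q = 2 then (a * c') • w else 0)
  have hone : ∀ (b : ℕ) (z : W), (b < r ∨ z = 0) →
      ∑ q ∈ Finset.range r, (v ^ q) (if q = b then z else 0) = (v ^ b) z := by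
    intro b z hb
    rcases hb with hb | rfl
    · rw [Finset.sum_eq_single b (fun q _ hq => by rw [if_neg hq, map_zero])
        (fun h' => absurd (Finset.mem_range.2 hb) h'), if_pos rfl]
    · simp
  have h2 : 2 < r ∨ (a * c') • w = 0 := by
    rcases (show r = 2 ∨ 2 < r by have := h.hr.two_le; omega) with h2 | h2
    · right; rw [hc', if_pos h2, mul_zero, zero_smul]
    · exact Or.inl h2
  have hsum : ∑ q ∈ Finset.range r, (v ^ q) (u q) = 0 := by
    simp only [u, map_add, map_sub, Finset.sum_add_distrib, Finset.sum_sub_distrib]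
    rw [hone j _ (Or.inl hj), hone _ _ (Or.inl (Nat.mod_lt _ h.hr.pos)),
      hone _ _ (Or.inl (Nat.mod_lt _ h.hr.pos)), hone 0 _ (Or.inl h.hr.pos), hone 1 _ (Or.inl h.hr.one_lt),
      hone 2 _ h2]
    have h1z : ∀ z, (v ^ j) (v z) = (v ^ ((j + 1) % r)) (((ν ^ ((j + 1) / r) : Eˣ) : E) • z) := fun z => by
      rw [← app_mul, ← pow_succ, h.reduce (j + 1)]
    have h2z : ∀ z, (v ^ j) (v (v z)) = (v ^ ((j + 2) % r)) (((ν ^ ((j + 2) / r) : Eˣ) : E) • z) := fun z => by
      rw [← app_mul v v, ← app_mul, show v ^ j * (v * v) = v ^ (j + 2) by rw [pow_add, pow_two], h.reduce (j + 2)]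
    rw [hX, pow_two v] at he
    simp only [app_mul, map_add, map_smul, hδv, smul_smul, smul_add] at he
    simp only [h2z] at he
    simp only [h1z] at he
    simp only [map_smul, smul_smul] at he
    simp only [map_smul, smul_smul, pow_zero, app_one, pow_one, pow_two v, app_mul]
    rw [sub_sub, sub_sub, sub_eq_zero]
    convert he using 1
    abel
  have hu := h.slots (Finset.range r) (fun q hq => Finset.mem_range.1 hq) u (fun q _ => by
    refine sub_mem (sub_mem (sub_mem (add_mem (add_mem ?_ ?_) ?_) ?_) ?_) ?_ <;> split_ifs <;>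
      (first
        | exact zero_mem _
        | exact Cent.apply_mem hδ hy
        | exact Submodule.smul_mem _ _ hδw
        | exact Submodule.smul_mem _ _ hy
        | exact Submodule.smul_mem _ _ hw)) hsum
  intro q hq
  exact hu q (Finset.mem_range.2 hq)

theorem add_mod_ne {r j k : ℕ} (hj : j < r) (hk : 0 < k) (hkr : k < r) : (j + k) % r ≠ j := by
  intro e
  rcases Nat.lt_or_ge (j + k) r with hlt | hge
  · rw [Nat.mod_eq_of_lt hlt] at e; omega
  · rw [Nat.mod_eq_sub_mod hge, Nat.mod_eq_of_lt (by omega)] at e; omega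

theorem Split.scalar_end (h : Split S r l v ζ ν) {x : W} (hx0 : x ≠ 0) (hxP : x ∈ P0 l) {δ : W ≃ₗ[E] W} {s τ : Eˣ}
    {k : ℕ} (hk : k < r) (hδe : δ = sc s * l ^ k) (hτ : δ * v = sc τ * (v * δ)) {a : E}
    (h1 : (τ : E) * (s : E) - a = 0) (hsa : (s : E) = a) : δ = sc s := by
  have hτ1 : τ = 1 := Units.ext (mul_right_cancel₀ s.ne_zero (by rw [Units.val_one, one_mul]; linear_combination h1 - hsa))
  have h2 := comm_pow v l h.comm k
  rw [hδe, hτ1, map_one, one_mul, mul_assoc, ← mul_assoc v, ← sc_comm, mul_assoc] at hτ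
  rw [← mul_left_cancel hτ] at h2
  have h3 : ζ ^ k = ζ ^ 0 := by
    rw [pow_zero]; exact sc_injective hx0 ((mul_eq_right.1 h2.symm).trans (map_one sc).symm)
  rw [hδe, h.hζ.pow_inj hk h.hr.pos h3, pow_zero, mul_one]

/-- The new first vector, when `y` is not a translate of `w`. -/
theorem Split.lineFree_of_out (h : Split S r l v ζ ν) {x y w : P0 l} (hp : Tri h.sys x y w) {c : E} (hc : c ≠ 0) :
    LineFree S (newX r v c (y : W) (w : W)) := by
  have hy0 : (y : W) ≠ 0 := fun e => hp.ne (Subtype.ext e)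
  have hw0 : (w : W) ≠ 0 := fun e => hp.freeW.1 (Subtype.ext e)
  refine ⟨h.newX_ne hc y.2 w.2 hy0 hw0, fun m hm a he => ?_⟩
  obtain ⟨j, hj, δ, hδ, rfl⟩ := h.decompose hm
  obtain ⟨τ, hτ⟩ := S.comm δ (mem_Cent.1 hδ).1 v h.hv
  have e := h.newX_slots y.2 w.2 hj hδ hτ he
  have h2le := h.hr.two_le
  have hj1 : (j + 1) % r ≠ j := add_mod_ne hj one_pos h.hr.one_lt
  have hj2 : ∀ q, q = (j + 2) % r → q = j → r = 2 := by
    intro q h1 h2
    by_contra hne
    exact add_mod_ne hj two_pos (by omega) (h1.symm.trans h2)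
  by_cases hj0 : j = 0
  · subst hj0
    have e0 := e 0 h.hr.pos
    have e1 := e 1 h.hr.one_lt
    have hB0 : (if (0 : ℕ) = (0 + 2) % r then
          ((if r = 2 then 0 else c) * ((τ : E) * (τ : E)) * ((ν ^ ((0 + 2) / r) : Eˣ) : E)) • δ (w : W)
          else 0) = 0 := by
      split_ifs with h1 h3
      · rw [zero_mul, zero_mul, zero_smul]
      · exact absurd (hj2 0 h1 rfl) h3
      · rfl
    have hB1 : (1 : ℕ) ≠ (0 + 2) % r := by
      rcases (show r = 2 ∨ 3 ≤ r by omega) with rfl | h3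
      · norm_num
      · rw [Nat.mod_eq_of_lt (by omega)]; omega
    have h11 : (1 : ℕ) = (0 + 1) % r := by rw [Nat.mod_eq_of_lt (by omega)]
    rw [hB0, if_pos rfl, if_neg (Ne.symm hj1), if_pos rfl, if_neg (by omega : (0:ℕ) ≠ 1),
      if_neg (by omega : (0:ℕ) ≠ 2)] at e0
    rw [if_neg (by omega : (1:ℕ) ≠ 0), if_pos h11, if_neg hB1, if_neg (by omega : (1:ℕ) ≠ 0), if_pos rfl,
      if_neg (by omega : (1:ℕ) ≠ 2), Nat.div_eq_of_lt (by omega : 0 + 1 < r), pow_zero, Units.val_one,
      mul_one] at e1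
    simp only [add_zero, zero_add, sub_zero, sub_eq_zero] at e0 e1
    have hdw : δ (w : W) = ((τ : E)⁻¹ * a) • (w : W) := by
      rw [mul_smul, ← e1, smul_smul, inv_mul_cancel₀ τ.ne_zero, one_smul]
    obtain ⟨s, k, hk, he', hs⟩ := h.line hp.freeW (mem_Cent.1 hδ).1 hdw
    refine ⟨s, ?_⟩
    rw [pow_zero, one_mul]
    have hsa : (s : E) = a := by
      have := e0
      rw [he', app_mul, sc_apply, h.l_pow_fix y.2] at this
      exact smul_left_injective E hy0 this
    refine h.scalar_end hw0 w.2 hk he' hτ ?_ hsa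
    rw [hs, ← mul_assoc, mul_inv_cancel₀ τ.ne_zero, one_mul, sub_self]
  · exfalso
    have ej := e j hj
    have hB : (if j = (j + 2) % r then
          ((if r = 2 then 0 else c) * ((τ : E) * (τ : E)) * ((ν ^ ((j + 2) / r) : Eˣ) : E)) • δ (w : W)
          else 0) = 0 := by
      split_ifs with h1 h3
      · rw [zero_mul, zero_mul, zero_smul]
      · exact absurd (hj2 j h1 rfl) h3
      · rfl
    rw [hB, if_pos rfl, if_neg (Ne.symm hj1), if_neg hj0, add_zero, add_zero, sub_zero] at ej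
    obtain ⟨q, hq⟩ : ∃ q : E, δ (y : W) = q • (w : W) := by
      rw [sub_eq_zero, sub_eq_iff_eq_add] at ej
      refine ⟨(if j = 1 then a else 0) + (if j = 2 then a * (if r = 2 then 0 else c) else 0), ej.trans ?_⟩
      rw [add_smul, add_comm]
      split_ifs <;> simp
    have hq0 : q ≠ 0 := fun e => hy0 ((LinearEquiv.map_eq_zero_iff δ).1 (by rw [hq, e, zero_smul]))
    refine hp.out _ (h.mem_sys (δ := δ⁻¹ * sc (Units.mk0 q hq0)) (mul_mem (inv_mem hδ) (Split.sc_mem _)))
      (Subtype.ext ?_)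
    show ((δ⁻¹ * sc (Units.mk0 q hq0) : W ≃ₗ[E] W)) (w : W) = (y : W)
    rw [app_mul, sc_apply, Units.val_mk0, ← hq, app_inv_app]

/-- The new first vector over a group of scalars. -/
theorem Split.lineFree_of_trivial (h : Split S r l v ζ ν) (ht : h.sys.Trivial) {x : P0 l} (hx : x ≠ 0) {θ c : E}
    (hθ : θ ≠ 0) (hc : c = 1 ∨ c = -1) (hr2 : r = 2 → θ ^ 4 ≠ (ν : E) ^ 2) (hr3 : r = 3 → (θ * c) ^ 3 ≠ 1) :
    LineFree S (newX r v c ((θ • x : P0 l) : W) (x : W)) := by
  have hx0 : (x : W) ≠ 0 := fun e => hx (Subtype.ext e)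
  have hc0 : c ≠ 0 := by rcases hc with rfl | rfl <;> simp
  have hy0 : θ • (x : W) ≠ 0 := smul_ne_zero hθ hx0
  refine ⟨h.newX_ne hc0 (θ • x).2 x.2 hy0 hx0, fun m hm a he => ?_⟩
  obtain ⟨j, hj, δ, hδ, rfl⟩ := h.decompose hm
  obtain ⟨τ, hτ⟩ := S.comm δ (mem_Cent.1 hδ).1 v h.hv
  obtain ⟨s₀, hs₀⟩ := ht _ (h.mem_sys hδ)
  have hsc := res_eq_sc hs₀
  obtain ⟨s, k, hk, hδe, hs⟩ := h.of_scalar hx0 x.2 hδ hsc
  have hτr : τ ^ r = 1 := by
    have h1 := comm_pow v δ (comm_symm δ v hτ) r
    have h2 : δ ^ r = sc (s ^ r) := by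
      rw [hδe, (show Commute (sc s) (l ^ k) from sc_comm s _).mul_pow, ← pow_mul, mul_comm k, pow_mul, h.lpow,
        one_pow, mul_one, map_pow]
    rw [h2, ← sc_comm] at h1
    have h3 : (τ⁻¹) ^ r = 1 := sc_inj (W := W) ((mul_eq_right.1 h1.symm).trans (map_one sc).symm)
    rwa [inv_pow, inv_eq_one] at h3
  have hτr' : (τ : E) ^ r = 1 := by rw [← Units.val_pow_eq_pow_val, hτr, Units.val_one]
  have e := h.newX_slots (θ • x).2 x.2 hj hδ hτ he
  rw [show ((θ • x : P0 l) : W) = θ • (x : W) from rfl, map_smul, hsc _ x.2, ← hs] at e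
  simp only [smul_smul] at e
  -- scalar equations
  have key : ∀ q < r, (if q = j then θ * (s : E) else 0)
      + (if q = (j + 1) % r then (τ : E) * ((ν ^ ((j + 1) / r) : Eˣ) : E) * (s : E) else 0)
      + (if q = (j + 2) % r then
          (if r = 2 then 0 else c) * ((τ : E) * (τ : E)) * ((ν ^ ((j + 2) / r) : Eˣ) : E) * (s : E) else 0)
      - (if q = 0 then a * θ else 0) - (if q = 1 then a else 0)
      - (if q = 2 then a * (if r = 2 then 0 else c) else 0) = 0 := by
    intro q hq
    refine (smul_eq_zero.1 ?_).resolve_right hx0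
    rw [← e q hq]
    simp only [sub_smul, add_smul, ite_smul, zero_smul]
  have hs0 : (s : E) ≠ 0 := s.ne_zero
  by_cases hj0 : j = 0
  · subst hj0
    rw [pow_zero, one_mul] at he ⊢
    refine ⟨s, ?_⟩
    have e0 := key 0 h.hr.pos
    have e1 := key 1 h.hr.one_lt
    rcases (show r = 2 ∨ 3 ≤ r by have := h.hr.two_le; omega) with h2 | h3
    · subst h2
      norm_num at e0 e1
      have hsa : (s : E) = a := mul_left_cancel₀ hθ ((sub_eq_zero.1 e0).trans (mul_comm a θ))
      exact h.scalar_end hx0 x.2 hk hδe hτ (by linear_combination e1 + hsa * 0) hsa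
    · simp (disch := omega) only [Nat.mod_eq_of_lt, Nat.div_eq_of_lt, if_neg, if_pos] at e0 e1
      norm_num at e0 e1
      have hsa : (s : E) = a := mul_left_cancel₀ hθ ((sub_eq_zero.1 e0).trans (mul_comm a θ))
      exact h.scalar_end hx0 x.2 hk hδe hτ (by linear_combination e1) hsa
  · exfalso
    rcases (show r = 2 ∨ r = 3 ∨ 5 ≤ r by
      have := h.hr.two_le
      rcases (show r = 2 ∨ r = 3 ∨ r = 4 ∨ 5 ≤ r by omega) with h' | h' | h' | h'
      · exact Or.inl h'
      · exact Or.inr (Or.inl h')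
      · exact absurd (h' ▸ h.hr) (by norm_num)
      · exact Or.inr (Or.inr h')) with h2 | h3 | h5
    · subst h2
      obtain rfl : j = 1 := by omega
      have e0 := key 0 (by norm_num)
      have e1 := key 1 (by norm_num)
      norm_num at e0 e1
      refine hr2 rfl ?_
      have hν2 : θ ^ 2 = (τ : E) * (ν : E) := mul_left_cancel₀ hs0 (by linear_combination -e0 + θ * e1)
      linear_combination (θ ^ 2 + (τ : E) * (ν : E)) * hν2 + (ν : E) ^ 2 * hτr'
    · subst h3
      have e0 := key 0 (by norm_num)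
      have e1 := key 1 (by norm_num)
      have e2 := key 2 (by norm_num)
      have hc2 : c * c = 1 := by rcases hc with rfl | rfl <;> ring
      obtain rfl | rfl : j = 1 ∨ j = 2 := by omega
      · norm_num at e0 e1 e2
        refine hr3 rfl ?_
        have : θ * c = (τ : E) := mul_left_cancel₀ hs0 (by linear_combination -e2 + c * e1)
        rw [this, hτr']
      · norm_num at e0 e1 e2
        refine hr3 rfl ?_
        have h1 : (τ : E) * (ν : E) * (s : E) * (1 - θ * c * (τ : E)) = 0 := by linear_combination e0 - θ * e1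
        have h2 : θ * c * (τ : E) = 1 := by
          rcases mul_eq_zero.1 h1 with h' | h'
          · exact absurd h' (mul_ne_zero (mul_ne_zero τ.ne_zero ν.ne_zero) hs0)
          · exact (sub_eq_zero.1 h').symm
        calc (θ * c) ^ 3 = (θ * c) ^ 3 * (τ : E) ^ 3 := by rw [hτr', mul_one]
          _ = 1 := by rw [← mul_pow, h2, one_pow]
    · rcases (show j = 1 ∨ j = 2 ∨ 3 ≤ j by omega) with rfl | rfl | hj3
      · have e3 := key 3 (by omega)
        simp (disch := omega) only [Nat.mod_eq_of_lt, Nat.div_eq_of_lt, if_neg, if_pos] at e3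
        norm_num [hc0] at e3
      · have e3 := key 3 (by omega)
        simp (disch := omega) only [Nat.mod_eq_of_lt, Nat.div_eq_of_lt, if_neg, if_pos] at e3
        norm_num at e3
      · have ej := key j hj
        have h1 : j ≠ (j + 1) % r := (add_mod_ne hj one_pos h.hr.one_lt).symm
        have h2 : j ≠ (j + 2) % r := (add_mod_ne hj two_pos (by omega)).symm
        simp (disch := first | assumption | omega) only [if_neg, if_pos] at ej
        norm_num [hθ] at ej

end Cfsg.Agent.BaseTwo
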