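import Cfsg.Agent.Lib.BaseTwo.Check

/-! Certificates for the small models. -/

set_option autoImplicit false
set_option linter.style.haveILetI false
set_option maxRecDepth 100000

namespace Cfsg.Agent.BaseTwo

/-- Generators of the model of plus type. -/
def gensP (q : ℕ) : ℕ → List (List ℕ → List ℕ)
  | 0 => []
  | k + 1 => extG q (2 ^ k) (gensP q k)

/-- Generators of the model of minus type. -/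
def gensM : ℕ → List (List ℕ → List ℕ)
  | 0 => []
  | 1 => [quatA, quatB]
  | k + 2 => extG 3 (2 ^ (k + 1)) (gensM (k + 1))

/-- Certificate. -/
def plus3Steps : List (List Step) :=
  [
    [.push 0 0, .rel 0 1 [0, 1], .rel 0 2 [1]],
    [.push 1 0, .rel 1 1 [2, 2, 0, 2], .rel 1 2 [1, 2, 1, 1], .rel 1 3 [1], .rel 0 3 [2, 1, 2, 2]],
    [.push 2 0, .push 2 1, .rel 2 2 [1, 1, 1, 0, 2, 2], .rel 2 3 [2, 0, 0, 1, 1], .rel 2 4 [1], .rel 0 4 [1, 1, 1, 0, 2, 2], .rel 1 4 [2, 0, 0, 1, 1], .rel 2 5 [0, 1], .rel 0 5 [0, 0, 0, 0, 0, 1], .rel 1 5 [1, 0, 0, 2, 1, 2]],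
    [.push 3 0, .push 3 1, .rel 3 2 [1, 0, 1, 0, 0, 0, 2], .rel 3 3 [0, 1, 0, 1, 0, 0, 0, 2], .rel 3 4 [2, 1, 1, 1, 2, 0, 1], .rel 3 5 [2, 1, 2, 0, 0, 2, 0, 1], .rel 3 6 [1], .rel 0 6 [1, 0, 1, 0, 0, 0, 2], .rel 1 6 [0, 1, 0, 1, 0, 0, 0, 2], .rel 2 6 [1, 2, 2, 2, 1, 0, 2], .rel 3 7 [0, 1], .rel 0 7 [0, 0, 0, 0, 0, 0, 0, 1], .rel 1 7 [0, 2, 0, 2, 0, 0, 2], .rel 2 7 [1, 2, 1, 0, 0, 1, 0, 2]],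
    [.rel 4 0 [0, 0, 2, 1, 1, 2, 2, 1], .rel 4 1 [1, 2, 1, 0, 0, 2, 0, 1], .rel 4 2 [1, 2, 2, 2, 2, 1, 1, 1], .rel 4 3 [1, 2, 2, 2, 0, 1, 2, 1], .rel 4 4 [2, 1, 1, 2, 1, 2, 1, 2], .rel 4 5 [2, 2, 2, 0, 0, 2, 0, 2], .rel 4 6 [1, 2, 1, 2, 2, 1, 2, 1], .rel 4 7 [2, 0, 2, 0, 0, 1, 0, 1]],
    [.rel 5 0 [2, 1, 1, 1], .rel 5 1 [2, 1, 2], .rel 5 2 [0, 2, 1, 2], .rel 5 3 [1, 1, 1, 2], .rel 5 4 [0, 1, 1, 1, 2], .rel 5 5 [2, 2, 2, 0, 0, 2], .rel 5 6 [1, 1, 1, 1, 0, 0, 1], .rel 5 7 [2, 0, 2, 0, 0, 0, 0, 1]]]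

theorem plus3_cert :
    node 3 8 (gensP 3 3) [2, 0, 1, 0, 1, 1, 2, 2] [2, 2, 2, 0, 1, 2, 2, 2] plus3Steps [] [([2, 1, 2, 0, 1, 0, 1, 0], [2, 1, 2, 0, 1, 0, 1, 0]), ([1, 2, 1, 0, 1, 2, 1, 0], [1, 2, 1, 0, 1, 2, 1, 0])] = true := by
  decide +kernel

/-- Certificate. -/
def minus3Steps : List (List Step) :=
  [
    [.push 0 0, .rel 0 1 [2, 1, 1], .rel 0 2 [1]],
    [.push 1 0, .rel 1 1 [2, 0, 1, 1], .rel 1 2 [2, 1, 0, 1], .rel 1 3 [1], .rel 0 3 [1, 2, 0, 2]],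
    [.push 2 0, .push 2 1, .rel 2 2 [1, 1, 2, 0, 1, 1], .rel 2 3 [2, 0, 0, 2, 2], .rel 2 4 [1], .rel 0 4 [1, 1, 2, 0, 1, 1], .rel 1 4 [2, 0, 0, 2, 2], .rel 2 5 [0, 1], .rel 0 5 [1, 1, 2, 0, 0, 2], .rel 1 5 [0, 1, 2, 2, 2, 1]],
    [.push 3 0, .push 3 1, .rel 3 2 [2, 1, 0, 0, 2, 1, 1, 1], .rel 3 3 [1, 1, 0, 0, 1, 1, 2], .rel 3 4 [1, 2, 1, 2, 0, 0, 2], .rel 3 5 [0, 1, 2, 2, 0, 0, 0, 2], .rel 3 6 [1], .rel 0 6 [2, 1, 0, 0, 2, 1, 1, 1], .rel 1 6 [1, 1, 0, 0, 1, 1, 2], .rel 2 6 [2, 1, 2, 1, 0, 0, 1], .rel 3 7 [0, 1], .rel 0 7 [2, 1, 0, 0, 2, 1, 0, 2], .rel 1 7 [0, 2, 0, 0, 0, 2, 2, 1], .rel 2 7 [0, 2, 1, 1, 0, 0, 0, 1]],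
    [.rel 4 0 [1, 1, 2, 0, 0, 2, 1], .rel 4 1 [1, 1, 2, 0, 1, 1, 0, 1], .rel 4 2 [2, 1, 0, 0, 2, 2, 1, 1], .rel 4 3 [1, 2, 2, 2, 2, 0, 2], .rel 4 4 [1, 2, 0, 1, 0, 0, 1], .rel 4 5 [0, 2, 2, 1, 0, 0, 0, 1], .rel 4 6 [2, 1, 1, 1, 1, 2, 0, 1], .rel 4 7 [2, 0, 0, 1, 1, 2, 2, 2]],
    [.rel 5 0 [1, 1, 2, 0, 1, 1, 2], .rel 5 1 [1, 1, 2, 0, 2, 0, 0, 2], .rel 5 2 [1, 2, 0, 0, 2, 2, 2, 2], .rel 5 3 [1, 2, 0, 2, 0, 0, 1], .rel 5 4 [1, 2, 2, 2, 0, 0, 2], .rel 5 5 [1, 0, 0, 2, 0, 0, 0, 2], .rel 5 6 [1, 2, 0, 1, 1, 2, 2, 2], .rel 5 7 [0, 2, 2, 1, 1, 2, 1]]]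

theorem minus3_cert :
    node 3 8 (gensM 3) [0, 2, 2, 1, 2, 1, 2, 0] [0, 0, 1, 1, 1, 2, 2, 2] minus3Steps [] [([2, 2, 1, 1, 1, 2, 0, 2], [2, 2, 1, 1, 1, 2, 0, 2]), ([1, 2, 0, 2, 0, 2, 2, 0], [1, 2, 0, 2, 0, 2, 2, 0])] = true := by
  decide +kernel

/-- Certificate. -/
def minus2Steps : List (List Step) :=
  [
    [.rel 0 0 [2], .push 0 1, .rel 0 2 [0, 1]],
    [.rel 1 0 [0, 2, 2], .push 1 1, .rel 1 2 [2, 0, 0, 2], .rel 1 3 [0, 1], .rel 0 3 [1, 0, 0, 1]],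
    [.rel 2 0 [1, 2, 1], .rel 2 1 [0, 0, 1, 1], .rel 2 2 [1, 1, 0, 1], .rel 2 3 [2, 1, 0, 2]],
    [.rel 3 0 [0, 1, 2], .rel 3 1 [2, 0, 0, 2], .rel 3 2 [0, 0, 0, 2], .rel 3 3 [0, 0, 1]]]

theorem minus2_cert :
    node 3 4 (gensM 2) [1, 0, 0, 0] [1, 1, 2, 2] minus2Steps [] [([1, 1, 2, 2], [1, 1, 2, 2]), ([2, 1, 0, 1], [2, 1, 0, 1])] = true := by
  decide +kernel

/-- Certificate. -/
def five2Steps : List (List Step) :=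
  [
    [.push 0 0, .push 0 1, .rel 0 2 [1], .rel 0 3 [0, 1]],
    [.rel 1 0 [3, 0, 1, 3], .rel 1 1 [0, 3, 4, 4], .rel 1 2 [4, 2, 2], .rel 1 3 [1, 1, 0, 2]],
    [.rel 2 0 [4, 3, 0, 3], .rel 2 1 [4, 1, 1], .rel 2 2 [0, 3, 4, 3], .rel 2 3 [1, 0, 4, 1]],
    [.rel 3 0 [1, 1, 3, 4], .rel 3 1 [2, 4, 1, 2], .rel 3 2 [3, 4, 1, 1], .rel 3 3 [1, 2, 2, 4]]]

theorem five2_cert :
    node 5 4 (gensP 5 2) [1, 0, 0, 0] [2, 2, 3, 1] five2Steps [] [([2, 2, 3, 1], [2, 2, 3, 1]), ([2, 3, 1, 0], [2, 3, 1, 0])] = true := by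
  decide +kernel

/-- Certificate. -/
def five1Steps : List (List Step) :=
  [
    [.rel 0 0 [0, 1], .rel 0 1 [1]],
    [.rel 1 0 [1], .rel 1 1 [0, 4]]]

theorem five1_cert :
    node 5 2 (gensP 5 1) [1, 0] [1, 0] five1Steps [] [([1, 0], [1, 0]), ([0, 1], [0, 1])] = true := by
  decide +kernel

/-- Certificate. -/
def plus1Steps : List (List Step) :=
  [
    [.rel 0 0 [0, 1], .rel 0 1 [1]],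
    [.rel 1 0 [1], .rel 1 1 [0, 2]]]

theorem plus1_cert :
    node 3 2 (gensP 3 1) [1, 0] [1, 0] plus1Steps [] [([1, 0], [1, 0]), ([0, 1], [0, 1])] = true := by
  decide +kernel

/-- Certificate. -/
def minus1Steps : List (List Step) :=
  [
    [.rel 0 0 [0, 1], .rel 0 1 [2]],
    [.rel 1 0 [1, 1], .rel 1 1 [1, 2]]]

theorem minus1_cert :
    node 3 2 (gensM 1) [1, 0] [1, 0] minus1Steps [] [([1, 0], [1, 0]), ([0, 1], [0, 1])] = true := by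
  decide +kernel

theorem plus3_lines : (lineOK 3 (gensP 3 3) [2, 1, 2, 0, 1, 0, 1, 0] &&
    lineOK 3 (gensP 3 3) [2, 2, 2, 0, 1, 2, 2, 2] &&
    outOK 3 (gensP 3 3) [1, 2, 1, 0, 1, 2, 1, 0] [2, 2, 2, 0, 1, 2, 2, 2]) = true := by
  decide +kernel

theorem minus3_lines : (lineOK 3 (gensM 3) [2, 2, 1, 1, 1, 2, 0, 2] &&
    lineOK 3 (gensM 3) [0, 0, 1, 1, 1, 2, 2, 2] &&
    outOK 3 (gensM 3) [1, 2, 0, 2, 0, 2, 2, 0] [0, 0, 1, 1, 1, 2, 2, 2]) = true := by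
  decide +kernel

theorem five2_lines : (lineOK 5 (gensP 5 2) [2, 2, 3, 1] &&
    outOK 5 (gensP 5 2) [2, 3, 1, 0] [2, 2, 3, 1]) = true := by
  decide +kernel

end Cfsg.Agent.BaseTwo
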