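import Cfsg.Agent.Lib.BaseTwo.Model

/-! A checker for vectors in a model: semilinear normalisers fixing two of them. -/

set_option autoImplicit false
set_option linter.style.haveILetI false

namespace Cfsg.Agent.BaseTwo

/-- A step of a certificate. -/
inductive Step
  | push (g i : ℕ)
  | rel (g i : ℕ) (cs : List ℕ)

/-- Equality of coordinates, computed. -/
def eqL : List ℕ → List ℕ → Bool
  | [], [] => true
  | a :: as, b :: bs => Nat.beq a b && eqL as bs
  | _, _ => false

theorem eqL_iff : ∀ {a b : List ℕ}, eqL a b = true ↔ a = b := by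
  intro a
  induction a with
  | nil => intro b; cases b <;> simp [eqL]
  | cons x xs ih => intro b; cases b with
    | nil => simp [eqL]
    | cons y ys => simp [eqL, ih]

theorem natBeq (a b : ℕ) : Nat.beq a b = decide (a = b) := by
  by_cases h : a = b
  · subst h; simp
  · simp only [h, decide_false]; exact Bool.eq_false_iff.2 fun e => h (Nat.eq_of_beq_eq_true e)

/-- The candidates: a number and a word. -/
def cands (q : ℕ) (G : List (List ℕ → List ℕ)) : List (ℕ × List Bool) :=
  (List.range' 1 (q - 1)).flatMap fun s => (allBits G.length).map fun bs => (s, bs)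

/-- A candidate applied. -/
def appC (q : ℕ) (G : List (List ℕ → List ℕ)) (c : ℕ × List Bool) (x : List ℕ) : List ℕ :=
  smulL q c.1 (wordF G c.2 x)

/-- The word of one generator. -/
def unitBits (a g : ℕ) : List Bool := (List.range a).map fun i => Nat.beq i g

/-- A combination of pairs. -/
def combo (q N : ℕ) : List ℕ → List (List ℕ × List ℕ) → List ℕ × List ℕ
  | c :: cs, (p, r) :: qs =>
    if Nat.beq c 0 then combo q N cs qs
    else (addL q (smulL q c p) (combo q N cs qs).1, addL q (smulL q c r) (combo q N cs qs).2)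
  | _, _ => (List.replicate N 0, List.replicate N 0)

/-- The outcome of some steps. -/
inductive Outcome
  | invalid
  | impossible
  | pairs (qs : List (List ℕ × List ℕ))

/-- Run the steps. -/
def run (q N : ℕ) (G : List (List ℕ → List ℕ)) (imgs : List (ℕ × List Bool)) :
    List Step → List (List ℕ × List ℕ) → Outcome
  | [], qs => .pairs qs
  | .push g i :: st, qs =>
    match imgs[g]?, qs[i]?, G[g]? with
    | some c, some pr, some f => run q N G imgs st (qs ++ [(f pr.1, appC q G c pr.2)])
    | _, _, _ => .invalid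
  | .rel g i cs :: st, qs =>
    match imgs[g]?, qs[i]?, G[g]? with
    | some c, some pr, some f =>
      if eqL (f pr.1) (combo q N cs qs).1 then
        if eqL (appC q G c pr.2) (combo q N cs qs).2 then run q N G imgs st qs else .impossible
      else .invalid
    | _, _, _ => .invalid

/-- All nodes below one. -/
def node (q N : ℕ) (G : List (List ℕ → List ℕ)) (cw W : List ℕ) :
    List (List Step) → List (ℕ × List Bool) → List (List ℕ × List ℕ) → Bool
  | [], imgs, qs =>
    eqL (combo q N cw qs).1 W &&
      (((List.range G.length).all (fun g => match imgs[g]? with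
          | some c => Nat.beq c.1 1 && c.2 == unitBits G.length g
          | none => false) && eqL (combo q N cw qs).2 W) ||
        (cands q G).all fun c => !eqL (appC q G c W) (combo q N cw qs).2)
  | st :: rest, imgs, qs =>
    (cands q G).all fun c => match run q N G (imgs ++ [c]) st qs with
      | .invalid => false
      | .impossible => true
      | .pairs qs' => node q N G cw W rest (imgs ++ [c]) qs'

/-- Only the scalars fix the line of a vector. -/
def lineOK (q : ℕ) (G : List (List ℕ → List ℕ)) (X : List ℕ) : Bool :=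
  X.any (fun x => !Nat.beq (x % q) 0) &&
    (allBits G.length).all fun bs => bs.all (!·) ||
      (List.range q).all fun d => !eqL ((wordF G bs X).map (· % q)) (smulL q d X)

/-- A vector outside the translates of another. -/
def outOK (q : ℕ) (G : List (List ℕ → List ℕ)) (Y W : List ℕ) : Bool :=
  Y.any (fun x => !Nat.beq (x % q) 0) && (cands q G).all fun c => !eqL (appC q G c W) (Y.map (· % q))

variable {E W : Type} [Field E] [AddCommGroup W] [Module E W] {n : ℕ} {S : Sys E W n}
  {q : ℕ} [CharP E q] {e : List W} {ms : List (W ≃ₗ[E] W)} {G : List (List ℕ → List ℕ)}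

theorem Model.length_eq (hM : Model S e ms G) : ms.length = G.length := hM.rep.length_eq

theorem mem_cands {c : ℕ × List Bool} (h1 : 1 ≤ c.1) (h2 : c.1 < q) (h3 : c.2.length = G.length) :
    c ∈ cands q G := by
  simp only [cands, List.mem_flatMap, List.mem_map, List.mem_range'_1]
  exact ⟨c.1, ⟨h1, by omega⟩, c.2, mem_allBits _ _ h3, rfl⟩

theorem Model.exists_cand (hM : Model S e ms G) (hsurj : ∀ c : E, ∃ i < q, (i : E) = c) {m : W ≃ₗ[E] W}
    (hm : m ∈ S.grp) : ∃ c ∈ cands q G, ∀ u, m u = (c.1 : E) • wordM ms c.2 u := by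
  obtain ⟨s, bs, hbs, rfl⟩ := hM.span m hm
  obtain ⟨i, hi, hie⟩ := hsurj s
  refine ⟨(i, bs), mem_cands ?_ hi (hbs.trans hM.length_eq), fun u => by rw [hie]; rfl⟩
  rcases Nat.eq_zero_or_pos i with rfl | hp
  · exact absurd hie.symm (by simp)
  · exact hp

theorem Model.appC_ev (hM : Model S e ms G) (c : ℕ × List Bool) {x : List ℕ} (hx : x.length = e.length) :
    (appC q G c x).length = e.length ∧ (c.1 : E) • wordM ms c.2 (ev (E := E) e x) = ev (E := E) e (appC q G c x) := by
  obtain ⟨h1, h2⟩ := rep_word hM.rep c.2 x hx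
  exact ⟨by simp [appC, smulL, h1], by rw [h2, appC, ev_smulL]⟩

theorem wordM_unitBits : ∀ (ms : List (W ≃ₗ[E] W)) (g : ℕ) (m : W ≃ₗ[E] W), ms[g]? = some m →
    wordM ms (unitBits ms.length g) = m := by
  have hrep : ∀ k : ℕ, unitBits k k = List.replicate k false := fun k => by
    refine List.eq_replicate_iff.2 ⟨by simp [unitBits], fun b hb => ?_⟩
    simp only [unitBits, List.mem_map, List.mem_range] at hb
    obtain ⟨i, hi, rfl⟩ := hb
    simp [natBeq, hi.ne]
  intro ms
  induction ms with
  | nil => intro g m h; simp at h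
  | cons a ms ih =>
    intro g m h
    have hshift : unitBits (a :: ms).length g = Nat.beq 0 g :: (List.range ms.length).map fun i => Nat.beq (i + 1) g := by
      simp [unitBits, List.range_succ_eq_map, Function.comp_def]
    cases g with
    | zero =>
      obtain rfl : a = m := by simpa using h
      rw [hshift]
      have : ((List.range ms.length).map fun i => Nat.beq (i + 1) 0) = List.replicate ms.length false :=
        List.eq_replicate_iff.2 ⟨by simp, fun b hb => by
          simp only [List.mem_map] at hb; obtain ⟨i, -, rfl⟩ := hb; rfl⟩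
      simp [wordM, this, wordM_false]
    | succ g =>
      have h' : ms[g]? = some m := by simpa using h
      rw [hshift]
      have : ((List.range ms.length).map fun i => Nat.beq (i + 1) (g + 1)) = unitBits ms.length g := by
        simp [unitBits, natBeq]
      simp [wordM, this, ih g m h']

theorem Model.reduced_inj (hM : Model S e ms G) {a b : List ℕ} (ha : a.length = e.length) (hb : b.length = e.length)
    (har : ∀ x ∈ a, x < q) (hbr : ∀ x ∈ b, x < q) (he : ev (E := E) e a = ev (E := E) e b) : a = b := by
  have hlen : a.length = (smulL q (q - 1) b).length := by simp [smulL, ha, hb]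
  have h0 := hM.indep (addL q a (smulL q (q - 1) b)) (by simp [addL, smulL, ha, hb]) (by
    rw [ev_addL _ _ _ hlen, ev_smulL, he]
    rcases Nat.eq_zero_or_pos q with rfl | hq
    · cases b with
      | nil =>
        have : e = [] := List.length_eq_zero_iff.1 hb.symm
        simp [this, ev]
      | cons x xs => exact absurd (hbr x List.mem_cons_self) (Nat.not_lt_zero x)
    · rw [Nat.cast_sub hq, CharP.cast_eq_zero E q, Nat.cast_one, zero_sub, neg_one_smul, add_neg_cancel])
  refine List.ext_getElem (ha.trans hb.symm) fun i h1 h2 => ?_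
  have hq : 0 < q := lt_of_le_of_lt (Nat.zero_le _) (har _ (List.getElem_mem h1))
  have hi := h0 ((a[i] + (q - 1) * b[i] % q) % q) (List.mem_iff_getElem.2 ⟨i, by simp [addL, smulL]; omega, by simp [addL, smulL]⟩)
  rw [cast_mod', Nat.cast_add, cast_mod', Nat.cast_mul, Nat.cast_sub hq, CharP.cast_eq_zero E q, Nat.cast_one,
    zero_sub, neg_one_mul, add_neg_eq_zero] at hi
  exact ((CharP.natCast_eq_natCast (R := E) q).1 hi).eq_of_lt_of_lt (har _ (List.getElem_mem h1))
    (hbr _ (List.getElem_mem h2))

omit [CharP E q] in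
theorem reduced_smulL (hq : 0 < q) (s : ℕ) (c : List ℕ) : ∀ x ∈ smulL q s c, x < q := by
  intro x hx
  obtain ⟨y, -, rfl⟩ := List.mem_map.1 hx
  exact Nat.mod_lt _ hq

omit [CharP E q] in
theorem reduced_addL (hq : 0 < q) : ∀ (c d : List ℕ), ∀ x ∈ addL q c d, x < q := by
  intro c
  induction c with
  | nil => intro d x hx; simp [addL] at hx
  | cons a as ih =>
    intro d x hx
    cases d with
    | nil => simp [addL] at hx
    | cons b bs =>
      simp only [addL, List.zipWith_cons_cons, List.mem_cons] at hx
      rcases hx with rfl | hx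
      · exact Nat.mod_lt _ hq
      · exact ih bs x hx

omit [CharP E q] in
theorem reduced_combo (hq : 0 < q) (N : ℕ) : ∀ (cs : List ℕ) (qs : List (List ℕ × List ℕ)),
    (∀ x ∈ (combo q N cs qs).1, x < q) ∧ ∀ x ∈ (combo q N cs qs).2, x < q := by
  intro cs
  induction cs with
  | nil => intro qs; simp [combo, List.mem_replicate, hq]
  | cons c cs ih =>
    intro qs
    match qs with
    | [] => simp [combo, List.mem_replicate, hq]
    | (p, r) :: qs =>
      rw [combo]
      split
      · exact ih qs
      · exact ⟨reduced_addL hq _ _, reduced_addL hq _ _⟩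

/-- Sent by `g`. -/
def Sends (g : W ≃+ W) (e : List W) (pr : List ℕ × List ℕ) : Prop :=
  pr.1.length = e.length ∧ pr.2.length = e.length ∧ g (ev (E := E) e pr.1) = ev (E := E) e pr.2

omit [CharP E q] in
theorem ev_zero : ∀ (e : List W) (N : ℕ), ev (E := E) e (List.replicate N 0) = 0 := by
  intro e
  induction e with
  | nil => intro N; cases N <;> rfl
  | cons b bs ih => intro N; cases N with
    | zero => rfl
    | succ N => simp [List.replicate_succ, ev, ih]

theorem sends_combo {g : W ≃+ W} (hlin : ∀ (c : E) (u : W), g (c • u) = c • g u) :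
    ∀ (cs : List ℕ) (qs : List (List ℕ × List ℕ)), (∀ pr ∈ qs, Sends (E := E) g e pr) →
      Sends (E := E) g e (combo q e.length cs qs) := by
  intro cs
  induction cs with
  | nil => intro qs _; exact ⟨by simp [combo], by simp [combo], by simp [combo, ev_zero]⟩
  | cons c cs ih =>
    intro qs h
    match qs with
    | [] => exact ⟨by simp [combo], by simp [combo], by simp [combo, ev_zero]⟩
    | (p, r) :: qs =>
      obtain ⟨i1, i2, i3⟩ := ih qs fun pr hpr => h pr (List.mem_cons_of_mem _ hpr)
      obtain ⟨h1, h2, h3⟩ := h (p, r) List.mem_cons_self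
      rw [combo]
      split
      · exact ⟨i1, i2, i3⟩
      · refine ⟨by simp [addL, smulL, i1, show p.length = e.length from h1],
          by simp [addL, smulL, i2, show r.length = e.length from h2], ?_⟩
        rw [ev_addL _ _ _ (by simp [smulL, i1, show p.length = e.length from h1]),
          ev_addL _ _ _ (by simp [smulL, i2, show r.length = e.length from h2]), map_add, ev_smulL, ev_smulL,
          hlin, h3, i3]

/-- The candidate recorded for a generator gives its image. -/
def Image (g : W ≃+ W) (ms : List (W ≃ₗ[E] W)) (i : ℕ) (c : ℕ × List Bool) : Prop :=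
  ∀ m, ms[i]? = some m → ∀ u, g (m u) = (c.1 : E) • wordM ms c.2 (g u)

theorem run_sound (hq : 0 < q) (hM : Model S e ms G) {g : W ≃+ W} (hlin : ∀ (c : E) (u : W), g (c • u) = c • g u)
    {imgs : List (ℕ × List Bool)} (himg : ∀ i c, imgs[i]? = some c → Image g ms i c) :
    ∀ (st : List Step) (qs : List (List ℕ × List ℕ)), (∀ pr ∈ qs, Sends (E := E) g e pr) →
      run q e.length G imgs st qs ≠ .impossible ∧
        ∀ qs', run q e.length G imgs st qs = .pairs qs' → ∀ pr ∈ qs', Sends (E := E) g e pr := by
  have hkey : ∀ (i : ℕ) (c : ℕ × List Bool) (f : List ℕ → List ℕ) (pr : List ℕ × List ℕ),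
      imgs[i]? = some c → G[i]? = some f → Sends (E := E) g e pr →
      Sends (E := E) g e (f pr.1, appC q G c pr.2) := by
    rintro i c f ⟨p, r⟩ hc hf ⟨h1, h2, h3⟩
    obtain ⟨hi, rfl⟩ := List.getElem?_eq_some_iff.1 hf
    have hi' : i < ms.length := hM.length_eq.symm ▸ hi
    have hrep : Rep e ms[i] G[i] := by
      have := (List.forall₂_iff_get.1 hM.rep).2 i hi' hi
      simpa using this
    obtain ⟨a1, a2⟩ := hrep p h1
    obtain ⟨b1, b2⟩ := hM.appC_ev c h2
    refine ⟨a1, b1, ?_⟩
    rw [← a2, himg i c hc ms[i] (List.getElem?_eq_getElem hi'), h3, b2]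
  intro st
  induction st with
  | nil => intro qs h; exact ⟨by simp [run], fun qs' e' => by simp [run] at e'; exact e' ▸ h⟩
  | cons s st ih =>
    intro qs h
    cases s with
    | push i j =>
      simp only [run]
      split
      · rename_i c pr f hc hpr hf
        refine ih _ fun x hx => ?_
        rcases List.mem_append.1 hx with hx | hx
        · exact h x hx
        · rw [List.mem_singleton] at hx
          exact hx ▸ hkey i c f pr hc hf (h pr (List.mem_of_getElem? hpr))
      · exact ⟨by simp, fun _ e' => by simp at e'⟩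
    | rel i j cs =>
      simp only [run]
      split
      · rename_i c pr f hc hpr hf
        split
        · rename_i hp
          obtain ⟨k1, k2, k3⟩ := hkey i c f pr hc hf (h pr (List.mem_of_getElem? hpr))
          obtain ⟨l1, l2, l3⟩ := sends_combo hlin cs qs h
          rw [eqL_iff] at hp
          split
          · exact ih qs h
          · rename_i hr
            exfalso
            refine hr (eqL_iff.2 ?_)
            have he : ev (E := E) e (appC q G c pr.2) = ev (E := E) e (combo q e.length cs qs).2 := by
              rw [← k3, ← l3]; exact congrArg (fun z => g (ev (E := E) e z)) hp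
            exact hM.reduced_inj k2 l2 (reduced_smulL hq _ _) (reduced_combo hq _ cs qs).2 he
        · exact ⟨by simp, fun _ e' => by simp at e'⟩
      · exact ⟨by simp, fun _ e' => by simp at e'⟩

variable [Nontrivial W]

/-- Centralising the generators is centralising everything. -/
theorem Model.centralises (hM : Model S e ms G) {g : W ≃+ W} (hlin : ∀ (c : E) (u : W), g (c • u) = c • g u)
    (h : ∀ m ∈ ms, ∀ u, g (m u) = m (g u)) : ∀ m ∈ S.grp, ∀ u, g (m u) = m (g u) := by
  intro m hm
  obtain ⟨s, bs, -, rfl⟩ := hM.span m hm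
  have hw : ∀ (ls : List (W ≃ₗ[E] W)), (∀ m ∈ ls, ∀ u, g (m u) = m (g u)) →
      ∀ bs u, g (wordM ls bs u) = wordM ls bs (g u) := by
    intro ls
    induction ls with
    | nil => intro _ bs u; cases bs <;> rfl
    | cons a ls ih =>
      intro hl bs u
      cases bs with
      | nil => rfl
      | cons b bs =>
        have hi := ih (fun m hm => hl m (List.mem_cons_of_mem _ hm)) bs
        cases b
        · simp only [wordM, app_mul, Bool.false_eq_true, if_false, app_one, hi]
        · simp only [wordM, app_mul, if_true, hl a List.mem_cons_self, hi]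
  intro u
  simp only [app_mul, sc_apply, hlin, hw ms h]

theorem node_sound (hq : 0 < q) (hM : Model S e ms G) (hsurj : ∀ c : E, ∃ i < q, (i : E) = c) {g : W ≃+ W}
    (hg : Nor S g) (hlin : ∀ (c : E) (u : W), g (c • u) = c • g u) {cw Wc : List ℕ} (hWlen : Wc.length = e.length)
    (hgw : ∃ m ∈ S.grp, g (ev (E := E) e Wc) = m (ev (E := E) e Wc)) :
    ∀ (sts : List (List Step)) (imgs : List (ℕ × List Bool)) (qs : List (List ℕ × List ℕ)),
      imgs.length + sts.length = ms.length → (∀ i c, imgs[i]? = some c → Image g ms i c) →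
      (∀ pr ∈ qs, Sends (E := E) g e pr) → node q e.length G cw Wc sts imgs qs = true →
      Fix S g (ev (E := E) e Wc) := by
  intro sts
  induction sts with
  | nil =>
    intro imgs qs hlen himg hqs hnode
    simp only [node, Bool.and_eq_true, Bool.or_eq_true, List.all_eq_true] at hnode
    obtain ⟨hp, hleaf⟩ := hnode
    obtain ⟨l1, l2, l3⟩ := sends_combo hlin cw qs hqs (q := q)
    rw [eqL_iff.1 hp] at l3
    rcases hleaf with ⟨hid, hr⟩ | horb
    · rw [eqL_iff.1 hr] at l3
      refine ⟨hlin, hM.centralises hlin fun m hm u => ?_, l3⟩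
      obtain ⟨i, hi, rfl⟩ := List.getElem_of_mem hm
      have hi' : i < imgs.length := by simp at hlen; omega
      have h1 := hid i (List.mem_range.2 (hM.length_eq ▸ hi))
      rw [List.getElem?_eq_getElem hi'] at h1
      simp only [Bool.and_eq_true, beq_iff_eq] at h1
      have h2 := himg i _ (List.getElem?_eq_getElem hi') ms[i] (List.getElem?_eq_getElem hi) u
      rw [h1.2, Nat.eq_of_beq_eq_true h1.1, Nat.cast_one, one_smul, ← hM.length_eq,
        wordM_unitBits ms i _ (List.getElem?_eq_getElem hi)] at h2
      exact h2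
    · exfalso
      obtain ⟨m, hm, hmw⟩ := hgw
      obtain ⟨c, hc, hcm⟩ := hM.exists_cand hsurj hm
      obtain ⟨a1, a2⟩ := hM.appC_ev c hWlen
      have h1 := horb c hc
      simp only [Bool.not_eq_true'] at h1
      rw [eqL_iff.2 (hM.reduced_inj a1 l2 (reduced_smulL hq _ _) (reduced_combo hq _ cw qs).2
        (by rw [← a2, ← hcm, ← hmw, l3]))] at h1
      exact absurd h1 (by simp)
  | cons st rest ih =>
    intro imgs qs hlen himg hqs hnode
    simp only [node, List.all_eq_true] at hnode
    have hi : imgs.length < ms.length := by simp at hlen; omega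
    obtain ⟨m', hm', hm'g⟩ := hg.2 _ (hM.mem _ (List.getElem_mem hi))
    obtain ⟨c, hc, hcm⟩ := hM.exists_cand hsurj hm'
    have himg' : ∀ i d, (imgs ++ [c])[i]? = some d → Image g ms i d := by
      intro i d hd
      rcases Nat.lt_or_ge i imgs.length with h' | h'
      · rw [List.getElem?_append_left h'] at hd
        exact himg i d hd
      · rw [List.getElem?_append_right h'] at hd
        rcases (show i - imgs.length = 0 ∨ 0 < i - imgs.length by omega) with h0 | h0
        · rw [h0] at hd
          obtain rfl : c = d := by simpa using hd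
          intro m hm u
          obtain rfl : i = imgs.length := by omega
          rw [List.getElem?_eq_getElem hi, Option.some.injEq] at hm
          rw [← hm, hm'g, hcm]
        · rw [List.getElem?_eq_none (by simp; omega)] at hd
          exact absurd hd (by simp)
    have h1 := hnode c hc
    obtain ⟨r1, r2⟩ := run_sound hq hM hlin himg' st qs hqs
    cases hrun : run q e.length G (imgs ++ [c]) st qs with
    | invalid => rw [hrun] at h1; simp at h1
    | impossible => exact absurd hrun r1
    | pairs qs' =>
      rw [hrun] at h1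
      exact ih _ qs' (by simp at hlen ⊢; omega) himg' (r2 qs' hrun) h1

/-- The certificate for the key. -/
theorem Model.key (hq : 0 < q) (hM : Model S e ms G) (hsurj : ∀ c : E, ∃ i < q, (i : E) = c) {X Y Wc cw : List ℕ}
    {N : ℕ} (hN : e.length = N) {sts : List (List Step)}
    (hX : X.length = N) (hY : Y.length = N) (hW : Wc.length = N) (hs : sts.length = G.length)
    (hcert : node q N G cw Wc sts [] [(X, X), (Y, Y)] = true) (g : W ≃+ W) (hg : Nor S g)
    (hgx : g (ev (E := E) e X) = ev (E := E) e X) (hgy : g (ev (E := E) e Y) = ev (E := E) e Y)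
    (hgw : ∃ m ∈ S.grp, g (ev (E := E) e Wc) = m (ev (E := E) e Wc)) : Fix S g (ev (E := E) e Wc) := by
  subst hN
  obtain ⟨σ, hσ⟩ := hg.1
  obtain ⟨u, hu⟩ := exists_ne (0 : W)
  obtain ⟨τ, hτ⟩ := exists_ringHom hσ hu
  have hlin : ∀ (c : E) (u : W), g (c • u) = c • g u := fun c u => by
    obtain ⟨i, -, rfl⟩ := hsurj c
    rw [hσ, ← hτ, map_natCast]
  refine node_sound hq hM hsurj hg hlin hW hgw sts [] _ (by simpa [hM.length_eq] using hs)
    (fun i c h => by simp at h) ?_ hcert
  intro pr hpr
  simp only [List.mem_cons, List.not_mem_nil, or_false] at hpr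
  rcases hpr with rfl | rfl
  · exact ⟨hX, hX, hgx⟩
  · exact ⟨hY, hY, hgy⟩

theorem Model.lineFree (hq : 0 < q) (hM : Model S e ms G) (hsurj : ∀ c : E, ∃ i < q, (i : E) = c) {X : List ℕ}
    (hX : X.length = e.length) (h : lineOK q G X = true) : LineFree S (ev (E := E) e X) := by
  simp only [lineOK, Bool.and_eq_true, List.any_eq_true, List.all_eq_true, Bool.or_eq_true, Bool.not_eq_true'] at h
  obtain ⟨⟨x, hx, hx0⟩, hall⟩ := h
  have hne : ev (E := E) e X ≠ 0 := fun e0 => by
    have h1 := (CharP.cast_eq_zero_iff E q x).1 (hM.indep X hX e0 x hx)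
    rw [Nat.mod_eq_zero_of_dvd h1] at *
    simp [natBeq, Nat.dvd_iff_mod_eq_zero.1 h1] at hx0
  refine ⟨hne, fun m hm c hc => ?_⟩
  obtain ⟨s, bs, hbs, rfl⟩ := hM.span m hm
  rcases hall bs (mem_allBits _ _ (hbs.trans hM.length_eq)) with hb | hd
  · refine ⟨s, ?_⟩
    rw [show bs = List.replicate bs.length false from List.eq_replicate_iff.2 ⟨rfl, fun b hb' => hb b hb'⟩,
      wordM_false, mul_one]
  · exfalso
    obtain ⟨h1, h2⟩ := rep_word hM.rep bs X hX
    obtain ⟨d, hdq, hde⟩ := hsurj ((s : E)⁻¹ * c)
    have h3 := hd d (List.mem_range.2 hdq)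
    rw [eqL_iff.2 (hM.reduced_inj (by simp [h1]) (by simp [smulL, hX])
      (fun x hx => by obtain ⟨y, -, rfl⟩ := List.mem_map.1 hx; exact Nat.mod_lt _ hq) (reduced_smulL hq _ _) ?_)] at h3
    · simp at h3
    · rw [ev_modEq, ev_smulL, hde, mul_smul, ← hc, app_mul, sc_apply, inv_smul_smul₀ s.ne_zero, h2]

theorem Model.out (hq : 0 < q) (hM : Model S e ms G) (hsurj : ∀ c : E, ∃ i < q, (i : E) = c) {Y Wc : List ℕ}
    (hY : Y.length = e.length) (hW : Wc.length = e.length) (h : outOK q G Y Wc = true) :
    ev (E := E) e Y ≠ 0 ∧ ∀ m ∈ S.grp, m (ev (E := E) e Wc) ≠ ev (E := E) e Y := by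
  simp only [outOK, Bool.and_eq_true, List.any_eq_true, List.all_eq_true, Bool.not_eq_true'] at h
  obtain ⟨⟨x, hx, hx0⟩, hall⟩ := h
  refine ⟨fun e0 => ?_, fun m hm he => ?_⟩
  · have h1 := (CharP.cast_eq_zero_iff E q x).1 (hM.indep Y hY e0 x hx)
    simp [natBeq, Nat.dvd_iff_mod_eq_zero.1 h1] at hx0
  · obtain ⟨c, hc, hcm⟩ := hM.exists_cand hsurj hm
    obtain ⟨a1, a2⟩ := hM.appC_ev c hW
    have h3 := hall c hc
    rw [eqL_iff.2 (hM.reduced_inj a1 (by simp [hY]) (reduced_smulL hq _ _)
      (fun x hx => by obtain ⟨y, -, rfl⟩ := List.mem_map.1 hx; exact Nat.mod_lt _ hq) ?_)] at h3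
    · simp at h3
    · rw [ev_modEq, ← a2, ← hcm, he]

end Cfsg.Agent.BaseTwo
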