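import Cfsg.Agent.Lib.OddBaseTwo.Fixed
import Cfsg.Agent.Lib.Solvable.Basic
import Mathlib.Algebra.Module.ZMod
import Mathlib.GroupTheory.PGroup
import Mathlib.Tactic

/-! Sets with trivial stabiliser for solvable irreducible groups without elements of order three, in
dimensions three to five over two elements. -/

set_option autoImplicit false
set_option linter.style.haveILetI false

namespace Cfsg.Agent.BaseTwo

open OddBaseTwo

/-- Translation and scaling preserving three marks. -/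
theorem marks_seven : ∀ i c : Fin 7, i.val ^ 2 % 7 = 1 → (∀ k : Fin 7, k.val = 0 ∨ k.val = 1 ∨ k.val = 3 →
    (i.val * k.val + c.val) % 7 = 0 ∨ (i.val * k.val + c.val) % 7 = 1 ∨ (i.val * k.val + c.val) % 7 = 3) →
      i.val = 1 ∧ c.val = 0 := by decide +kernel

/-- Translation and scaling preserving three marks. -/
theorem marks_thirtyone : ∀ i c : Fin 31, i.val ^ 10 % 31 = 1 → (∀ k : Fin 31, k.val = 0 ∨ k.val = 1 ∨ k.val = 3 →
    (i.val * k.val + c.val) % 31 = 0 ∨ (i.val * k.val + c.val) % 31 = 1 ∨ (i.val * k.val + c.val) % 31 = 3) →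
      i.val = 1 ∧ c.val = 0 := by decide +kernel

/-- Multiplication by a fifth root of unity, in coordinates. -/
def shiftFive (c : Fin 4 → ZMod 2) : Fin 4 → ZMod 2 := ![c 3, c 0 + c 3, c 1 + c 3, c 2 + c 3]

theorem pair_five : ∀ w : Fin 4 → ZMod 2, ∀ i : Fin 5,
    (w = ![1, 0, 0, 0] ∨ w = ![0, 1, 1, 0]) →
    (shiftFive^[i.val] w + shiftFive^[(i.val * 2) % 5] w = ![1, 0, 0, 0] ∨
      shiftFive^[i.val] w + shiftFive^[(i.val * 2) % 5] w = ![0, 1, 1, 0]) →
    w ≠ shiftFive^[i.val] w + shiftFive^[(i.val * 2) % 5] w → i.val = 1 ∧ w = ![1, 0, 0, 0] := by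
  decide +kernel

variable {U W : Type} [Group U] [Finite U] [AddCommGroup W] [Finite W] [DistribMulAction U W] [FaithfulSMul U W]

omit [Finite U] [Finite W] in
theorem eq_of_pow_smul {n g : U} {i : ℕ} (h : g * n * g⁻¹ = n ^ i) (k : ℕ) (v : W) :
    g • n ^ k • v = n ^ (i * k) • g • v := by
  rw [pow_mul, ← h, conj_pow, mul_smul, mul_smul, inv_smul_smul]

/-- A set with trivial stabiliser in dimensions three to five over two elements. -/
theorem set_two_small [Nontrivial W] [Group.IsSolvable U] (h2 : ∀ x : W, x + x = 0) {a : ℕ}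
    (ha : a = 3 ∨ a = 4 ∨ a = 5) (hW : Nat.card W = 2 ^ a) (hirr : Irr U W) (hcop : ¬ 3 ∣ Nat.card U) :
    ∃ T : Set W, ∀ u : U, (∀ x, u • x ∈ T ↔ x ∈ T) → u = 1 := by
  classical
  rcases subsingleton_or_nontrivial U with h | h
  · exact ⟨∅, fun u _ => Subsingleton.elim _ _⟩
  haveI : Group.IsSolvable (⊤ : Subgroup U) := inferInstance
  obtain ⟨s, hs, N, hNn, hN0, -, hNc, hNs, -, -⟩ :=
    Solvable.exists_minimal_normal_pGroup (show (⊤ : Subgroup U) ≠ ⊥ from top_ne_bot)
  haveI := hNn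
  haveI := Fact.mk hs
  have hNcomm : ∀ x ∈ N, ∀ y ∈ N, x * y = y * x := fun x hx y hy =>
    congrArg Subtype.val (hNc.is_comm.comm (⟨x, hx⟩ : N) ⟨y, hy⟩)
  letI : MulAction N W := MulAction.compHom W N.subtype
  have hfix0 : ∀ v : W, (∀ m ∈ N, m • v = v) → v = 0 := by
    intro v hv
    let F : AddSubgroup W :=
      { carrier := {x | ∀ m ∈ N, m • x = x}
        zero_mem' := fun m _ => smul_zero m
        add_mem' := fun {x y} hx hy m hm => by rw [smul_add, hx m hm, hy m hm]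
        neg_mem' := fun {x} hx m hm => by rw [smul_neg, hx m hm] }
    have hF : Inv U F := fun g x hx m hm => by
      have := hx _ (hNn.conj_mem m hm g⁻¹)
      rw [inv_inv, mul_smul, mul_smul, inv_smul_eq_iff] at this
      exact this
    rcases hirr F hF with hb | ht
    · exact AddSubgroup.mem_bot.1 (hb ▸ (show v ∈ F from hv))
    · exfalso
      refine hN0 ((Subgroup.eq_bot_iff_forall _).2 fun m hm => eq_one_of_smul_eq (V := W) fun x => ?_)
      exact (ht ▸ AddSubgroup.mem_top x : x ∈ F) m hm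
  -- invariant subgroups
  have hinvmod : ∀ S : AddSubgroup W, (∀ m ∈ N, ∀ x ∈ S, m • x ∈ S) → Nat.card S ≡ 1 [MOD s] := by
    intro S hS
    letI : MulAction N S :=
      { smul := fun m x => ⟨(m : U) • (x : W), hS m m.2 x x.2⟩
        one_smul := fun x => Subtype.ext (one_smul U (x : W))
        mul_smul := fun m m' x => Subtype.ext (mul_smul (m : U) m' (x : W)) }
    have h := hNs.card_modEq_card_fixedPoints S
    have hone : Nat.card (MulAction.fixedPoints N S) = 1 := by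
      refine Nat.card_eq_one_iff_unique.2 ⟨⟨fun x y => ?_⟩, ⟨⟨0, fun m => Subtype.ext (smul_zero (m : U))⟩⟩⟩
      have hz : ∀ z : MulAction.fixedPoints N S, ((z : S) : W) = 0 := fun z =>
        hfix0 _ fun m hm => congrArg Subtype.val (z.2 ⟨m, hm⟩)
      exact Subtype.ext (Subtype.ext ((hz x).trans (hz y).symm))
    rwa [hone] at h
  have hpow : ∀ S : AddSubgroup W, ∃ j, j ≤ a ∧ Nat.card S = 2 ^ j := fun S =>
    (Nat.dvd_prime_pow Nat.prime_two).1 (hW ▸ S.card_addSubgroup_dvd_card)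
  have hs3 : s ≠ 3 := by
    rintro rfl
    obtain ⟨k, hk⟩ := IsPGroup.iff_card.1 hNs
    have hk0 : k ≠ 0 := fun e => hN0 (Subgroup.card_eq_one.1 (by rw [hk, e, pow_zero]))
    exact hcop ((dvd_pow_self 3 hk0).trans (hk ▸ N.card_subgroup_dvd_card))
  have hsd : s ∣ 2 ^ a - 1 := by
    have := hinvmod ⊤ fun m _ x _ => AddSubgroup.mem_top _
    rw [AddSubgroup.card_top, hW] at this
    exact (Nat.modEq_iff_dvd' Nat.one_le_two_pow).1 this.symm
  have hsa : a = 3 ∧ s = 7 ∨ a = 4 ∧ s = 5 ∨ a = 5 ∧ s = 31 := by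
    rcases ha with rfl | rfl | rfl
    · exact Or.inl ⟨rfl, (Nat.prime_dvd_prime_iff_eq hs (by norm_num)).1 (by simpa using hsd)⟩
    · refine Or.inr (Or.inl ⟨rfl, ?_⟩)
      have h35 : s ∣ 3 * 5 := by simpa using hsd
      rcases hs.dvd_mul.1 h35 with h | h
      · exact absurd ((Nat.prime_dvd_prime_iff_eq hs Nat.prime_three).1 h) hs3
      · exact (Nat.prime_dvd_prime_iff_eq hs (by norm_num)).1 h
    · exact Or.inr (Or.inr ⟨rfl, (Nat.prime_dvd_prime_iff_eq hs (by norm_num)).1 (by simpa using hsd)⟩)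
  have hfull : ∀ S : AddSubgroup W, (∀ m ∈ N, ∀ x ∈ S, m • x ∈ S) → S ≠ ⊥ → S = ⊤ := by
    intro S hS hS0
    obtain ⟨j, hj, hc⟩ := hpow S
    have hm := hinvmod S hS
    rw [hc] at hm
    refine AddSubgroup.eq_top_of_card_eq S ?_
    rw [hc, hW]
    have hj0 : j ≠ 0 := fun e => hS0 (AddSubgroup.card_eq_one.1 (by rw [hc, e, pow_zero]))
    rcases hsa with ⟨rfl, rfl⟩ | ⟨rfl, rfl⟩ | ⟨rfl, rfl⟩ <;> interval_cases j <;>
      first | rfl | exact absurd rfl hj0 | exact absurd hm (by decide)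
  -- semiregular
  have hsemi : ∀ m ∈ N, ∀ x : W, x ≠ 0 → m • x = x → m = 1 := by
    intro m hm x hx hmx
    have := hfull (fixSub m) (fun m' hm' y hy => by
      rw [mem_fixSub] at hy ⊢
      rw [← mul_smul, hNcomm m hm m' hm', mul_smul, hy])
      (fun e => hx (AddSubgroup.mem_bot.1 (e ▸ (mem_fixSub.2 hmx))))
    exact eq_one_of_smul_eq (V := W) fun y => mem_fixSub.1 (this ▸ AddSubgroup.mem_top y)
  obtain ⟨p, hp⟩ := exists_ne (0 : W)
  have hne0 : ∀ (g : U) (x : W), x ≠ 0 → g • x ≠ 0 := fun g x hx e => hx ((smul_eq_zero_iff_eq g).1 e)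
  have hinj : Function.Injective fun m : N => (⟨(m : U) • p, hne0 _ _ hp⟩ : {x : W // x ≠ 0}) := by
    intro m m' e
    have e' : (m : U) • p = (m' : U) • p := congrArg Subtype.val e
    exact (inv_mul_eq_one.1 (Subtype.ext (hsemi _ (m'⁻¹ * m : N).2 p hp (by
      rw [Subgroup.coe_mul, Subgroup.coe_inv, mul_smul, e', inv_smul_smul])))).symm
  have hNcard : Nat.card N = s := by
    obtain ⟨k, hk⟩ := IsPGroup.iff_card.1 hNs
    have hle := Nat.card_le_card_of_injective _ hinj
    haveI := Fintype.ofFinite W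
    rw [hk, Nat.card_eq_fintype_card (α := {x : W // x ≠ 0}), Fintype.card_subtype_compl,
      Fintype.card_subtype_eq, ← Nat.card_eq_fintype_card, hW] at hle
    have hk0 : k ≠ 0 := fun e => hN0 (Subgroup.card_eq_one.1 (by rw [hk, e, pow_zero]))
    rcases Nat.lt_or_ge k 2 with h | h
    · rw [hk, show k = 1 by omega, pow_one]
    · have := Nat.pow_le_pow_right hs.pos h
      rcases hsa with ⟨rfl, rfl⟩ | ⟨rfl, rfl⟩ | ⟨rfl, rfl⟩ <;> omega
  obtain ⟨n, hn⟩ := (isCyclic_of_prime_card hNcard).exists_generator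
  have hns : orderOf (n : U) = s := by rw [Subgroup.orderOf_coe, orderOf_eq_card_of_forall_mem_zpowers hn, hNcard]
  have hnpow : ∀ m ∈ N, ∃ k, k < s ∧ m = (n : U) ^ k := by
    intro m hm
    obtain ⟨k, hk⟩ := (mem_powers_iff_mem_zpowers (x := n)).2 (hn ⟨m, hm⟩)
    refine ⟨k % s, Nat.mod_lt _ hs.pos, ?_⟩
    rw [← hns, pow_mod_orderOf, ← Subgroup.coe_pow, show n ^ k = ⟨m, hm⟩ from hk]
  have heq : ∀ u v : ℕ, (n : U) ^ u • p = (n : U) ^ v • p → u % s = v % s := by
    intro u v e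
    have e' : n ^ u = n ^ v := hinj (Subtype.ext (by simpa using e))
    have := congrArg Subtype.val e'
    rw [Subgroup.coe_pow, Subgroup.coe_pow, pow_eq_pow_iff_modEq, hns] at this
    exact this
  have hnorm : ∀ g : U, ∃ i, i < s ∧ g * n * g⁻¹ = (n : U) ^ i ∧ ∀ e, s - 1 = 3 * e → i ^ e % s = 1 := by
    intro g
    obtain ⟨i, hi, e⟩ := hnpow _ (hNn.conj_mem n n.2 g)
    refine ⟨i, hi, e, fun d hd => ?_⟩
    have hiter : ∀ k : ℕ, g ^ k * n * (g ^ k)⁻¹ = (n : U) ^ (i ^ k) := by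
      intro k
      induction k with
      | zero => simp
      | succ k ih =>
        rw [pow_succ' g k, mul_inv_rev, show g * g ^ k * (n : U) * ((g ^ k)⁻¹ * g⁻¹) = g * (g ^ k * n * (g ^ k)⁻¹) * g⁻¹ by group,
          ih, ← conj_pow, e, ← pow_mul, pow_succ' i k]
    have h1 := hiter (orderOf g)
    rw [pow_orderOf_eq_one, inv_one, one_mul, mul_one] at h1
    nth_rewrite 1 [← pow_one (n : U)] at h1
    rw [pow_eq_pow_iff_modEq, hns] at h1
    haveI : NeZero s := ⟨hs.ne_zero⟩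
    have hz : ((i : ZMod s)) ^ orderOf g = 1 := by
      rw [← Nat.cast_pow, ← Nat.cast_one, ZMod.natCast_eq_natCast_iff]
      exact h1.symm
    have hi0 : (i : ZMod s) ≠ 0 := fun e0 => by
      rw [e0, zero_pow (orderOf_pos g).ne'] at hz
      exact zero_ne_one hz
    have hfl : (i : ZMod s) ^ (3 * d) = 1 := hd ▸ ZMod.pow_card_sub_one_eq_one hi0
    have hgd : Nat.gcd (orderOf g) (3 * d) ∣ d := by
      have h3 : Nat.Coprime (Nat.gcd (orderOf g) (3 * d)) 3 := by
        refine Nat.Coprime.symm ((Nat.prime_three.coprime_iff_not_dvd).2 fun h => hcop ?_)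
        exact (h.trans (Nat.gcd_dvd_left _ _)).trans (orderOf_dvd_natCard g)
      exact h3.dvd_of_dvd_mul_left (Nat.gcd_dvd_right _ _)
    have : (i : ZMod s) ^ d = 1 := by
      obtain ⟨t, ht⟩ := hgd
      rw [ht, pow_mul, pow_gcd_eq_one.2 ⟨hz, hfl⟩, one_pow]
    rw [← Nat.cast_pow, ← Nat.cast_one, ZMod.natCast_eq_natCast_iff'] at this
    rw [this, Nat.mod_eq_of_lt hs.one_lt]
  rcases hsa with hA | ⟨rfl, rfl⟩ | hA
  · obtain ⟨rfl, rfl⟩ := hA
    refine ⟨{x | x = p ∨ x = (n : U) • p ∨ x = (n : U) ^ 3 • p}, fun g hg => ?_⟩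
    obtain ⟨i, hi, hgi, hie⟩ := hnorm g
    have hsur := (Nat.bijective_iff_injective_and_card _).2 ⟨hinj, by
      haveI := Fintype.ofFinite W
      rw [hNcard, Nat.card_eq_fintype_card (α := {x : W // x ≠ 0}), Fintype.card_subtype_compl,
        Fintype.card_subtype_eq, ← Nat.card_eq_fintype_card, hW]; rfl⟩
    obtain ⟨m, hm⟩ := hsur.2 ⟨g • p, hne0 g p hp⟩
    obtain ⟨c, hc, hmc⟩ := hnpow _ m.2
    have hgp : g • p = (n : U) ^ c • p := by rw [← hmc]; exact (congrArg Subtype.val hm).symm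
    obtain ⟨hi1, hc0⟩ := marks_seven ⟨i, hi⟩ ⟨c, hc⟩ (hie 2 rfl) fun k hk => by
      have hx : g • (n : U) ^ k.val • p ∈ {x | x = p ∨ x = (n : U) • p ∨ x = (n : U) ^ 3 • p} := by
        refine (hg _).2 ?_
        rcases hk with hk | hk | hk <;> simp [hk]
      rw [eq_of_pow_smul hgi, hgp, ← mul_smul, ← pow_add] at hx
      simp only [Set.mem_ofPred_eq] at hx
      rcases hx with hx | hx | hx
      · left; exact (heq _ 0 (by simpa using hx))
      · right; left; exact (heq _ 1 (by simpa using hx))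
      · right; right; exact (heq _ 3 hx)
    simp only at hi1 hc0
    rw [hc0, pow_zero, one_smul] at hgp
    refine eq_one_of_smul_eq (V := W) fun x => ?_
    by_cases hx : x = 0
    · rw [hx, smul_zero]
    obtain ⟨m', hm'⟩ := hsur.2 ⟨x, hx⟩
    obtain ⟨k, -, hk⟩ := hnpow _ m'.2
    have hxk : x = (n : U) ^ k • p := by rw [← hk]; exact (congrArg Subtype.val hm').symm
    rw [hxk, eq_of_pow_smul hgi, hgp, hi1, one_mul]
  swap
  · obtain ⟨rfl, rfl⟩ := hA
    refine ⟨{x | x = p ∨ x = (n : U) • p ∨ x = (n : U) ^ 3 • p}, fun g hg => ?_⟩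
    obtain ⟨i, hi, hgi, hie⟩ := hnorm g
    have hsur := (Nat.bijective_iff_injective_and_card _).2 ⟨hinj, by
      haveI := Fintype.ofFinite W
      rw [hNcard, Nat.card_eq_fintype_card (α := {x : W // x ≠ 0}), Fintype.card_subtype_compl,
        Fintype.card_subtype_eq, ← Nat.card_eq_fintype_card, hW]; rfl⟩
    obtain ⟨m, hm⟩ := hsur.2 ⟨g • p, hne0 g p hp⟩
    obtain ⟨c, hc, hmc⟩ := hnpow _ m.2
    have hgp : g • p = (n : U) ^ c • p := by rw [← hmc]; exact (congrArg Subtype.val hm).symm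
    obtain ⟨hi1, hc0⟩ := marks_thirtyone ⟨i, hi⟩ ⟨c, hc⟩ (hie 10 rfl) fun k hk => by
      have hx : g • (n : U) ^ k.val • p ∈ {x | x = p ∨ x = (n : U) • p ∨ x = (n : U) ^ 3 • p} := by
        refine (hg _).2 ?_
        rcases hk with hk | hk | hk <;> simp [hk]
      rw [eq_of_pow_smul hgi, hgp, ← mul_smul, ← pow_add] at hx
      simp only [Set.mem_ofPred_eq] at hx
      rcases hx with hx | hx | hx
      · left; exact (heq _ 0 (by simpa using hx))
      · right; left; exact (heq _ 1 (by simpa using hx))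
      · right; right; exact (heq _ 3 hx)
    simp only at hi1 hc0
    rw [hc0, pow_zero, one_smul] at hgp
    refine eq_one_of_smul_eq (V := W) fun x => ?_
    by_cases hx : x = 0
    · rw [hx, smul_zero]
    obtain ⟨m', hm'⟩ := hsur.2 ⟨x, hx⟩
    obtain ⟨k, -, hk⟩ := hnpow _ m'.2
    have hxk : x = (n : U) ^ k • p := by rw [← hk]; exact (congrArg Subtype.val hm').symm
    rw [hxk, eq_of_pow_smul hgi, hgp, hi1, one_mul]
  -- dimension four
  letI : Module (ZMod 2) W := AddCommGroup.zmodModule fun x => by rw [two_nsmul, h2]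
  let P : Fin 4 → W := fun k => (n : U) ^ k.val • p
  let L : (Fin 4 → ZMod 2) →ₗ[ZMod 2] W := Fintype.linearCombination (ZMod 2) P
  have hL : ∀ c : Fin 4 → ZMod 2, L c = c 0 • P 0 + c 1 • P 1 + c 2 • P 2 + c 3 • P 3 := fun c => by
    simp [L, Fintype.linearCombination_apply, Fin.sum_univ_four]
  have hzero : P 0 + P 1 + P 2 + P 3 + (n : U) ^ 4 • p = 0 := by
    have h5 : (n : U) ^ 5 = 1 := hns ▸ pow_orderOf_eq_one (n : U)
    have hn1 : (n : U) ≠ 1 := fun e => by rw [← hns] at hs; rw [e, orderOf_one] at hs; exact Nat.not_prime_one hs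
    by_contra hz
    refine hn1 (hsemi _ n.2 _ hz ?_)
    simp only [P, Fin.val_zero, Fin.val_one, Fin.val_two, show ((3 : Fin 4) : ℕ) = 3 from rfl, smul_add,
      ← mul_smul, ← pow_succ', h5, pow_zero, mul_one, one_smul, pow_one]
    rw [show (n : U) * n = (n : U) ^ 2 from (pow_two _).symm]
    abel
  have hneg : ∀ x : W, -x = x := fun x => neg_eq_of_add_eq_zero_left (h2 x)
  have hP4 : (n : U) ^ 4 • p = P 0 + P 1 + P 2 + P 3 := by rw [← neg_eq_of_add_eq_zero_right hzero, hneg]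
  have hcs : ∀ (g : U) (t : ZMod 2) (x : W), g • t • x = t • g • x := fun g t x =>
    ((DistribSMul.toAddMonoidHom W g).toZModLinearMap 2).map_smul t x
  have hshift : ∀ c, (n : U) • L c = L (shiftFive c) := fun c => by
    simp only [hL, smul_add, hcs, shiftFive, Matrix.cons_val_zero, Matrix.cons_val_one, Matrix.cons_val,
      P, Fin.val_zero, Fin.val_one, Fin.val_two, show ((3 : Fin 4) : ℕ) = 3 from rfl, ← mul_smul, ← pow_succ']
    rw [hP4]
    simp only [P, Fin.val_zero, Fin.val_one, Fin.val_two, show ((3 : Fin 4) : ℕ) = 3 from rfl, smul_add, add_smul]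
    abel
  have hshift' : ∀ (k : ℕ) c, (n : U) ^ k • L c = L (shiftFive^[k] c) := by
    intro k
    induction k with
    | zero => intro c; rw [pow_zero, one_smul]; rfl
    | succ k ih => intro c; rw [pow_succ', mul_smul, ih, hshift, Function.iterate_succ_apply']
  have hLinj : Function.Injective L := by
    have htop := hfull L.toAddMonoidHom.range (fun m hm x hx => by
        obtain ⟨c, rfl⟩ := hx
        obtain ⟨k, -, rfl⟩ := hnpow m hm
        exact ⟨shiftFive^[k] c, (hshift' k c).symm⟩)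
      (fun e => hp (AddSubgroup.mem_bot.1 (e ▸ (⟨![1, 0, 0, 0], by
        show L ![1, 0, 0, 0] = p
        simp [hL, P]⟩ : p ∈ L.toAddMonoidHom.range))))
    have hsurj : Function.Surjective L := fun x => (htop ▸ AddSubgroup.mem_top x : x ∈ L.toAddMonoidHom.range)
    exact ((Nat.bijective_iff_surjective_and_card _).2 ⟨hsurj, by rw [hW]; simp⟩).1
  have hp' : L ![1, 0, 0, 0] = p := by simp [hL, P]
  have hy' : L ![0, 1, 1, 0] = (n : U) • p + (n : U) ^ 2 • p := by simp [hL, P]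
  refine ⟨{x | x = L ![1, 0, 0, 0] ∨ x = L ![0, 1, 1, 0]}, fun g hg => ?_⟩
  obtain ⟨i, hi, hgi, -⟩ := hnorm g
  obtain ⟨w, hw⟩ : ∃ w, g • p = L w := by
    rcases (hg _).2 (show p ∈ _ from Or.inl hp'.symm) with h | h <;> exact ⟨_, h⟩
  have hgy : g • L ![0, 1, 1, 0] = L (shiftFive^[i] w + shiftFive^[(i * 2) % 5] w) := by
    have e1 := eq_of_pow_smul hgi 1 p
    rw [pow_one, mul_one] at e1
    rw [hy', smul_add, e1, eq_of_pow_smul hgi, hw, hshift', map_add, ← hshift' ((i * 2) % 5)]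
    congr 2
    rw [← hns, pow_mod_orderOf]
  obtain ⟨hi1, hw1⟩ := pair_five w ⟨i, hi⟩
    (by
      rcases (hg _).2 (show p ∈ _ from Or.inl hp'.symm) with h | h <;> rw [hw] at h
      · exact Or.inl (hLinj h)
      · exact Or.inr (hLinj h))
    (by
      rcases (hg _).2 (show L ![0, 1, 1, 0] ∈ _ from Or.inr rfl) with h | h <;> rw [hgy] at h
      · exact Or.inl (hLinj h)
      · exact Or.inr (hLinj h))
    (fun e => by
      have h' : g • p = g • L ![0, 1, 1, 0] := by rw [hgy, hw]; exact congrArg L e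
      have := hLinj (hp'.trans (smul_left_cancel g h'))
      exact absurd this (by decide))
  simp only at hi1
  rw [hw1, hp'] at hw
  refine eq_one_of_smul_eq (V := W) fun x => ?_
  obtain ⟨c, rfl⟩ := ((Nat.bijective_iff_injective_and_card _).2 ⟨hLinj, by rw [hW]; simp⟩).2 x
  have hgP : ∀ k : Fin 4, g • P k = P k := fun k => by
    show g • (n : U) ^ k.val • p = _
    rw [eq_of_pow_smul hgi, hw, hi1, one_mul]
  simp only [hL, smul_add, hcs, hgP]

end Cfsg.Agent.BaseTwo
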