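import Cfsg.Agent.Lib.BaseTwo.ColourCore
import Cfsg.Agent.Lib.BaseTwo.ColourSmall
import Cfsg.Agent.S0548
import Mathlib.GroupTheory.GroupAction.Primitive
import Mathlib.FieldTheory.Finiteness

/-! A primitive solvable group of order prime to `p` has a colouring by `p` colours with trivial stabiliser. -/

set_option autoImplicit false
set_option linter.style.haveILetI false

namespace Cfsg.Agent.BaseTwo

open OddBaseTwo

/-- An irreducible group without elements of order three is never faithful on four vectors. -/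
theorem not_irr_four {U W : Type} [Group U] [Finite U] [AddCommGroup W] [Finite W] [DistribMulAction U W]
    (h2 : ∀ x : W, x + x = 0) (hW : Nat.card W = 4) (hirr : Irr U W) (hcop : ¬ 3 ∣ Nat.card U) : False := by
  classical
  haveI : Nontrivial W := Finite.one_lt_card_iff_nontrivial.1 (by omega)
  have hnofix : ∀ z : W, z ≠ 0 → ∃ g : U, g • z ≠ z := by
    intro z hz
    by_contra hc
    push Not at hc
    rcases hirr (AddSubgroup.zmultiples z) (fun g w hw => by
      obtain ⟨k, rfl⟩ := AddSubgroup.mem_zmultiples_iff.1 hw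
      rw [show g • (k • z) = k • (g • z) from map_zsmul (DistribSMul.toAddMonoidHom W g) k z, hc g]
      exact zsmul_mem (AddSubgroup.mem_zmultiples z) k) with hb | ht
    · exact hz (AddSubgroup.zmultiples_eq_bot.1 hb)
    · have hcz := Nat.card_zmultiples z
      haveI : Fact (Nat.Prime 2) := ⟨Nat.prime_two⟩
      rw [ht, AddSubgroup.card_top, hW, addOrderOf_eq_prime (by rw [two_nsmul, h2]) hz] at hcz
      omega
  obtain ⟨x, hx⟩ := exists_ne (0 : W)
  obtain ⟨g, hg⟩ := hnofix x hx
  have hy : g • x ≠ 0 := fun e => hx ((smul_eq_zero_iff_eq g).1 e)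
  have hz : x + g • x ≠ 0 := fun e => hg ((add_left_cancel (e.trans (h2 x).symm)))
  have hall : ∀ w : W, w = 0 ∨ w = x ∨ w = g • x ∨ w = x + g • x := by
    haveI := Fintype.ofFinite W
    have h4 : ({0, x, g • x, x + g • x} : Finset W).card = 4 := by
      simp [Ne.symm hx, Ne.symm hy, Ne.symm hz, Ne.symm hg, hy, hx]
    have := Finset.eq_univ_of_card _ (h4.trans (by rw [← hW, Nat.card_eq_fintype_card]))
    intro w
    have hw := this ▸ Finset.mem_univ w
    simpa using hw
  have horb : x + g • x ∉ MulAction.orbit U x := by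
    intro hmem
    have hO : MulAction.orbit U x = ({0}ᶜ : Set W) := by
      refine Set.Subset.antisymm ?_ ?_
      · rintro _ ⟨h, rfl⟩; exact fun e => hx ((smul_eq_zero_iff_eq h).1 e)
      · intro w hw
        rcases hall w with rfl | rfl | rfl | rfl
        · exact absurd rfl hw
        · exact MulAction.mem_orbit_self _
        · exact ⟨g, rfl⟩
        · exact hmem
    have h3 : (MulAction.orbit U x).ncard = 3 := by
      rw [hO, Set.ncard_compl, Set.ncard_singleton, hW]
    refine hcop (h3 ▸ ?_)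
    rw [← MulAction.index_stabilizer]
    exact Subgroup.index_dvd_card _
  obtain ⟨k, hk⟩ := hnofix _ hz
  rcases hall (k • (x + g • x)) with e | e | e | e
  · exact hz ((smul_eq_zero_iff_eq k).1 e)
  · exact horb ⟨k⁻¹, inv_smul_eq_iff.2 e.symm⟩
  · exact horb ⟨k⁻¹ * g, show (k⁻¹ * g) • x = _ by rw [mul_smul]; exact inv_smul_eq_iff.2 e.symm⟩
  · exact hk e

/-- The colouring given by a set of non-zero vectors. -/
theorem colour_of_set {U W : Type} [Group U] [AddCommGroup W] [DistribMulAction U W] {p : ℕ} (hp : 3 ≤ p) (T : Set W)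
    (hT : ∀ u : U, (∀ x, u • x ∈ T ↔ x ∈ T) → u = 1) :
    ∃ f : W → ℕ, (∀ x, f x < p) ∧ (∀ x, f x = 0 ↔ x = 0) ∧ ∀ u : U, (∀ x, f (u • x) = f x) → u = 1 := by
  classical
  refine ⟨fun x => if x = 0 then 0 else if x ∈ T then 1 else 2, fun x => ?_, fun x => ?_, fun u hu => hT u fun x => ?_⟩
  · simp only; split_ifs <;> omega
  · refine ⟨fun h => ?_, fun h => if_pos h⟩
    simp only at h
    split_ifs at h with h0; exact h0
  · by_cases hx : x = 0
    · rw [hx, smul_zero]
    have h := hu x
    simp only [if_neg hx, if_neg (fun e => hx ((smul_eq_zero_iff_eq u).1 e))] at h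
    split_ifs at h with h1 h2 <;> simp_all

/-- The colouring of an irreducible linear group. -/
theorem affine_colour {U W : Type} [Group U] [Finite U] [Group.IsSolvable U] [AddCommGroup W] [Finite W] [Nontrivial W]
    [DistribMulAction U W] [FaithfulSMul U W] {r : ℕ} [hr : Fact r.Prime] [Module (ZMod r) W] {p : ℕ} (hp : p.Prime)
    (hp2 : p ≠ 2) (hrp : r ≠ p) (hirr : Irr U W) (hcop : (Nat.card U).Coprime p) :
    ∃ f : W → ℕ, (∀ x, f x < p) ∧ (∀ x, f x = 0 ↔ x = 0) ∧ ∀ u : U, (∀ x, f (u • x) = f x) → u = 1 := by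
  haveI : Module.Finite (ZMod r) W := Module.Finite.of_finite
  let a := Module.finrank (ZMod r) W
  let b : Module.Basis (Fin a) (ZMod r) W := Module.finBasis (ZMod r) W
  have hW : Nat.card W = r ^ a := by rw [Module.natCard_eq_pow_finrank (K := ZMod r), Nat.card_zmod]
  have hid : ∀ u : U, (∀ x : W, u • x = x) → u = 1 := fun u h => eq_one_of_smul_eq (V := W) h
  have hp3 : 3 ≤ p := by have := hp.two_le; omega
  by_cases h5 : 5 ≤ p
  · obtain ⟨f, hf, hf0, hfφ⟩ := colour_five b
    exact ⟨f, fun x => lt_of_lt_of_le (hf x) h5, hf0,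
      fun u hu => hid u (hfφ (DistribMulAction.toAddEquiv W u) hu)⟩
  have hp3' : p = 3 := by
    rcases (show p = 3 ∨ p = 4 by omega) with h | h
    · exact h
    · exact absurd (h ▸ hp) (by norm_num)
  subst hp3'
  have hcop' : ¬ 3 ∣ Nat.card U := fun h => by
    have := Nat.dvd_gcd h (dvd_refl 3); rw [hcop.gcd_eq_one] at this; norm_num at this
  by_cases hr5 : 5 ≤ r
  · obtain ⟨T, hT⟩ := set_large hr5 b
    exact colour_of_set le_rfl T fun u hu => hid u (hT (DistribMulAction.toAddEquiv W u) hu)
  obtain rfl : r = 2 := by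
    rcases (show r = 2 ∨ r = 3 ∨ r = 4 by have := hr.out.two_le; omega) with h | h | h
    · exact h
    · exact absurd h hrp
    · exact absurd (h ▸ hr.out) (by norm_num)
  have h2 : ∀ x : W, x + x = 0 := fun x => ZModModule.add_self x
  rcases Nat.lt_or_ge a 6 with ha | ha
  swap
  · obtain ⟨T, hT⟩ := set_two_large ha b
    exact colour_of_set le_rfl T fun u hu => hid u (hT (DistribMulAction.toAddEquiv W u) hu)
  rcases (show a = 0 ∨ a = 1 ∨ a = 2 ∨ (a = 3 ∨ a = 4 ∨ a = 5) by omega) with h | h | h | h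
  · exfalso
    have := Finite.one_lt_card (α := W)
    rw [hW, h, pow_zero] at this
    omega
  · refine colour_of_set le_rfl ∅ fun u _ => hid u fun x => ?_
    by_cases hx : x = 0
    · rw [hx, smul_zero]
    haveI := Fintype.ofFinite W
    classical
    by_contra hne
    have hc : ({0, x, u • x} : Finset W).card = 3 := Finset.card_eq_three.2
      ⟨0, x, u • x, Ne.symm hx, fun e => hx ((smul_eq_zero_iff_eq u).1 e.symm), Ne.symm hne, rfl⟩
    have := Finset.card_le_univ ({0, x, u • x} : Finset W)
    rw [hc, ← Nat.card_eq_fintype_card, hW, h, pow_one] at this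
    omega
  · exact (not_irr_four h2 (by rw [hW, h]; norm_num) hirr hcop').elim
  · obtain ⟨T, hT⟩ := set_two_small h2 h hW hirr hcop'
    exact colour_of_set le_rfl T hT

/-- A primitive solvable group of order prime to `p` has `p` colours with trivial stabiliser. -/
theorem exists_colouring {P Ω : Type} [Group P] [Finite P] [Group.IsSolvable P] [MulAction P Ω] [Finite Ω]
    [FaithfulSMul P Ω] [Nontrivial Ω] (hprim : MulAction.IsPreprimitive P Ω) (p : ℕ) [hp : Fact p.Prime]
    (hp2 : p ≠ 2) (hcop : (Nat.card P).Coprime p) :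
    ∃ c : Ω → ZMod p, ∀ g : P, (∀ x, c (g • x) = c x) → g = 1 := by
  classical
  have hP1 : (⊤ : Subgroup P) ≠ ⊥ := by
    intro e
    obtain ⟨x, y, hxy⟩ := exists_pair_ne Ω
    obtain ⟨g, hg⟩ := MulAction.exists_smul_eq P x y
    have : g = 1 := Subgroup.mem_bot.1 (e ▸ Subgroup.mem_top g)
    exact hxy (by rw [← hg, this, one_smul])
  haveI : Group.IsSolvable (⊤ : Subgroup P) := inferInstance
  obtain ⟨r, hr, M, hMn, hM0, -, hMc, hMr, hMexp, hmin⟩ := Solvable.exists_minimal_normal_pGroup hP1
  haveI := hMn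
  haveI := Fact.mk hr
  obtain ⟨ω⟩ := (inferInstance : Nonempty Ω)
  have h548 := S0548.result hprim M hM0 hmin ω
  set U := MulAction.stabilizer P ω with hU
  have hMcomm : ∀ a ∈ M, ∀ b ∈ M, a * b = b * a := fun a ha b hb =>
    congrArg Subtype.val (hMc.is_comm.comm (⟨a, ha⟩ : M) ⟨b, hb⟩)
  have hbij : Function.Bijective fun m : M => (m : P) • ω := by
    refine ⟨fun m m' h => ?_, fun y => ?_⟩
    · have h1 : ((m'⁻¹ * m : M) : P) ∈ M ⊓ U :=
        ⟨(m'⁻¹ * m).2, show ((m'⁻¹ * m : M) : P) • ω = ω by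
          rw [Subgroup.coe_mul, Subgroup.coe_inv, mul_smul, show (m : P) • ω = (m' : P) • ω from h, inv_smul_smul]⟩
      rw [h548.1.disjoint.eq_bot, Subgroup.mem_bot] at h1
      exact (inv_mul_eq_one.1 (Subtype.ext h1 : m'⁻¹ * m = 1)).symm
    · obtain ⟨g, rfl⟩ := MulAction.exists_smul_eq P ω y
      obtain ⟨⟨m, u⟩, hmu⟩ := h548.1.2 g
      exact ⟨m, by simp only at hmu ⊢; rw [← hmu, mul_smul, MulAction.mem_stabilizer_iff.mp u.2]⟩
  letI : CommGroup M := { (inferInstance : Group M) with mul_comm := fun a b => Subtype.ext (hMcomm a a.2 b b.2) }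
  letI actU : DistribMulAction U (Additive M) :=
    { smul := fun u x => Additive.ofMul ((MulAut.conjNormal (H := M) (u : P)) x.toMul)
      one_smul := fun x => by
        show Additive.ofMul ((MulAut.conjNormal (H := M) ((1 : U) : P)) x.toMul) = x
        rw [OneMemClass.coe_one, map_one]; rfl
      mul_smul := fun u v x => by
        show Additive.ofMul ((MulAut.conjNormal (H := M) ((u * v : U) : P)) x.toMul) = _
        rw [Subgroup.coe_mul, map_mul]; rfl
      smul_zero := fun u => by
        show Additive.ofMul ((MulAut.conjNormal (H := M) (u : P)) 1) = 0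
        rw [map_one]; rfl
      smul_add := fun u x y => by
        show Additive.ofMul ((MulAut.conjNormal (H := M) (u : P)) (x.toMul * y.toMul)) = _
        rw [map_mul]; rfl }
  have hsmul : ∀ (u : U) (x : Additive M), (((u • x).toMul : M) : P) = (u : P) * (x.toMul : M) * (u : P)⁻¹ :=
    fun u x => MulAut.conjNormal_apply _ _
  have hfaith : ∀ u : U, (∀ x : Additive M, u • x = x) → u = 1 := by
    intro u hu
    have : (u : P) ∈ MulAction.stabilizer P ω ⊓ Subgroup.centralizer (M : Set P) := by
      refine ⟨u.2, Subgroup.mem_centralizer_iff.2 fun m hm => ?_⟩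
      have := congrArg (fun x : Additive M => ((x.toMul : M) : P)) (hu (Additive.ofMul ⟨m, hm⟩))
      simp only [hsmul] at this
      exact (mul_inv_eq_iff_eq_mul.1 this).symm
    rw [h548.2.1, Subgroup.mem_bot] at this
    exact Subtype.ext this
  haveI : FaithfulSMul U (Additive M) :=
    ⟨fun {u v} h => (inv_mul_eq_one.1 (hfaith (v⁻¹ * u) fun x => by rw [mul_smul, h, inv_smul_smul])).symm⟩
  have hirr : Irr U (Additive M) := by
    intro T hT
    let K : Subgroup P := (AddSubgroup.toSubgroup' T).map M.subtype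
    have hKM : K ≤ M := Subgroup.map_subtype_le _
    have hnorm : MulAction.stabilizer P ω ≤ Subgroup.normalizer (K : Set P) := by
      intro u hu
      refine Subgroup.mem_normalizer_fintype ?_
      rintro _ ⟨m, hm, rfl⟩
      exact ⟨((⟨u, hu⟩ : U) • Additive.ofMul m).toMul, hT ⟨u, hu⟩ _ hm, hsmul ⟨u, hu⟩ _⟩
    rcases h548.2.2 K hKM hnorm with hb | ht
    · left
      refine (AddSubgroup.eq_bot_iff_forall _).2 fun x hx => ?_
      have : ((x.toMul : M) : P) ∈ K := ⟨x.toMul, hx, rfl⟩
      rw [hb, Subgroup.mem_bot] at this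
      exact Additive.toMul.injective (Subtype.ext this)
    · right
      refine eq_top_iff.2 fun x _ => ?_
      have : ((x.toMul : M) : P) ∈ K := by rw [ht]; exact x.toMul.2
      obtain ⟨m, hm, he⟩ := this
      have he' : m = x.toMul := Subtype.ext he
      rw [he'] at hm
      exact hm
  haveI : Nontrivial (Additive M) := by
    haveI : Nontrivial M := (Subgroup.nontrivial_iff_ne_bot M).2 hM0
    exact inferInstanceAs (Nontrivial (Additive M))
  letI : Module (ZMod r) (Additive M) := AddCommGroup.zmodModule fun x => by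
    apply Additive.toMul.injective
    apply Subtype.ext
    rw [toMul_nsmul, SubmonoidClass.coe_pow]
    exact hMexp _ x.toMul.2
  have hrp : r ≠ p := by
    rintro rfl
    obtain ⟨k, hk⟩ := IsPGroup.iff_card.1 hMr
    have hk0 : k ≠ 0 := fun e => hM0 (Subgroup.card_eq_one.1 (by rw [hk, e, pow_zero]))
    have hdvd : r ∣ Nat.card P := (dvd_pow_self r hk0).trans (hk ▸ M.card_subgroup_dvd_card)
    exact (hr.coprime_iff_not_dvd.1 hcop.symm) hdvd
  haveI : Group.IsSolvable U := inferInstance
  obtain ⟨f, hfp, hf0, hf⟩ := affine_colour (U := U) (W := Additive M) (r := r) hp.out hp2 hrp hirr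
    (hcop.coprime_dvd_left U.card_subgroup_dvd_card)
  let e : M ≃ Ω := Equiv.ofBijective _ hbij
  refine ⟨fun x => (f (Additive.ofMul (e.symm x)) : ZMod p), fun g hg => ?_⟩
  have hval : ∀ x, f (Additive.ofMul (e.symm (g • x))) = f (Additive.ofMul (e.symm x)) := fun x => by
    have := hg x
    simp only [ZMod.natCast_eq_natCast_iff'] at this
    rwa [Nat.mod_eq_of_lt (hfp _), Nat.mod_eq_of_lt (hfp _)] at this
  have he1 : e.symm ω = 1 := e.symm_apply_eq.2 (show ω = (((1 : M) : P)) • ω by rw [OneMemClass.coe_one, one_smul])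
  have hgω : g • ω = ω := by
    have h := hval ω
    rw [he1, show Additive.ofMul (1 : M) = 0 from rfl, (hf0 0).2 rfl, hf0] at h
    have h' : e.symm (g • ω) = 1 := h
    exact (e.symm.injective (h'.trans he1.symm))
  have hu : (⟨g, hgω⟩ : U) = 1 := by
    refine hf _ fun x => ?_
    obtain ⟨y, rfl⟩ : ∃ y, Additive.ofMul (e.symm y) = x := ⟨e x.toMul, by rw [e.symm_apply_apply]; rfl⟩
    rw [← hval y]
    congr 1
    refine congrArg Additive.ofMul ((e.eq_symm_apply).2 ?_)
    show ((((⟨g, hgω⟩ : U) • Additive.ofMul (e.symm y)).toMul : M) : P) • ω = g • y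
    rw [hsmul]
    show (g * ((e.symm y : M) : P) * g⁻¹) • ω = g • y
    rw [mul_smul, inv_smul_eq_iff.2 hgω.symm, mul_smul]
    exact congrArg (g • ·) (e.apply_symm_apply y)
  exact congrArg Subtype.val hu

end Cfsg.Agent.BaseTwo
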