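import Cfsg.Agent.EqLemmas
import Mathlib.LinearAlgebra.Basis.Basic
import Mathlib.LinearAlgebra.Dimension.Free
import Mathlib.Algebra.Module.ZMod
import Mathlib.Data.Finset.SymmDiff
import Mathlib.Data.ZMod.Basic
import Mathlib.Tactic

/-! Sets of vectors which are rigid under all automorphisms of an elementary abelian group. -/

set_option autoImplicit false
set_option linter.style.haveILetI false

namespace Cfsg.Agent.BaseTwo

open Module

variable {r : ℕ} [Fact r.Prime] {W : Type} [AddCommGroup W] [Module (ZMod r) W]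

/-- An automorphism fixing a basis is trivial. -/
theorem fix_of_basis {ι : Type} (b : Basis ι (ZMod r) W) (φ : W ≃+ W) (h : ∀ i, φ (b i) = b i) (x : W) : φ x = x := by
  have := b.ext (f₁ := φ.toAddMonoidHom.toZModLinearMap r) (f₂ := LinearMap.id) h
  exact LinearMap.congr_fun this x

theorem basis_pair {ι : Type} (b : Basis ι (ZMod r) W) {i j k l : ι} (hij : i ≠ j) (hkl : k ≠ l)
    (h : b i + b j = b k + b l) : i = k ∧ j = l ∨ i = l ∧ j = k := by
  classical
  have key : ∀ m : ι, ((if i = m then 1 else 0) + (if j = m then 1 else 0) : ZMod r) =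
      (if k = m then 1 else 0) + (if l = m then 1 else 0) := fun m => by
    have := congrArg (fun x => b.repr x m) h
    simpa only [map_add, Finsupp.add_apply, Basis.repr_self, Finsupp.single_apply] using this
  have hi : k = i ∨ l = i := by
    by_contra hc
    push Not at hc
    simpa [hc.1, hc.2, Ne.symm hij] using key i
  have hj : k = j ∨ l = j := by
    by_contra hc
    push Not at hc
    simpa [hc.1, hc.2, hij] using key j
  rcases hi with rfl | rfl <;> rcases hj with rfl | rfl
  · exact absurd rfl hij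
  · exact Or.inl ⟨rfl, rfl⟩
  · exact Or.inr ⟨rfl, rfl⟩
  · exact absurd rfl hij

theorem basis_ne_add {ι : Type} (b : Basis ι (ZMod r) W) {i k l : ι} (hkl : k ≠ l) : b i ≠ b k + b l := by
  classical
  intro h
  have key : ∀ m : ι, ((if i = m then 1 else 0) : ZMod r) =
      (if k = m then 1 else 0) + (if l = m then 1 else 0) := fun m => by
    have := congrArg (fun x => b.repr x m) h
    simpa only [map_add, Finsupp.add_apply, Basis.repr_self, Finsupp.single_apply] using this
  by_cases hik : i = k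
  · subst hik
    simpa [hkl] using key l
  · simpa [hik, Ne.symm hkl] using key k

/-- Five colours always suffice. -/
theorem colour_five {a : ℕ} (b : Basis (Fin a) (ZMod r) W) :
    ∃ f : W → ℕ, (∀ x, f x < 5) ∧ (∀ x, f x = 0 ↔ x = 0) ∧
      ∀ φ : W ≃+ W, (∀ x, f (φ x) = f x) → ∀ x, φ x = x := by
  classical
  let f : W → ℕ := fun x =>
    if x = 0 then 0 else if ∃ i : Fin a, (i : ℕ) = 0 ∧ x = b i then 1 else if ∃ i : Fin a, x = b i then 2
    else if ∃ i j : Fin a, (j : ℕ) = i + 1 ∧ x = b i + b j then 3 else 4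
  have h1 : ∀ i : Fin a, (i : ℕ) = 0 → f (b i) = 1 := fun i hi => by
    simp only [f, if_neg (b.ne_zero i)]
    exact if_pos ⟨i, hi, rfl⟩
  have h2 : ∀ i : Fin a, (i : ℕ) ≠ 0 → f (b i) = 2 := fun i hi => by
    simp only [f, if_neg (b.ne_zero i)]
    rw [if_neg, if_pos ⟨i, rfl⟩]
    rintro ⟨j, hj, he⟩
    exact hi (b.injective he ▸ hj)
  refine ⟨f, fun x => by simp only [f]; split_ifs <;> omega,
    fun x => ⟨fun h => by simp only [f] at h; split_ifs at h with h0; exact h0, fun h => if_pos h⟩, fun φ hφ => ?_⟩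
  have hB : ∀ i : Fin a, ∃ j : Fin a, φ (b i) = b j ∧ ((j : ℕ) = 0 ↔ (i : ℕ) = 0) := by
    intro i
    have h := hφ (b i)
    by_cases hi : (i : ℕ) = 0
    · rw [h1 i hi] at h
      simp only [f] at h
      split_ifs at h with a1 a2 <;> try omega
      · obtain ⟨j, hj, he⟩ := a2
        exact ⟨j, he, by simp [hj, hi]⟩
    · rw [h2 i hi] at h
      simp only [f] at h
      split_ifs at h with a1 a2 a3 <;> try omega
      · obtain ⟨j, he⟩ := a3
        exact ⟨j, he, iff_of_false (fun hj => a2 ⟨j, hj, he⟩) hi⟩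
  suffices hfix : ∀ n : ℕ, ∀ i : Fin a, (i : ℕ) ≤ n → φ (b i) = b i from fun x => fix_of_basis b φ (fun i => hfix i i le_rfl) x
  intro n
  induction n with
  | zero =>
    intro i hi
    obtain ⟨j, he, hj⟩ := hB i
    rw [he, Fin.ext (a := j) (b := i) (by have := hj.2 (by omega); omega)]
  | succ n ih =>
    intro i hi
    rcases Nat.lt_or_eq_of_le hi with hlt | heq
    · exact ih i (by omega)
    let k : Fin a := ⟨n, by omega⟩
    obtain ⟨j, he, hj⟩ := hB i
    have hk : φ (b k) = b k := ih k le_rfl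
    have hki : k ≠ i := fun e => by have := congrArg Fin.val e; simp only [k] at this; omega
    have hkj : k ≠ j := fun e => hki (b.injective (φ.injective (by rw [he, hk, e])))
    have hf : f (b k + b i) = 3 := by
      simp only [f]
      rw [if_neg, if_neg, if_neg, if_pos ⟨k, i, heq, rfl⟩]
      · rintro ⟨m, hm⟩; exact basis_ne_add b hki hm.symm
      · rintro ⟨m, -, hm⟩; exact basis_ne_add b hki hm.symm
      · intro h0
        have hh := congrArg (fun x => b.repr x k) h0
        simp [Ne.symm hki] at hh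
    have h := hφ (b k + b i)
    rw [hf, map_add, hk, he] at h
    simp only [f] at h
    split_ifs at h with a1 a2 a3 a4 <;> try omega
    · obtain ⟨u, v, huv, hsum⟩ := a4
      have huv' : u ≠ v := fun e => by rw [e] at huv; omega
      rcases basis_pair b hkj huv' hsum with ⟨rfl, rfl⟩ | ⟨rfl, rfl⟩
      · rw [he, Fin.ext (a := j) (b := i) (by simp only [k] at huv; omega)]
      · exfalso
        have hj' : φ (b j) = b j := ih j (by simp only [k] at huv; omega)
        have := congrArg Fin.val (b.injective (φ.injective (hj'.trans he.symm)))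
        simp only [k] at huv
        omega

/-- A rigid set in characteristic at least five. -/
theorem set_large (hr : 5 ≤ r) {a : ℕ} (b : Basis (Fin a) (ZMod r) W) :
    ∃ T : Set W, ∀ φ : W ≃+ W, (∀ x, φ x ∈ T ↔ x ∈ T) → ∀ x, φ x = x := by
  classical
  let T : Set W := {x | (∃ i, x = b i) ∨ ∃ i j : Fin a, (j : ℕ) = i + 1 ∧ x = b i + (2 : ℕ) • b j}
  have hs : ∀ x ∈ T, (b.sumCoords x = 1 ∧ ∃ i, x = b i) ∨
      (b.sumCoords x = 3 ∧ ∃ i j : Fin a, (j : ℕ) = i + 1 ∧ x = b i + (2 : ℕ) • b j) := by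
    rintro x (⟨i, rfl⟩ | ⟨i, j, hij, rfl⟩)
    · exact Or.inl ⟨b.sumCoords_self_apply i, i, rfl⟩
    · exact Or.inr ⟨by rw [map_add, map_nsmul, b.sumCoords_self_apply, b.sumCoords_self_apply]; norm_num, i, j, hij, rfl⟩
  have hne : ∀ m : ℕ, 0 < m → m < 5 → (m : ZMod r) ≠ 0 := fun m h1 h2 h => by
    rw [ZMod.natCast_eq_zero_iff] at h
    have := Nat.le_of_dvd h1 h
    omega
  -- the only relations z = x + 2y inside T
  have hrel : ∀ x ∈ T, ∀ y ∈ T, x + (2 : ℕ) • y ∈ T → ∃ i j : Fin a, (j : ℕ) = i + 1 ∧ x = b i ∧ y = b j := by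
    intro x hx y hy hz
    have hsz : b.sumCoords x + 2 * b.sumCoords y = 1 ∨ b.sumCoords x + 2 * b.sumCoords y = 3 := by
      rcases hs _ hz with ⟨h, -⟩ | ⟨h, -⟩
      · exact Or.inl (by rw [← h, map_add, map_nsmul, nsmul_eq_mul, Nat.cast_ofNat])
      · exact Or.inr (by rw [← h, map_add, map_nsmul, nsmul_eq_mul, Nat.cast_ofNat])
    have h2 : (2 : ZMod r) ≠ 0 := by simpa using hne 2 (by norm_num) (by norm_num)
    have h3 : (3 : ZMod r) ≠ 0 := by simpa using hne 3 (by norm_num) (by norm_num)
    have h4 : (4 : ZMod r) ≠ 0 := by simpa using hne 4 (by norm_num) (by norm_num)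
    have h6 : (6 : ZMod r) ≠ 0 := by rw [show (6 : ZMod r) = 2 * 3 by norm_num]; exact mul_ne_zero h2 h3
    have h8 : (8 : ZMod r) ≠ 0 := by rw [show (8 : ZMod r) = 2 * 4 by norm_num]; exact mul_ne_zero h2 h4
    rcases hs x hx with ⟨ex, i, rfl⟩ | ⟨ex, -⟩ <;> rcases hs y hy with ⟨ey, j, rfl⟩ | ⟨ey, -⟩ <;>
      rw [ex, ey] at hsz
    swap
    · exfalso; rcases hsz with h | h
      · exact h6 (by linear_combination h)
      · exact h4 (by linear_combination h)
    swap
    · exfalso; rcases hsz with h | h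
      · exact h4 (by linear_combination h)
      · exact h2 (by linear_combination h)
    swap
    · exfalso; rcases hsz with h | h
      · exact h8 (by linear_combination h)
      · exact h6 (by linear_combination h)
    rcases hs _ hz with ⟨h, -⟩ | ⟨-, k, l, hkl, he⟩
    · exfalso
      rw [map_add, map_nsmul, ex, ey] at h
      exact h2 (by simp at h; linear_combination h)
    have hkl' : k ≠ l := fun e => by rw [e] at hkl; omega
    have hk : i = k ∧ j = l := by
      have e := fun m => congrArg (fun x => b.repr x m) he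
      simp only [map_add, map_nsmul, Finsupp.add_apply, Finsupp.smul_apply, Basis.repr_self, Finsupp.single_apply,
        nsmul_eq_mul, Nat.cast_ofNat] at e
      have e1 := e k
      have e2 := e l
      rw [if_pos rfl, if_neg (Ne.symm hkl')] at e1
      rw [if_pos rfl, if_neg hkl'] at e2
      by_cases hik : i = k
      · subst hik
        refine ⟨rfl, ?_⟩
        by_contra hjl
        rw [if_neg hkl', if_neg hjl] at e2
        exact h2 (by linear_combination -e2)
      · exfalso
        rw [if_neg hik] at e1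
        by_cases hjk : j = k
        · rw [if_pos hjk] at e1
          exact one_ne_zero (α := ZMod r) (by linear_combination e1)
        · rw [if_neg hjk] at e1
          exact one_ne_zero (α := ZMod r) (by linear_combination -e1)
    exact ⟨i, j, by rw [hk.1, hk.2]; exact hkl, rfl, rfl⟩
  refine ⟨T, fun φ hφ => ?_⟩
  have hstep : ∀ i j : Fin a, (j : ℕ) = i + 1 → ∃ k l : Fin a, (l : ℕ) = k + 1 ∧ φ (b i) = b k ∧ φ (b j) = b l := by
    intro i j hij
    refine hrel _ ((hφ _).2 (Or.inl ⟨i, rfl⟩)) _ ((hφ _).2 (Or.inl ⟨j, rfl⟩)) ?_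
    rw [← map_nsmul, ← map_add]
    exact (hφ _).2 (Or.inr ⟨i, j, hij, rfl⟩)
  refine fun x => fix_of_basis b φ (fun i => ?_) x
  have hilt := i.isLt
  have hB : ∀ i : Fin a, ∃ k : Fin a, φ (b i) = b k := by
    intro i
    by_cases hnext : (i : ℕ) + 1 < a
    · obtain ⟨k, -, -, h, -⟩ := hstep i ⟨i + 1, hnext⟩ rfl
      exact ⟨k, h⟩
    by_cases hi : (i : ℕ) = 0
    · rcases (hφ (b i)).2 (Or.inl ⟨i, rfl⟩) with h | ⟨k, l, hkl, -⟩
      · exact h
      · omega
    · obtain ⟨-, l, -, -, h⟩ := hstep ⟨i - 1, by omega⟩ i (by show (i : ℕ) = i - 1 + 1; omega)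
      exact ⟨l, h⟩
  choose σ hσ using hB
  let z : Fin a := ⟨0, by omega⟩
  have hlin : ∀ n, ∀ hn : n < a, (σ ⟨n, hn⟩ : ℕ) = σ z + n := by
    intro n
    induction n with
    | zero => intro _; rfl
    | succ n ih =>
      intro hn
      obtain ⟨k, l, hkl, hk, hl⟩ := hstep ⟨n, by omega⟩ ⟨n + 1, hn⟩ rfl
      rw [hσ] at hk hl
      rw [b.injective hl, hkl, ← b.injective hk, ih]
      omega
  have hlast := hlin (a - 1) (by omega)
  have := (σ ⟨a - 1, by omega⟩).isLt
  rw [hσ, Fin.ext (a := σ i) (b := i) (by rw [show σ i = σ ⟨i, i.isLt⟩ from rfl, hlin i i.isLt]; omega)]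

open scoped symmDiff

/-- Vectors in coordinates over two elements. -/
noncomputable def sumSet {W : Type} [AddCommGroup W] [Module (ZMod 2) W] {ι : Type} (b : Basis ι (ZMod 2) W)
    (X : Finset ι) : W := ∑ i ∈ X, b i

section Two

variable {W : Type} [AddCommGroup W] [Module (ZMod 2) W] {ι : Type} [DecidableEq ι] (b : Basis ι (ZMod 2) W)

theorem sumSet_repr (X : Finset ι) (m : ι) : b.repr (sumSet b X) m = if m ∈ X then 1 else 0 := by
  rw [sumSet, map_sum, Finsupp.finset_sum_apply]
  simp only [Basis.repr_self, Finsupp.single_apply]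
  rw [Finset.sum_ite_eq' X m (fun _ => (1 : ZMod 2))]

theorem sumSet_injective : Function.Injective (sumSet b) := fun X Y h => Finset.ext fun m => by
  have := congrArg (fun x => b.repr x m) h
  simp only [sumSet_repr] at this
  split_ifs at this with h1 h2 h2 <;> simp_all

theorem sumSet_add (X Y : Finset ι) : sumSet b X + sumSet b Y = sumSet b (X ∆ Y) := by
  refine b.repr.injective (Finsupp.ext fun m => ?_)
  rw [map_add, Finsupp.add_apply]
  simp only [sumSet_repr, Finset.mem_symmDiff]
  by_cases h1 : m ∈ X <;> by_cases h2 : m ∈ Y <;> simp [h1, h2] <;> decide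

end Two

/-- A rigid set from a cycle with further points. -/
theorem set_cycle {W : Type} [AddCommGroup W] [Module (ZMod 2) W] {a : ℕ} [NeZero a] (ha : 5 ≤ a)
    (b : Basis (ZMod a) (ZMod 2) W) (Xs : Finset (Finset (ZMod a)))
    (hcard : ∀ X ∈ Xs, 4 ≤ X.card)
    (hpair : ∀ X ∈ Xs, ∀ i : ZMod a, i ∈ X → i + 1 ∈ X → ∀ j : ZMod a, X ∆ {i, i + 1} ≠ {j, j + 1})
    (hfar : ∀ X ∈ Xs, ∀ Y ∈ Xs, X ≠ Y → 3 ≤ (X ∆ Y).card)
    (hthree : ∀ X ∈ Xs, ∀ Y ∈ Xs, X ∆ Y ∉ Xs)
    (hinj : ∀ X ∈ Xs, ∀ Y ∈ Xs, X.card = Y.card → X = Y)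
    (hdih : ∀ e c : ZMod a, e = 1 ∨ e = -1 → (∀ X ∈ Xs, X.image (fun i => c + e * i) = X) → e = 1 ∧ c = 0) :
    ∃ T : Set W, ∀ φ : W ≃+ W, (∀ x, φ x ∈ T ↔ x ∈ T) → ∀ x, φ x = x := by
  classical
  let F : Finset (ZMod a) → Prop := fun X =>
    (∃ i, X = {i}) ∨ (∃ i : ZMod a, X = {i, i + 1}) ∨ X ∈ Xs
  have hsmall : ∀ m : ℕ, 0 < m → m < 5 → (m : ZMod a) ≠ 0 := fun m h1 h2 h => by
    rw [ZMod.natCast_eq_zero_iff] at h
    have := Nat.le_of_dvd h1 h
    omega
  have h1 : (1 : ZMod a) ≠ 0 := by simpa using hsmall 1 (by norm_num) (by norm_num)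
  have h2 : (2 : ZMod a) ≠ 0 := by simpa using hsmall 2 (by norm_num) (by norm_num)
  have h3 : (3 : ZMod a) ≠ 0 := by simpa using hsmall 3 (by norm_num) (by norm_num)
  have hsucc : ∀ i : ZMod a, i ≠ i + 1 := fun i e => h1 (by linear_combination -e)
  have hne : ∀ X, F X → X ≠ ∅ := by
    rintro X (⟨i, rfl⟩ | ⟨i, rfl⟩ | hX)
    · exact Finset.singleton_ne_empty i
    · exact Finset.insert_ne_empty _ _
    · intro e; have := hcard X hX; rw [e, Finset.card_empty] at this; omega
  have hsz : ∀ X, F X → X.card ≤ 2 → (∃ i, X = {i}) ∨ ∃ i : ZMod a, X = {i, i + 1} := by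
    rintro X (h | h | hX) hc
    · exact Or.inl h
    · exact Or.inr h
    · have := hcard X hX; omega
  have hsz3 : ∀ X, F X → 3 ≤ X.card → X ∈ Xs := by
    rintro X (⟨i, rfl⟩ | ⟨i, rfl⟩ | hX) hc
    · rw [Finset.card_singleton] at hc; omega
    · rw [Finset.card_pair (hsucc i)] at hc; omega
    · exact hX
  have hlow : ∀ X Y : Finset (ZMod a), X.card ≤ (X ∆ Y).card + Y.card := fun X Y => by
    refine (Finset.card_le_card (fun m hm => ?_)).trans (Finset.card_union_le _ _)
    by_cases hY : m ∈ Y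
    · exact Finset.mem_union_right _ hY
    · exact Finset.mem_union_left _ (Finset.mem_symmDiff.2 (Or.inl ⟨hm, hY⟩))
  -- an extra point is on no line
  have hX0 : ∀ X ∈ Xs, ∀ S, F S → ¬ F (X ∆ S) := by
    intro X hX S hS hU
    rcases hS with ⟨i, rfl⟩ | ⟨i, rfl⟩ | hS
    · have h := hlow X {i}
      rw [Finset.card_singleton] at h
      have hU' := hsz3 _ hU (by have := hcard X hX; omega)
      have h' := hfar X hX _ hU' fun e => Finset.singleton_ne_empty i (symmDiff_eq_left.1 e.symm)
      rw [symmDiff_symmDiff_cancel_left, Finset.card_singleton] at h'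
      omega
    · have h := hlow X {i, i + 1}
      rw [Finset.card_pair (hsucc i)] at h
      by_cases hc : 3 ≤ (X ∆ {i, i + 1}).card
      · have h' := hfar X hX _ (hsz3 _ hU hc) fun e => Finset.insert_ne_empty _ _ (symmDiff_eq_left.1 e.symm)
        rw [symmDiff_symmDiff_cancel_left, Finset.card_pair (hsucc i)] at h'
        omega
      · have hX4 := hcard X hX
        have hin : i ∈ X ∧ i + 1 ∈ X := by
          by_contra hn
          have hsub : (X ∆ {i, i + 1}).card + 1 ≥ X.card := by
            rw [not_and_or] at hn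
            rcases hn with hn | hn
            · have := Finset.card_le_card (show X ⊆ (X ∆ {i, i + 1}) ∪ {i + 1} from fun m hm => by
                by_cases e : m = i + 1
                · exact Finset.mem_union_right _ (Finset.mem_singleton.2 e)
                · refine Finset.mem_union_left _ (Finset.mem_symmDiff.2 (Or.inl ⟨hm, ?_⟩))
                  simp only [Finset.mem_insert, Finset.mem_singleton, e, or_false]
                  exact fun e' => hn (e' ▸ hm))
              refine le_trans this ((Finset.card_union_le _ _).trans ?_)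
              rw [Finset.card_singleton]
            · have := Finset.card_le_card (show X ⊆ (X ∆ {i, i + 1}) ∪ {i} from fun m hm => by
                by_cases e : m = i
                · exact Finset.mem_union_right _ (Finset.mem_singleton.2 e)
                · refine Finset.mem_union_left _ (Finset.mem_symmDiff.2 (Or.inl ⟨hm, ?_⟩))
                  simp only [Finset.mem_insert, Finset.mem_singleton, e, false_or]
                  exact fun e' => hn (e' ▸ hm))
              refine le_trans this ((Finset.card_union_le _ _).trans ?_)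
              rw [Finset.card_singleton]
          omega
        rcases hsz _ hU (by omega) with ⟨j, hj⟩ | ⟨j, hj⟩
        · rw [hj, Finset.card_singleton] at h; omega
        · exact hpair X hX i hin.1 hin.2 j hj
    · exact hthree X hX S hS (hsz3 _ hU (hfar X hX S hS fun e => hne _ hU (by rw [e]; exact symmDiff_self _)))
  -- an edge is on one line
  have hE1 : ∀ i : ZMod a, ∀ S, F S → F ({i, i + 1} ∆ S) → S = {i} ∨ S = {i + 1} := by
    intro i S hS hU
    rcases hS with ⟨j, rfl⟩ | ⟨j, rfl⟩ | hS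
    · by_contra hc
      simp only [Finset.singleton_inj, not_or] at hc
      have e : ({i, i + 1} : Finset (ZMod a)) ∆ {j} = {i, i + 1, j} := by
        ext m; simp only [Finset.mem_symmDiff, Finset.mem_insert, Finset.mem_singleton]
        constructor
        · tauto
        · rintro (rfl | rfl | rfl)
          · exact Or.inl ⟨Or.inl rfl, Ne.symm hc.1⟩
          · exact Or.inl ⟨Or.inr rfl, Ne.symm hc.2⟩
          · exact Or.inr ⟨rfl, fun h => h.elim hc.1 hc.2⟩
      rw [e] at hU
      have h3' : ({i, i + 1, j} : Finset (ZMod a)).card = 3 :=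
        Finset.card_eq_three.2 ⟨i, i + 1, j, hsucc i, Ne.symm hc.1, Ne.symm hc.2, rfl⟩
      have := hcard _ (hsz3 _ hU h3'.ge)
      omega
    · exfalso
      by_cases hbig : 3 ≤ (({i, i + 1} : Finset (ZMod a)) ∆ {j, j + 1}).card
      · refine hX0 _ (hsz3 _ hU hbig) {j, j + 1} (Or.inr (Or.inl ⟨j, rfl⟩)) ?_
        rw [symmDiff_symmDiff_cancel_right]
        exact Or.inr (Or.inl ⟨i, rfl⟩)
      by_cases hij : i = j
      · subst hij; exact hne _ hU (symmDiff_self _)
      by_cases hj1 : j = i + 1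
      · subst hj1
        have hne2 : i ≠ i + 1 + 1 := fun e => h2 (by linear_combination -e)
        have e : ({i, i + 1} : Finset (ZMod a)) ∆ {i + 1, i + 1 + 1} = {i, i + 1 + 1} := by
          ext m; simp only [Finset.mem_symmDiff, Finset.mem_insert, Finset.mem_singleton]
          constructor
          · tauto
          · rintro (rfl | rfl)
            · exact Or.inl ⟨Or.inl rfl, fun h => h.elim (hsucc _) hne2⟩
            · exact Or.inr ⟨Or.inr rfl, fun h => h.elim (Ne.symm hne2) (Ne.symm (hsucc _))⟩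
        rw [e] at hU
        rcases hsz _ hU (Finset.card_pair hne2).le with ⟨k, hk⟩ | ⟨k, hk⟩
        · have := congrArg Finset.card hk
          rw [Finset.card_pair hne2, Finset.card_singleton] at this
          omega
        · have a1 : i ∈ ({k, k + 1} : Finset (ZMod a)) := hk ▸ Finset.mem_insert_self _ _
          have a2 : i + 1 + 1 ∈ ({k, k + 1} : Finset (ZMod a)) :=
            hk ▸ Finset.mem_insert_of_mem (Finset.mem_singleton_self _)
          simp only [Finset.mem_insert, Finset.mem_singleton] at a1 a2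
          rcases a1 with a1 | a1 <;> rcases a2 with a2 | a2
          · exact h2 (by linear_combination a2 - a1)
          · exact h1 (by linear_combination a2 - a1)
          · exact h3 (by linear_combination a2 - a1)
          · exact h2 (by linear_combination a2 - a1)
      by_cases hi1 : i = j + 1
      · subst hi1
        have hne2 : j + 1 + 1 ≠ j := fun e => h2 (by linear_combination e)
        have e : ({j + 1, j + 1 + 1} : Finset (ZMod a)) ∆ {j, j + 1} = {j + 1 + 1, j} := by
          ext m; simp only [Finset.mem_symmDiff, Finset.mem_insert, Finset.mem_singleton]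
          constructor
          · tauto
          · rintro (rfl | rfl)
            · exact Or.inl ⟨Or.inr rfl, fun h => h.elim hne2 (Ne.symm (hsucc _))⟩
            · exact Or.inr ⟨Or.inl rfl, fun h => h.elim (hsucc _) (Ne.symm hne2)⟩
        rw [e] at hU
        rcases hsz _ hU (Finset.card_pair hne2).le with ⟨k, hk⟩ | ⟨k, hk⟩
        · have := congrArg Finset.card hk
          rw [Finset.card_pair hne2, Finset.card_singleton] at this
          omega
        · have a1 : j + 1 + 1 ∈ ({k, k + 1} : Finset (ZMod a)) := hk ▸ Finset.mem_insert_self _ _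
          have a2 : j ∈ ({k, k + 1} : Finset (ZMod a)) :=
            hk ▸ Finset.mem_insert_of_mem (Finset.mem_singleton_self _)
          simp only [Finset.mem_insert, Finset.mem_singleton] at a1 a2
          rcases a1 with a1 | a1 <;> rcases a2 with a2 | a2
          · exact h2 (by linear_combination a1 - a2)
          · exact h3 (by linear_combination a1 - a2)
          · exact h1 (by linear_combination a1 - a2)
          · exact h2 (by linear_combination a1 - a2)
      · refine hbig (le_trans ?_ (Finset.card_le_card (show ({i, i + 1, j} : Finset (ZMod a)) ⊆ _ from fun m hm => ?_)))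
        · exact (Finset.card_eq_three.2 ⟨i, i + 1, j, hsucc i, hij, Ne.symm hj1, rfl⟩).ge
        · simp only [Finset.mem_symmDiff, Finset.mem_insert, Finset.mem_singleton] at hm ⊢
          rcases hm with rfl | rfl | rfl
          · exact Or.inl ⟨Or.inl rfl, fun h => h.elim hij hi1⟩
          · exact Or.inl ⟨Or.inr rfl, fun h => h.elim (Ne.symm hj1) fun e => hij (add_right_cancel e)⟩
          · exact Or.inr ⟨Or.inl rfl, fun h => h.elim (Ne.symm hij) hj1⟩
    · exact absurd (by rw [symmDiff_comm S]; exact hU) (hX0 S hS _ (Or.inr (Or.inl ⟨i, rfl⟩)))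
  let T : Set W := {x | ∃ X, F X ∧ x = sumSet b X}
  have hT : ∀ X, sumSet b X ∈ T ↔ F X :=
    fun X => ⟨fun ⟨Y, hY, e⟩ => sumSet_injective b e ▸ hY, fun h => ⟨X, h, rfl⟩⟩
  have hb1 : ∀ i, sumSet b {i} = b i := fun i => Finset.sum_singleton _ _
  have hb2 : ∀ i : ZMod a, sumSet b {i, i + 1} = b i + b (i + 1) := fun i => Finset.sum_pair (hsucc i)
  refine ⟨T, fun φ hφ => ?_⟩
  -- points on two lines
  let Two : W → Prop := fun x => ∃ s ∈ T, ∃ s' ∈ T, x + s ∈ T ∧ x + s' ∈ T ∧ s' ≠ s ∧ s' ≠ x + s
  have hTwo : ∀ x, Two x → Two (φ x) := by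
    rintro x ⟨s, hs, s', hs', h₁, h₂, h₃, h₄⟩
    refine ⟨φ s, (hφ _).2 hs, φ s', (hφ _).2 hs', ?_, ?_, φ.injective.ne h₃, ?_⟩
    · rw [← map_add]; exact (hφ _).2 h₁
    · rw [← map_add]; exact (hφ _).2 h₂
    · rw [← map_add]; exact φ.injective.ne h₄
  have hB : ∀ i : ZMod a, Two (b i) := by
    intro i
    have hTb : ∀ j, b j ∈ T := fun j => hb1 j ▸ (hT _).2 (Or.inl ⟨j, rfl⟩)
    refine ⟨b (i + 1), hTb _, b (i - 1), hTb _, hb2 i ▸ (hT _).2 (Or.inr (Or.inl ⟨i, rfl⟩)), ?_, ?_, ?_⟩
    · have := (hT _).2 (Or.inr (Or.inl ⟨i - 1, rfl⟩))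
      rwa [hb2, sub_add_cancel, add_comm] at this
    · exact fun e => h2 (by linear_combination -(b.injective e))
    · exact basis_ne_add b (hsucc i)
  have hchar : ∀ x ∈ T, Two x → ∃ i, x = b i := by
    rintro _ ⟨X, hX, rfl⟩ ⟨_, ⟨S, hS, rfl⟩, _, ⟨S', hS', rfl⟩, h₁, h₂, h₃, h₄⟩
    rw [sumSet_add, hT] at h₁ h₂
    rcases hX with ⟨i, rfl⟩ | ⟨i, rfl⟩ | hX
    · exact ⟨i, hb1 i⟩
    · exfalso
      rw [sumSet_add] at h₄
      have key : ({i, i + 1} : Finset (ZMod a)) ∆ {i} = {i + 1} ∧ ({i, i + 1} : Finset (ZMod a)) ∆ {i + 1} = {i} := by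
        constructor <;> ext m <;> simp only [Finset.mem_symmDiff, Finset.mem_insert, Finset.mem_singleton] <;>
          constructor
        · rintro (⟨h | h, h'⟩ | ⟨h, h'⟩) <;> tauto
        · rintro rfl; exact Or.inl ⟨Or.inr rfl, Ne.symm (hsucc i)⟩
        · rintro (⟨h | h, h'⟩ | ⟨h, h'⟩) <;> tauto
        · rintro rfl; exact Or.inl ⟨Or.inl rfl, hsucc _⟩
      rcases hE1 i S hS h₁ with rfl | rfl <;> rcases hE1 i S' hS' h₂ with rfl | rfl
      · exact h₃ rfl
      · exact h₄ (by rw [key.1])
      · exact h₄ (by rw [key.2])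
      · exact h₃ rfl
    · exact absurd h₁ (hX0 X hX S hS)
  have hperm : ∀ i, ∃ j, φ (b i) = b j := fun i =>
    hchar _ ((hφ _).2 (hb1 i ▸ (hT _).2 (Or.inl ⟨i, rfl⟩))) (hTwo _ (hB i))
  choose σ hσ using hperm
  have hσi : Function.Injective σ := fun i j e => b.injective (φ.injective (by rw [hσ, hσ, e]))
  have hmap : ∀ X : Finset (ZMod a), φ (sumSet b X) = sumSet b (X.image σ) := fun X => by
    simp only [sumSet, map_sum, hσ]
    rw [Finset.sum_image fun x _ y _ e => hσi e]
  have hFim : ∀ X, F X → F (X.image σ) := fun X hX => (hT _).1 (hmap X ▸ (hφ _).2 ((hT X).2 hX))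
  have hadj : ∀ i : ZMod a, σ (i + 1) = σ i + 1 ∨ σ (i + 1) = σ i - 1 := by
    intro i
    have h := hFim _ (Or.inr (Or.inl ⟨i, rfl⟩))
    rw [Finset.image_insert, Finset.image_singleton] at h
    have hne' : σ i ≠ σ (i + 1) := hσi.ne (hsucc i)
    rcases hsz _ h (Finset.card_pair hne').le with ⟨j, hj⟩ | ⟨j, hj⟩
    · have := congrArg Finset.card hj
      rw [Finset.card_pair hne', Finset.card_singleton] at this
      omega
    · have e : b (σ i) + b (σ (i + 1)) = b j + b (j + 1) := by
        rw [← Finset.sum_pair (f := b) hne', ← Finset.sum_pair (f := b) (hsucc j), hj]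
      rcases basis_pair b hne' (hsucc j) e with ⟨e1, e2⟩ | ⟨e1, e2⟩
      · left; rw [e1, e2]
      · right; rw [e1, e2]; ring
  obtain ⟨ε, hε, hεv⟩ : ∃ ε : ZMod a, σ 1 = σ 0 + ε ∧ (ε = 1 ∨ ε = -1) := by
    rcases hadj 0 with h | h
    · exact ⟨1, by rwa [zero_add] at h, Or.inl rfl⟩
    · exact ⟨-1, by rwa [zero_add, sub_eq_add_neg] at h, Or.inr rfl⟩
  have hlin : ∀ n : ℕ, σ (n : ZMod a) = σ 0 + ε * n ∧ σ ((n + 1 : ℕ) : ZMod a) = σ 0 + ε * (n + 1 : ℕ) := by
    intro n
    induction n with
    | zero => simp [hε]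
    | succ n ih =>
      refine ⟨ih.2, ?_⟩
      have hni : σ ((n : ZMod a) + 1 + 1) ≠ σ (n : ZMod a) := hσi.ne fun e => h2 (by linear_combination e)
      rw [ih.1] at hni
      have h := hadj ((n : ZMod a) + 1)
      have i2 := ih.2
      push_cast at i2 ⊢
      rw [i2] at h
      rcases hεv with rfl | rfl <;> rcases h with h | h
      · rw [h]; ring
      · exact absurd (by rw [h]; ring) hni
      · exact absurd (by rw [h]; ring) hni
      · rw [h]; ring
  have hσlin : ∀ i : ZMod a, σ i = σ 0 + ε * i := fun i => by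
    obtain ⟨n, rfl⟩ := ZMod.natCast_zmod_surjective i
    exact (hlin n).1
  obtain ⟨rfl, h0⟩ := hdih ε (σ 0) hεv fun X hX => by
    have hc : (X.image σ).card = X.card := Finset.card_image_of_injective _ hσi
    rw [show X.image (fun i => σ 0 + ε * i) = X.image σ from Finset.image_congr fun i _ => (hσlin i).symm]
    exact hinj _ (hsz3 _ (hFim X (Or.inr (Or.inr hX))) (by have := hcard X hX; omega)) X hX hc
  exact fun x => fix_of_basis b φ (fun i => by rw [hσ, hσlin i, h0, zero_add, one_mul]) x

/-- The supports of the further points in dimension six. -/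
def sixX : Finset (Finset (ZMod 6)) := {{0, 1, 2, 4}, {1, 2, 3, 4, 5}}

theorem sixX_card : ∀ X ∈ sixX, 4 ≤ X.card := by decide +kernel

theorem sixX_pair : ∀ X ∈ sixX, ∀ i : ZMod 6, i ∈ X → i + 1 ∈ X → ∀ j : ZMod 6, X ∆ {i, i + 1} ≠ {j, j + 1} := by
  decide +kernel

theorem sixX_far : ∀ X ∈ sixX, ∀ Y ∈ sixX, X ≠ Y → 3 ≤ (X ∆ Y).card := by decide +kernel

theorem sixX_three : ∀ X ∈ sixX, ∀ Y ∈ sixX, X ∆ Y ∉ sixX := by decide +kernel

theorem sixX_inj : ∀ X ∈ sixX, ∀ Y ∈ sixX, X.card = Y.card → X = Y := by decide +kernel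

theorem sixX_dih : ∀ e c : ZMod 6, e = 1 ∨ e = -1 → (∀ X ∈ sixX, X.image (fun i => c + e * i) = X) → e = 1 ∧ c = 0 := by
  decide +kernel

/-- A rigid set in dimension at least six over two elements. -/
theorem set_two_large {W : Type} [AddCommGroup W] [Module (ZMod 2) W] {a : ℕ} (ha : 6 ≤ a)
    (b : Basis (Fin a) (ZMod 2) W) : ∃ T : Set W, ∀ φ : W ≃+ W, (∀ x, φ x ∈ T ↔ x ∈ T) → ∀ x, φ x = x := by
  haveI : NeZero a := ⟨by omega⟩
  let b' : Basis (ZMod a) (ZMod 2) W := b.reindex (ZMod.finEquiv a).toEquiv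
  rcases Nat.lt_or_eq_of_le ha with ha' | rfl
  swap
  · exact set_cycle (by omega) b' sixX sixX_card sixX_pair sixX_far sixX_three sixX_inj sixX_dih
  have hne : ∀ m n : ℕ, m < a → n < a → m ≠ n → (m : ZMod a) ≠ n := fun m n hm hn h e => h (by
    rwa [ZMod.natCast_eq_natCast_iff', Nat.mod_eq_of_lt hm, Nat.mod_eq_of_lt hn] at e)
  let X : Finset (ZMod a) := {0, 1, 2, 4}
  have hX : ∀ i : ZMod a, i ∈ X ↔ i = 0 ∨ i = 1 ∨ i = 2 ∨ i = 4 := fun i => by simp [X]
  have hsep : ∀ m : ℕ, m < a → m ≠ 0 → m ≠ 1 → m ≠ 2 → m ≠ 4 → (m : ZMod a) ∉ X := fun m hm a0 a1 a2 a4 h => by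
    rcases (hX _).1 h with h | h | h | h
    · exact hne m 0 hm (by omega) a0 (by simpa using h)
    · exact hne m 1 hm (by omega) a1 (by simpa using h)
    · exact hne m 2 hm (by omega) a2 (by simpa using h)
    · exact hne m 4 hm (by omega) a4 (by simpa using h)
  have n3 : (3 : ZMod a) ∉ X := by simpa using hsep 3 (by omega) (by omega) (by omega) (by omega) (by omega)
  have n5 : (5 : ZMod a) ∉ X := by simpa using hsep 5 (by omega) (by omega) (by omega) (by omega) (by omega)
  have nm1 : (-1 : ZMod a) ∉ X := by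
    have := hsep (a - 1) (by omega) (by omega) (by omega) (by omega) (by omega)
    rwa [Nat.cast_sub (by omega), ZMod.natCast_self, Nat.cast_one, zero_sub] at this
  have nm2 : (-2 : ZMod a) ∉ X := by
    have := hsep (a - 2) (by omega) (by omega) (by omega) (by omega) (by omega)
    rwa [Nat.cast_sub (by omega), ZMod.natCast_self, Nat.cast_ofNat, zero_sub] at this
  have hd : ∀ m n : ℕ, m < a → n < a → m ≠ n → ((m : ZMod a)) ≠ (n : ZMod a) := hne
  have h01 : (0 : ZMod a) ≠ 1 := by simpa using hne 0 1 (by omega) (by omega) (by omega)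
  have h02 : (0 : ZMod a) ≠ 2 := by simpa using hne 0 2 (by omega) (by omega) (by omega)
  have h04 : (0 : ZMod a) ≠ 4 := by simpa using hne 0 4 (by omega) (by omega) (by omega)
  have h12 : (1 : ZMod a) ≠ 2 := by simpa using hne 1 2 (by omega) (by omega) (by omega)
  have h14 : (1 : ZMod a) ≠ 4 := by simpa using hne 1 4 (by omega) (by omega) (by omega)
  have h24 : (2 : ZMod a) ≠ 4 := by simpa using hne 2 4 (by omega) (by omega) (by omega)
  have hcard : X.card = 4 := by
    simp [X, h01, h02, h04, h12, h14, h24]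
  refine set_cycle (by omega) b' {X} (by simp [hcard]) ?_ (by simp) ?_ (by simp) ?_
  · intro Y hY i hi hi1 j hj
    rw [Finset.mem_singleton] at hY
    subst hY
    have hmem : ∀ m ∈ X, m ≠ i → m ≠ i + 1 → m = j ∨ m = j + 1 := fun m hm e1 e2 => by
      have : m ∈ X ∆ {i, i + 1} := Finset.mem_symmDiff.2 (Or.inl ⟨hm, by simp [e1, e2]⟩)
      rw [hj] at this
      simpa using this
    rcases (hX i).1 hi with rfl | rfl | rfl | rfl
    · rw [zero_add] at hmem
      have a2 := hmem 2 ((hX _).2 (by simp)) h02.symm h12.symm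
      have a4 := hmem 4 ((hX _).2 (by simp)) h04.symm h14.symm
      rcases a2 with a2 | a2 <;> rcases a4 with a4 | a4
      · exact h24 (a2.trans a4.symm)
      · exact h12 (by linear_combination a2 - a4)
      · exact n3 ((hX _).2 (by left; linear_combination a4 - a2))
      · exact h24 (a2.trans a4.symm)
    · have h11 : (1 : ZMod a) + 1 = 2 := by norm_num
      rw [h11] at hmem
      have a0 := hmem 0 ((hX _).2 (by simp)) h01 h02
      have a4 := hmem 4 ((hX _).2 (by simp)) h14.symm h24.symm
      rcases a0 with a0 | a0 <;> rcases a4 with a4 | a4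
      · exact h04 (a0.trans a4.symm)
      · exact n3 ((hX _).2 (by left; linear_combination a4 - a0))
      · exact n5 ((hX _).2 (by left; linear_combination a4 - a0))
      · exact h04 (a0.trans a4.symm)
    · rw [show (2 : ZMod a) + 1 = 3 by norm_num] at hi1; exact n3 hi1
    · rw [show (4 : ZMod a) + 1 = 5 by norm_num] at hi1; exact n5 hi1
  · intro Y hY Z hZ h
    rw [Finset.mem_singleton] at hY hZ h
    subst hY hZ
    rw [symmDiff_self] at h
    rw [← h] at hcard
    simp at hcard
  · intro e c he h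
    have him := h X (Finset.mem_singleton_self _)
    have hin : ∀ i ∈ X, c + e * i ∈ X := fun i hi => by
      have := Finset.mem_image_of_mem (fun i => c + e * i) hi
      rwa [him] at this
    have b0 := hin 0 ((hX _).2 (by simp))
    have b1 := hin 1 ((hX _).2 (by simp))
    have b2 := hin 2 ((hX _).2 (by simp))
    have b4 := hin 4 ((hX _).2 (by simp))
    rw [mul_zero, add_zero] at b0
    rcases he with rfl | rfl <;> rcases (hX c).1 b0 with rfl | rfl | rfl | rfl
    · exact ⟨rfl, rfl⟩
    · exact absurd b2 (by convert n3 using 2; norm_num)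
    · exact absurd b1 (by convert n3 using 2; norm_num)
    · exact absurd b1 (by convert n5 using 2; norm_num)
    · exact absurd b1 (by convert nm1 using 2; ring)
    · exact absurd b2 (by convert nm1 using 2; ring)
    · exact absurd b4 (by convert nm2 using 2; ring)
    · exact absurd b1 (by convert n3 using 2; ring)

end Cfsg.Agent.BaseTwo
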