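import Cfsg.Agent.EqLemmas
import Cfsg.Agent.Lib.Coprime.Action
import Cfsg.Agent.Lib.Coprime.Factorization
import Mathlib.GroupTheory.PGroup
import Mathlib.Data.Nat.Factorization.Basic
import Mathlib.GroupTheory.GroupAction.Basic
import Mathlib.Tactic

/-! Fixed points under coprime action: a module with the same counts, and the equality of the marks. -/

set_option autoImplicit false
set_option linter.style.haveILetI false

namespace Cfsg.Agent.BaseTwo

open scoped Pointwise

universe u v w

/-- The points fixed by every element of `B`. -/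
def Fx {A : Type u} [Group A] (B : Subgroup A) (X : Type v) [SMul A X] : Set X := {x | ∀ b ∈ B, b • x = x}

theorem card_Fx_prod {A : Type u} [Group A] (B : Subgroup A) (X : Type v) (Y : Type w) [SMul A X] [SMul A Y] :
    Nat.card (Fx B (X × Y)) = Nat.card (Fx B X) * Nat.card (Fx B Y) := by
  rw [← Nat.card_prod]
  exact Nat.card_congr
    { toFun := fun z => (⟨z.1.1, fun b hb => congrArg Prod.fst (z.2 b hb)⟩,
        ⟨z.1.2, fun b hb => congrArg Prod.snd (z.2 b hb)⟩)
      invFun := fun z => ⟨(z.1.1, z.2.1), fun b hb => Prod.ext (z.1.2 b hb) (z.2.2 b hb)⟩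
      left_inv := fun _ => rfl
      right_inv := fun _ => rfl }

/-- Equal fixed point counts for all subgroups give a regular orbit on one set from one on the other. -/
theorem exists_regular_of_marks {A : Type u} [Group A] [Finite A] {X : Type v} {Y : Type w} [MulAction A X]
    [MulAction A Y] [Finite X] [Finite Y] (hcnt : ∀ B : Subgroup A, Nat.card (Fx B X) = Nat.card (Fx B Y))
    (hY : ∃ y : Y, MulAction.stabilizer A y = ⊥) : ∃ x : X, MulAction.stabilizer A x = ⊥ := by
  classical
  haveI := Fintype.ofFinite (Subgroup A)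
  haveI := Fintype.ofFinite X
  haveI := Fintype.ofFinite Y
  let nX : Subgroup A → ℕ := fun C => (Finset.univ.filter fun x : X => MulAction.stabilizer A x = C).card
  let nY : Subgroup A → ℕ := fun C => (Finset.univ.filter fun y : Y => MulAction.stabilizer A y = C).card
  have hX : ∀ B : Subgroup A, Nat.card (Fx B X) = ∑ C ∈ Finset.univ.filter (B ≤ ·), nX C := fun B => by
    rw [Nat.card_eq_fintype_card, ← Set.toFinset_card, Finset.card_eq_sum_card_fiberwise (f := MulAction.stabilizer A)
      (t := Finset.univ.filter (B ≤ ·)) fun x hx => Finset.mem_filter.2 ⟨Finset.mem_univ _, fun b hb => (Set.mem_toFinset (s := Fx B X)).1 hx b hb⟩]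
    refine Finset.sum_congr rfl fun C hC => congrArg Finset.card (Finset.ext fun x => ?_)
    simp only [Finset.mem_filter, Set.mem_toFinset, Finset.mem_univ, true_and]
    exact ⟨fun h => h.2, fun h => ⟨fun b hb => show b ∈ MulAction.stabilizer A x from h ▸ (Finset.mem_filter.1 hC).2 hb, h⟩⟩
  have hY' : ∀ B : Subgroup A, Nat.card (Fx B Y) = ∑ C ∈ Finset.univ.filter (B ≤ ·), nY C := fun B => by
    rw [Nat.card_eq_fintype_card, ← Set.toFinset_card, Finset.card_eq_sum_card_fiberwise (f := MulAction.stabilizer A)
      (t := Finset.univ.filter (B ≤ ·)) fun x hx => Finset.mem_filter.2 ⟨Finset.mem_univ _, fun b hb => (Set.mem_toFinset (s := Fx B Y)).1 hx b hb⟩]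
    refine Finset.sum_congr rfl fun C hC => congrArg Finset.card (Finset.ext fun x => ?_)
    simp only [Finset.mem_filter, Set.mem_toFinset, Finset.mem_univ, true_and]
    exact ⟨fun h => h.2, fun h => ⟨fun b hb => show b ∈ MulAction.stabilizer A x from h ▸ (Finset.mem_filter.1 hC).2 hb, h⟩⟩
  have key : ∀ n : ℕ, ∀ B : Subgroup A, Nat.card A ≤ Nat.card B + n → nX B = nY B := by
    intro n
    induction n with
    | zero =>
      intro B hB
      have h1 : Finset.univ.filter (B ≤ ·) = {B} := Finset.ext fun C => by
        simp only [Finset.mem_filter, Finset.mem_univ, true_and, Finset.mem_singleton]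
        exact ⟨fun h => (Subgroup.eq_of_le_of_card_ge h ((C.card_le_card_group).trans (by omega))).symm, fun h => h.ge⟩
      have := hcnt B
      rwa [hX, hY', h1, Finset.sum_singleton, Finset.sum_singleton] at this
    | succ n ih =>
      intro B hB
      have hmem : B ∈ Finset.univ.filter (B ≤ ·) := Finset.mem_filter.2 ⟨Finset.mem_univ _, le_rfl⟩
      have := hcnt B
      rw [hX, hY', ← Finset.sum_erase_add _ _ hmem, ← Finset.sum_erase_add _ (fun C => nY C) hmem,
        Finset.sum_congr rfl fun C hC => ih C ?_] at this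
      · exact add_left_cancel this
      · obtain ⟨hne, hC⟩ := Finset.mem_erase.1 hC
        have hle := (Finset.mem_filter.1 hC).2
        have : Nat.card B < Nat.card C := lt_of_le_of_ne (Subgroup.card_le_of_le hle)
          fun e => hne (Subgroup.eq_of_le_of_card_ge hle e.ge).symm
        omega
  obtain ⟨y, hy⟩ := hY
  have h0 : 0 < nY ⊥ := Finset.card_pos.2 ⟨y, Finset.mem_filter.2 ⟨Finset.mem_univ _, hy⟩⟩
  rw [← key (Nat.card A) ⊥ (by omega)] at h0
  obtain ⟨x, hx⟩ := Finset.card_pos.1 h0
  exact ⟨x, (Finset.mem_filter.1 hx).2⟩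

section Sylow

variable {G : Type v} [Group G] [Finite G] {A K : Subgroup G}

/-- An invariant Sylow subgroup meets the centraliser of a subgroup in a Sylow subgroup of it. -/
theorem card_inf_centralizer_of_le (hAK : A ≤ Subgroup.normalizer (K : Set G))
    (hcop : (Nat.card A).Coprime (Nat.card K)) {B : Subgroup G} (hBA : B ≤ A) (hB : Group.IsSolvable B)
    {q : ℕ} [Fact q.Prime] {Q : Subgroup G}
    (hQK : Q ≤ K) (hQA : A ≤ Subgroup.normalizer (Q : Set G))
    (hQ : Nat.card Q = q ^ (Nat.card K).factorization q) :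
    Nat.card (Q ⊓ Subgroup.centralizer (B : Set G) : Subgroup G) =
      q ^ (Nat.card (K ⊓ Subgroup.centralizer (B : Set G) : Subgroup G)).factorization q := by
  refine le_antisymm (Coprime.card_le_of_isPGroup ((Coprime.isPGroup_of_card hQ).to_le inf_le_left)
    (inf_le_inf_right _ hQK)) ?_
  obtain ⟨T⟩ := (inferInstance : Nonempty (Sylow q (K ⊓ Subgroup.centralizer (B : Set G) : Subgroup G)))
  set T' : Subgroup G := (T : Subgroup _).map (K ⊓ Subgroup.centralizer (B : Set G) : Subgroup G).subtype
  have hT' : T' ≤ K ⊓ Subgroup.centralizer (B : Set G) := Subgroup.map_subtype_le _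
  have hs : Group.IsSolvable B ∨ Group.IsSolvable K := Or.inl hB
  have hcopB := hcop.coprime_dvd_left (Subgroup.card_dvd_of_le hBA)
  obtain ⟨R, hTR, hRK, hRA, hR⟩ := Coprime.exists_invariant_card (hBA.trans hAK) hcopB hs q
    (hT'.trans inf_le_left) (T.2.map _)
    ((Subgroup.le_centralizer_iff.1 fun x hx => (hT' hx).2).trans (Subgroup.centralizer_le_normalizer _))
  obtain ⟨c, hc, hcR⟩ := Coprime.exists_mem_centralizer_conj_of_card (hBA.trans hAK) hcopB hs hQK hRK
    (hBA.trans hQA) hRA hQ hR
  have hle : MulAut.conj c • T' ≤ Q ⊓ Subgroup.centralizer (B : Set G) := le_inf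
    (hcR ▸ Subgroup.pointwise_smul_le_pointwise_smul_iff.2 hTR) (fun x hx => by
      rw [Coprime.mem_conj] at hx
      have := Subgroup.mul_mem _ (Subgroup.mul_mem _ hc.2 (hT' hx).2) (Subgroup.inv_mem _ hc.2)
      group at this
      simpa using this)
  refine le_trans (le_of_eq ?_) (Subgroup.card_le_of_le hle)
  rw [Coprime.card_conj, Subgroup.card_map_of_injective (Subgroup.subtype_injective _),
    T.card_eq_multiplicity]

end Sylow

variable {A : Type u} [Group A] [Finite A] {K : Type v} [Group K] [Finite K] [MulDistribMulAction A K]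

/-- The subgroup fixed by `B`. -/
def fixP (B : Subgroup A) (K : Type v) [Group K] [MulDistribMulAction A K] : Subgroup K where
  carrier := {x | ∀ b ∈ B, b • x = x}
  one_mem' := fun b _ => smul_one b
  mul_mem' := fun {x y} hx hy b hb => by rw [smul_mul', hx b hb, hy b hb]
  inv_mem' := fun {x} hx b hb => by rw [smul_inv', hx b hb]

/-- An invariant Sylow subgroup contains a Sylow subgroup of every fixed point group. -/
theorem card_fix_sylow [Group.IsSolvable A] (hcop : (Nat.card A).Coprime (Nat.card K)) {q : ℕ} [Fact q.Prime]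
    (S : Sylow q K) (hS : ∀ a : A, ∀ x ∈ S, a • x ∈ S) (B : Subgroup A) :
    Nat.card ((S : Subgroup K) ⊓ fixP B K : Subgroup K) = q ^ (Nat.card (fixP B K)).factorization q := by
  haveI : Finite (Coprime.toSemi A K) := Finite.of_equiv _ SemidirectProduct.equivProd.symm
  let i : K →* Coprime.toSemi A K := SemidirectProduct.inl
  have hi : Function.Injective i := SemidirectProduct.inl_injective
  let j : A →* Coprime.toSemi A K := SemidirectProduct.inr
  have hfix : ∀ (T : Subgroup K), T.map i ⊓ Subgroup.centralizer ((B.map j : Subgroup _) : Set (Coprime.toSemi A K)) =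
      (T ⊓ fixP B K).map i := by
    intro T
    ext z
    constructor
    · rintro ⟨⟨x, hx, rfl⟩, hz⟩
      refine ⟨x, ⟨hx, fun b hb => hi ?_⟩, rfl⟩
      show (SemidirectProduct.inl (b • x) : Coprime.toSemi A K) = _
      rw [← Coprime.inr_conj_inl, mul_inv_eq_iff_eq_mul]
      exact hz _ ⟨b, hb, rfl⟩
    · rintro ⟨x, ⟨hx, hx'⟩, rfl⟩
      refine ⟨⟨x, hx, rfl⟩, ?_⟩
      rintro _ ⟨b, hb, rfl⟩
      show (SemidirectProduct.inr b : Coprime.toSemi A K) * SemidirectProduct.inl x = _
      rw [← mul_inv_eq_iff_eq_mul, Coprime.inr_conj_inl, hx' b hb]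
  have hrange : (⊤ : Subgroup K).map i = Coprime.embK A K := (MonoidHom.range_eq_map i).symm
  have h := card_inf_centralizer_of_le (Coprime.embA_le_normalizer A K)
    (by rw [Coprime.card_embA, Coprime.card_embK]; exact hcop) (B := B.map j)
    (by rintro _ ⟨b, -, rfl⟩; exact ⟨b, rfl⟩)
    (Group.isSolvable_of_surjective (f := j.subgroupMap B) (j.subgroupMap_surjective B))
    (q := q) (Q := (S : Subgroup K).map i) (by rintro _ ⟨x, -, rfl⟩; exact ⟨x, rfl⟩)
    (by
      rintro _ ⟨a, rfl⟩
      refine Coprime.mem_normalizer_of_forall ?_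
      rintro _ ⟨x, hx, rfl⟩
      rw [Coprime.inr_conj_inl]
      exact ⟨_, hS a x hx, rfl⟩)
    (by rw [Subgroup.card_map_of_injective hi, Coprime.card_embK, S.card_eq_multiplicity])
  rwa [← hrange, hfix, hfix, top_inf_eq, Subgroup.card_map_of_injective hi, Subgroup.card_map_of_injective hi] at h

/-- An elementary module with the fixed point counts of an `r`-group. -/
theorem exists_module [Group.IsSolvable A] (r : ℕ) [hr : Fact r.Prime] :
    ∀ (n : ℕ) (S : Type v) [Group S] [Finite S] [MulDistribMulAction A S], Nat.card S ≤ n → IsPGroup r S →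
      (Nat.card A).Coprime (Nat.card S) →
      ∃ (V : Type v) (_ : AddCommGroup V) (_ : Finite V) (_ : DistribMulAction A V), (∀ x : V, r • x = 0) ∧
        ∀ B : Subgroup A, Nat.card (Fx B V) = Nat.card (fixP B S) := by
  intro n
  induction n with
  | zero => intro S _ _ _ h _ _; exact absurd h (by have := (Nat.card_pos (α := S)); omega)
  | succ n ih =>
    intro S _ _ _ hn hS hcop
    rcases subsingleton_or_nontrivial S with hs | hs
    · let T : DistribMulAction A PUnit.{v + 1} :=
        { smul := fun _ x => x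
          one_smul := fun _ => rfl
          mul_smul := fun _ _ _ => rfl
          smul_zero := fun _ => rfl
          smul_add := fun _ _ _ => rfl }
      refine ⟨PUnit.{v + 1}, inferInstance, inferInstance, T, fun x => Subsingleton.elim _ _, fun B => ?_⟩
      haveI : Nonempty (Fx B PUnit.{v + 1}) := ⟨⟨PUnit.unit, fun _ _ => Subsingleton.elim _ _⟩⟩
      rw [Nat.card_of_subsingleton (Classical.arbitrary (Fx B PUnit.{v + 1})), Nat.card_of_subsingleton (1 : fixP B S)]
    let Z : Subgroup S :=
      { carrier := {z | z ∈ Subgroup.center S ∧ z ^ r = 1}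
        one_mem' := ⟨one_mem _, one_pow r⟩
        mul_mem' := fun {x y} hx hy => ⟨mul_mem hx.1 hy.1, by
          rw [(show Commute x y from (Subgroup.mem_center_iff.1 hx.1 y).symm).mul_pow, hx.2, hy.2, one_mul]⟩
        inv_mem' := fun {x} hx => ⟨inv_mem hx.1, by rw [inv_pow, hx.2, inv_one]⟩ }
    have hZn : Z.Normal := ⟨fun z hz g => by rw [Subgroup.mem_center_iff.1 hz.1 g, mul_inv_cancel_right]; exact hz⟩
    have hZinv : ∀ a : A, ∀ z ∈ Z, a • z ∈ Z := fun a z hz => ⟨Subgroup.mem_center_iff.2 fun g => by
      have := congrArg (a • ·) (Subgroup.mem_center_iff.1 hz.1 (a⁻¹ • g))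
      simpa [smul_mul'] using this, by rw [← smul_pow', hz.2, smul_one]⟩
    have hZ1 : Z ≠ ⊥ := by
      haveI := hS.center_nontrivial
      obtain ⟨k, hk⟩ := IsPGroup.iff_card.1 (hS.to_subgroup (Subgroup.center S))
      have hk0 : k ≠ 0 := fun e => by
        have h1 := Finite.one_lt_card (α := Subgroup.center S)
        rw [hk, e, pow_zero] at h1
        exact lt_irrefl _ h1
      obtain ⟨z, hz⟩ := exists_prime_orderOf_dvd_card' (G := Subgroup.center S) r (hk ▸ dvd_pow_self r hk0)
      intro e
      have hmem : (z : S) ∈ Z := ⟨z.2, by rw [← Subgroup.coe_pow, ← hz, pow_orderOf_eq_one]; rfl⟩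
      rw [e, Subgroup.mem_bot] at hmem
      rw [show z = 1 from Subtype.ext hmem, orderOf_one] at hz
      exact hr.out.one_lt.ne hz
    letI actQ : MulDistribMulAction A (S ⧸ Z) :=
      { smul := fun a => QuotientGroup.map Z Z (MulDistribMulAction.toMonoidHom S a) (fun z hz => hZinv a z hz)
        one_smul := fun x => by
          induction x using QuotientGroup.induction_on with
          | _ x => exact congrArg QuotientGroup.mk (one_smul A x)
        mul_smul := fun a b x => by
          induction x using QuotientGroup.induction_on with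
          | _ x => exact congrArg QuotientGroup.mk (mul_smul a b x)
        smul_one := fun a => map_one (QuotientGroup.map Z Z (MulDistribMulAction.toMonoidHom S a) (fun z hz => hZinv a z hz))
        smul_mul := fun a x y => map_mul (QuotientGroup.map Z Z (MulDistribMulAction.toMonoidHom S a) (fun z hz => hZinv a z hz)) x y }
    have hQcard : Nat.card (S ⧸ Z) * Nat.card Z = Nat.card S := Z.card_eq_card_quotient_mul_card_subgroup.symm
    have hZ2 : 2 ≤ Nat.card Z := (Subgroup.one_lt_card_iff_ne_bot Z).2 hZ1
    obtain ⟨V, iV, iF, iA, hVexp, hV⟩ := ih (S ⧸ Z) (by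
        have h1 : Nat.card (S ⧸ Z) * 2 ≤ Nat.card S := hQcard ▸ Nat.mul_le_mul_left _ hZ2
        have := Nat.card_pos (α := S ⧸ Z)
        omega)
      (hS.of_surjective (QuotientGroup.mk' Z) (QuotientGroup.mk'_surjective Z))
      (hcop.coprime_dvd_right (Dvd.intro _ hQcard))
    letI : CommGroup Z := { (inferInstance : Group Z) with
      mul_comm := fun x y => Subtype.ext (Subgroup.mem_center_iff.1 y.2.1 x) }
    letI actZ : DistribMulAction A (Additive Z) :=
      { smul := fun a x => Additive.ofMul (⟨a • (x.toMul : S), hZinv a _ x.toMul.2⟩ : Z)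
        one_smul := fun x => Additive.toMul.injective (Subtype.ext (one_smul A (x.toMul : S)))
        mul_smul := fun a b x => Additive.toMul.injective (Subtype.ext (mul_smul a b (x.toMul : S)))
        smul_zero := fun a => Additive.toMul.injective (Subtype.ext (smul_one a))
        smul_add := fun a x y => Additive.toMul.injective (Subtype.ext (smul_mul' a (x.toMul : S) y.toMul)) }
    refine ⟨Additive Z × V, inferInstance, inferInstance, inferInstance, fun x => ?_, fun B => ?_⟩
    · refine Prod.ext ?_ (by rw [Prod.smul_snd, hVexp]; rfl)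
      rw [Prod.smul_fst]
      refine Additive.toMul.injective (Subtype.ext ?_)
      rw [toMul_nsmul, SubmonoidClass.coe_pow]
      exact x.1.toMul.2.2
    rw [card_Fx_prod, hV]
    have hZfix : Nat.card (Fx B (Additive Z)) = Nat.card (Z ⊓ fixP B S : Subgroup S) := Nat.card_congr
      { toFun := fun x => ⟨(x.1.toMul : S), x.1.toMul.2, fun b hb =>
          congrArg (fun y : Additive Z => ((y.toMul : Z) : S)) (x.2 b hb)⟩
        invFun := fun x => ⟨Additive.ofMul ⟨x.1, x.2.1⟩, fun b hb => Additive.toMul.injective (Subtype.ext (x.2.2 b hb))⟩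
        left_inv := fun _ => rfl
        right_inv := fun _ => rfl }
    rw [hZfix]
    let f : fixP B S →* S ⧸ Z := (QuotientGroup.mk' Z).comp (fixP B S).subtype
    have hrange : f.range = fixP B (S ⧸ Z) := by
      refine le_antisymm ?_ ?_
      · rintro _ ⟨⟨x, hx⟩, rfl⟩ b hb
        exact congrArg QuotientGroup.mk (hx b hb)
      · intro q hq
        induction q using QuotientGroup.induction_on with
        | _ g =>
          obtain ⟨c, hc, hcg⟩ := Coprime.exists_smul_fixed_of_coset (A := B) (G := S)
            (hcop.coprime_dvd_left B.card_subgroup_dvd_card) (Or.inl inferInstance) (N := Z)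
            (fun b z hz => hZinv b z hz) (g := g) (fun b => by
              rw [← div_eq_mul_inv, ← QuotientGroup.eq_iff_div_mem]
              exact hq b b.2)
          refine ⟨⟨c, fun b hb => hc ⟨b, hb⟩⟩, ?_⟩
          show (c : S ⧸ Z) = g
          rw [QuotientGroup.eq_iff_div_mem, div_eq_mul_inv]
          exact hcg
    have hker : Nat.card f.ker = Nat.card (Z ⊓ fixP B S : Subgroup S) := Nat.card_congr
      { toFun := fun x => ⟨x.1.1, (QuotientGroup.eq_one_iff _).1 x.2, x.1.2⟩
        invFun := fun x => ⟨⟨x.1, x.2.2⟩, (QuotientGroup.eq_one_iff _).2 x.2.1⟩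
        left_inv := fun _ => rfl
        right_inv := fun _ => rfl }
    rw [← hker, ← hrange, ← Subgroup.index_ker, Subgroup.card_mul_index]

end Cfsg.Agent.BaseTwo
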