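import Cfsg.Agent.Lib.BaseTwo.Main
import Cfsg.Agent.Lib.BaseTwo.Marks
import Mathlib.SetTheory.Cardinal.Finite

/-! Two points with trivial common stabiliser for coprime action of solvable groups. -/

set_option autoImplicit false
set_option linter.style.haveILetI false

namespace Cfsg.Agent.BaseTwo

universe u v

/-- Two vectors whose common stabiliser is the kernel, in every characteristic. -/
theorem pair_kernel {A : Type u} {V : Type v} [Group A] [Finite A] [Group.IsSolvable A] [AddCommGroup V] [Finite V]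
    [DistribMulAction A V] (p : ℕ) [Fact p.Prime] (hexp : ∀ x : V, p • x = 0) (hcop : (Nat.card A).Coprime p) :
    ∃ v w : V, ∀ a : A, a • v = v → a • w = w → ∀ x : V, a • x = x := by
  rcases subsingleton_or_nontrivial V with h | h
  · exact ⟨0, 0, fun a _ _ x => Subsingleton.elim _ _⟩
  let ev : V ≃ OddBaseTwo.Pts (Nat.card V) := Finite.equivFin V
  let ea : A ≃ OddBaseTwo.Pts (Nat.card A) := Finite.equivFin A
  letI : AddCommGroup (OddBaseTwo.Pts (Nat.card V)) := ev.symm.addCommGroup
  letI : Group (OddBaseTwo.Pts (Nat.card A)) := ea.symm.group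
  let φ : V ≃+ OddBaseTwo.Pts (Nat.card V) := (ev.symm.addEquiv).symm
  let ψ : A ≃* OddBaseTwo.Pts (Nat.card A) := (ea.symm.mulEquiv).symm
  letI : DistribMulAction (OddBaseTwo.Pts (Nat.card A)) (OddBaseTwo.Pts (Nat.card V)) :=
    { smul := fun a x => φ (ψ.symm a • φ.symm x)
      one_smul := fun x => show φ (ψ.symm 1 • φ.symm x) = x by
        rw [map_one, one_smul, AddEquiv.apply_symm_apply]
      mul_smul := fun a b x => show φ (ψ.symm (a * b) • φ.symm x) =
          φ (ψ.symm a • φ.symm (φ (ψ.symm b • φ.symm x))) by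
        rw [map_mul, mul_smul, AddEquiv.symm_apply_apply]
      smul_zero := fun a => show φ (ψ.symm a • φ.symm 0) = 0 by rw [map_zero, smul_zero, map_zero]
      smul_add := fun a x y => show φ (ψ.symm a • φ.symm (x + y)) = _ by rw [map_add, smul_add, map_add]; rfl }
  have hsmul : ∀ (a : A) (x : V), ψ a • φ x = φ (a • x) := fun a x => by
    show φ (ψ.symm (ψ a) • φ.symm (φ x)) = _
    rw [MulEquiv.symm_apply_apply, AddEquiv.symm_apply_apply]
  letI : Module (ZMod p) (OddBaseTwo.Pts (Nat.card V)) := AddCommGroup.zmodModule fun x => by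
    apply φ.symm.injective
    rw [map_nsmul, hexp, map_zero]
  haveI : Group.IsSolvable (OddBaseTwo.Pts (Nat.card A)) :=
    Group.isSolvable_of_surjective (f := ψ.toMonoidHom) ψ.surjective
  have hcop' : (Nat.card (OddBaseTwo.Pts (Nat.card A))).Coprime p := by rwa [← Nat.card_congr ψ.toEquiv]
  obtain ⟨v, w, hb⟩ : ∃ v w : OddBaseTwo.Pts (Nat.card V), ∀ a : OddBaseTwo.Pts (Nat.card A),
      a • v = v → a • w = w → ∀ x : OddBaseTwo.Pts (Nat.card V), a • x = x := by
    by_cases hp2 : p = 2
    · subst hp2
      exact OddBaseTwo.below (Nat.card (OddBaseTwo.Pts (Nat.card V)) + 1) _ _ (Nat.coprime_two_right.1 hcop')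
        (cr_of_coprime 2 hcop') (Nat.lt_succ_self _)
    · obtain ⟨v, w, -, hb⟩ := belowCop p hp2 (Nat.card (OddBaseTwo.Pts (Nat.card V)) + 1) _ _ inferInstance hcop'
        ev.symm.nontrivial (Nat.lt_succ_self _)
      exact ⟨v, w, hb⟩
  refine ⟨φ.symm v, φ.symm w, fun a h1 h2 x => φ.injective ?_⟩
  rw [← hsmul]
  exact hb _ (show φ (ψ.symm (ψ a) • φ.symm v) = v by
      rw [MulEquiv.symm_apply_apply, h1, AddEquiv.apply_symm_apply])
    (show φ (ψ.symm (ψ a) • φ.symm w) = w by
      rw [MulEquiv.symm_apply_apply, h2, AddEquiv.apply_symm_apply]) (φ x)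

/-- A coprime solvable group of automorphisms has two points with trivial common stabiliser. -/
theorem exists_two_points {A : Type u} {K : Type v} [Group A] [Finite A] [Group.IsSolvable A] [Group K] [Finite K]
    [MulDistribMulAction A K] [FaithfulSMul A K] (hcop : (Nat.card A).Coprime (Nat.card K)) :
    ∃ x y : K, ∀ a : A, a • x = x → a • y = y → a = 1 := by
  classical
  let P := (Nat.card K).primeFactors
  have hmod : ∀ r : P, ∃ (V : Type v) (_ : AddCommGroup V) (_ : Finite V) (_ : DistribMulAction A V),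
      (∀ x : V, (r : ℕ) • x = 0) ∧
        ∀ B : Subgroup A, Nat.card (Fx B V) = (r : ℕ) ^ (Nat.card (fixP B K)).factorization r := by
    intro r
    haveI : Fact (r : ℕ).Prime := ⟨Nat.prime_of_mem_primeFactors r.2⟩
    obtain ⟨S, hS⟩ := Coprime.exists_smul_invariant_sylow hcop (Or.inl inferInstance) (r : ℕ)
    letI : MulDistribMulAction A (S : Subgroup K) :=
      { smul := fun a x => ⟨a • (x : K), hS a x x.2⟩
        one_smul := fun x => Subtype.ext (one_smul A (x : K))
        mul_smul := fun a b x => Subtype.ext (mul_smul a b (x : K))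
        smul_one := fun a => Subtype.ext (smul_one a)
        smul_mul := fun a x y => Subtype.ext (smul_mul' a (x : K) y) }
    obtain ⟨V, iV, iF, iA, hexp, hV⟩ := exists_module (r : ℕ) (Nat.card (S : Subgroup K)) (S : Subgroup K) le_rfl S.2
      (hcop.coprime_dvd_right (S : Subgroup K).card_subgroup_dvd_card)
    refine ⟨V, iV, iF, iA, hexp, fun B => ?_⟩
    rw [hV, ← card_fix_sylow hcop S hS B]
    exact Nat.card_congr
      { toFun := fun x => ⟨x.1, x.1.2, fun b hb => congrArg Subtype.val (x.2 b hb)⟩
        invFun := fun x => ⟨⟨x.1, x.2.1⟩, fun b hb => Subtype.ext (x.2.2 b hb)⟩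
        left_inv := fun _ => rfl
        right_inv := fun _ => rfl }
  choose V iV iF iA hexp hV using hmod
  letI := iV
  letI := iF
  letI := iA
  have hcard : ∀ B : Subgroup A, Nat.card (Fx B ((r : P) → V r)) = Nat.card (Fx B K) := by
    intro B
    have h1 : Nat.card (Fx B ((r : P) → V r)) = ∏ r : P, Nat.card (Fx B (V r)) := by
      rw [← Nat.card_pi]
      exact Nat.card_congr
        { toFun := fun f r => ⟨f.1 r, fun b hb => congrFun (f.2 b hb) r⟩
          invFun := fun f => ⟨fun r => (f r).1, fun b hb => funext fun r => (f r).2 b hb⟩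
          left_inv := fun _ => rfl
          right_inv := fun _ => rfl }
    have hn : Nat.card (fixP B K) ≠ 0 := Nat.card_pos.ne'
    rw [h1, Finset.prod_congr rfl fun r _ => hV r B,
      Finset.prod_coe_sort P fun r => r ^ (Nat.card (fixP B K)).factorization r,
      show Nat.card (Fx B K) = Nat.card (fixP B K) from rfl]
    conv_rhs => rw [← Nat.prod_factorization_pow_eq_self hn]
    rw [Finsupp.prod_of_support_subset _ (s := P) ?_ _ (fun i _ => pow_zero i)]
    rw [Nat.support_factorization]
    exact Nat.primeFactors_mono (fixP B K).card_subgroup_dvd_card Nat.card_pos.ne'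
  have hbase : ∀ r : P, ∃ v w : V r, ∀ a : A, a • v = v → a • w = w → ∀ x : V r, a • x = x := fun r => by
    haveI : Fact (r : ℕ).Prime := ⟨Nat.prime_of_mem_primeFactors r.2⟩
    exact pair_kernel (r : ℕ) (hexp r) (hcop.coprime_dvd_right (Nat.dvd_of_mem_primeFactors r.2))
  choose v w hvw using hbase
  obtain ⟨z, hz⟩ := exists_regular_of_marks (A := A) (X := K × K) (Y := ((r : P) → V r) × ((r : P) → V r))
    (fun B => by rw [card_Fx_prod, card_Fx_prod, hcard]) ⟨(v, w), (Subgroup.eq_bot_iff_forall _).2 fun a ha => by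
      have hker : ∀ (r : P) (x : V r), a • x = x :=
        fun r => hvw r a (congrFun (congrArg Prod.fst ha) r) (congrFun (congrArg Prod.snd ha) r)
      have hall : ∀ b ∈ Subgroup.zpowers a, ∀ f : (r : P) → V r, b • f = f := fun b hb f =>
        (Subgroup.zpowers_le.2 (show a ∈ MulAction.stabilizer A f from funext fun r => hker r (f r))) hb
      have h := hcard (Subgroup.zpowers a)
      rw [show Fx (Subgroup.zpowers a) ((r : P) → V r) = Set.univ from Set.eq_univ_of_forall fun f b hb => hall b hb f,
        Nat.card_univ] at h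
      have h0 := hcard ⊥
      rw [show Fx (⊥ : Subgroup A) ((r : P) → V r) = Set.univ from Set.eq_univ_of_forall fun f b hb => by
          rw [Subgroup.mem_bot.1 hb, one_smul],
        show Fx (⊥ : Subgroup A) K = Set.univ from Set.eq_univ_of_forall fun x b hb => by
          rw [Subgroup.mem_bot.1 hb, one_smul], Nat.card_univ, Nat.card_univ] at h0
      have heq : Fx (Subgroup.zpowers a) K = Set.univ :=
        Set.eq_of_subset_of_ncard_le (Set.subset_univ _) (by
          rw [Set.ncard_univ, ← Nat.card_coe_set_eq, ← h, h0]) (Set.toFinite _)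
      exact eq_of_smul_eq_smul (α := K) fun x =>
        ((Set.eq_univ_iff_forall.1 heq x) a (Subgroup.mem_zpowers a)).trans (one_smul A x).symm⟩
  exact ⟨z.1, z.2, fun a h1 h2 => (Subgroup.eq_bot_iff_forall _).1 hz a (Prod.ext h1 h2)⟩

end Cfsg.Agent.BaseTwo
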