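import Cfsg.Agent.EqLemmas
import Mathlib.GroupTheory.PGroup
import Mathlib.GroupTheory.Index
import Mathlib.Algebra.Group.Action.Basic
import Mathlib.Algebra.BigOperators.Group.Finset.Basic
import Mathlib.Tactic

/-! Automorphisms of order seven of small groups of exponent two. -/

set_option autoImplicit false
set_option linter.style.haveILetI false

namespace Cfsg.Agent.BaseTwo

variable {G : Type*} [CommGroup G] {τ : MulAut G}

theorem mem_zpowers_seven (h7 : τ ^ 7 = 1) : IsPGroup 7 (Subgroup.zpowers τ) := by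
  rintro ⟨_, i, rfl⟩
  exact ⟨1, Subtype.ext (by
    rw [pow_one, Subgroup.coe_pow, ← zpow_natCast, ← zpow_mul, mul_comm, zpow_mul, zpow_natCast, h7, one_zpow]
    rfl)⟩

theorem seven_modEq [Finite G] (h7 : τ ^ 7 = 1) (hfix : ∀ x, τ x = x → x = 1) : Nat.card G ≡ 1 [MOD 7] := by
  haveI : Fact (Nat.Prime 7) := ⟨by norm_num⟩
  have h := (mem_zpowers_seven h7).card_modEq_card_fixedPoints G
  have h1 : Nat.card (MulAction.fixedPoints (Subgroup.zpowers τ) G) = 1 := by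
    rw [Nat.card_eq_one_iff_unique]
    refine ⟨⟨fun a b => ?_⟩, ⟨⟨1, fun a => map_one (a : MulAut G)⟩⟩⟩
    exact Subtype.ext ((hfix _ (a.2 ⟨τ, Subgroup.mem_zpowers τ⟩)).trans
      (hfix _ (b.2 ⟨τ, Subgroup.mem_zpowers τ⟩)).symm)
  rwa [h1] at h

theorem pow_mod_seven (h7 : τ ^ 7 = 1) (i : ℕ) : τ ^ (i % 7) = τ ^ i := by
  conv_rhs => rw [← Nat.mod_add_div i 7, pow_add, pow_mul, h7, one_pow, mul_one]

theorem fix_of_pow (h7 : τ ^ 7 = 1) {i : ℕ} (hi : i % 7 ≠ 0) {x : G} (hx : (τ ^ i) x = x) : τ x = x := by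
  obtain ⟨b, -, hb⟩ := Nat.exists_mul_mod_eq_one_of_coprime
    ((Nat.Prime.coprime_iff_not_dvd (by norm_num : Nat.Prime 7)).2 fun hd => hi (Nat.mod_eq_zero_of_dvd hd)).symm
    (by norm_num : 1 < 7)
  have hp : ∀ c : ℕ, ((τ ^ i) ^ c) x = x := fun c => by
    induction c with
    | zero => rfl
    | succ c ih => rw [pow_succ, MulAut.mul_apply, hx, ih]
  have := hp b
  rwa [← pow_mul, ← pow_mod_seven h7, hb, pow_one] at this

/-- An orbit exhausts a group of order eight. -/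
theorem orbit_eight [Finite G] (h7 : τ ^ 7 = 1) (hfix : ∀ x, τ x = x → x = 1) (hG : Nat.card G = 8) {p : G}
    (hp : p ≠ 1) :
    (∀ i, (τ ^ i) p ≠ 1) ∧ (∀ i j, (τ ^ i) p = (τ ^ j) p → i % 7 = j % 7) ∧
      ∀ u : G, u = 1 ∨ ∃ i < 7, u = (τ ^ i) p := by
  have hne : ∀ i, (τ ^ i) p ≠ 1 := fun i e => hp ((map_eq_one_iff _ (MulEquiv.injective (τ ^ i))).1 e)
  have hinj : ∀ i j, (τ ^ i) p = (τ ^ j) p → i % 7 = j % 7 := by
    intro i j e
    by_contra hne'
    have e2 : (τ ^ (7 * i - i)) ((τ ^ i) p) = (τ ^ (7 * i - i)) ((τ ^ j) p) := by rw [e]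
    rw [← MulAut.mul_apply, ← pow_add, show 7 * i - i + i = 7 * i by omega, pow_mul, h7, one_pow, MulAut.one_apply,
      ← MulAut.mul_apply, ← pow_add] at e2
    exact hp (hfix p (fix_of_pow h7 (by omega : (7 * i - i + j) % 7 ≠ 0) e2.symm))
  refine ⟨hne, hinj, fun u => ?_⟩
  let o : Option (Fin 7) → G := fun i => i.elim 1 fun j => (τ ^ (j : ℕ)) p
  have ho : Function.Injective o := by
    rintro (_ | i) (_ | j) e
    · rfl
    · exact absurd e.symm (hne _)
    · exact absurd e (hne _)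
    · have := hinj _ _ e
      rw [Nat.mod_eq_of_lt i.isLt, Nat.mod_eq_of_lt j.isLt] at this
      rw [Fin.ext this]
  obtain ⟨_ | i, rfl⟩ := (ho.bijective_of_nat_card_le (by rw [hG]; simp)).2 u
  · exact Or.inl rfl
  · exact Or.inr ⟨i, i.isLt, rfl⟩

/-- A triple satisfying one of the two relations. -/
theorem exists_relation [Nontrivial G] (h7 : τ ^ 7 = 1) (hfix : ∀ x, τ x = x → x = 1) (hsq : ∀ x : G, x * x = 1) :
    ∃ a : G, a ≠ 1 ∧ ((τ ^ 3) a = a * τ a ∨ (τ ^ 3) a = a * (τ ^ 2) a) := by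
  obtain ⟨a, ha⟩ := exists_ne (1 : G)
  have heq : ∀ u v : G, u * v = 1 → v = u := fun u v h => mul_left_cancel (h.trans (hsq u).symm)
  have e : ∀ i j, (τ ^ i) ((τ ^ j) a) = (τ ^ (i + j)) a := fun i j => by rw [pow_add, MulAut.mul_apply]
  have e1 : ∀ i, (τ ^ i) (τ a) = (τ ^ (i + 1)) a := fun i => by rw [pow_succ, MulAut.mul_apply]
  have horb : ∏ i ∈ Finset.range 7, (τ ^ i) a = 1 := by
    refine hfix _ ?_
    rw [map_prod]
    have hs : ∀ i, τ ((τ ^ i) a) = (τ ^ (i + 1)) a := fun i => by rw [pow_succ', MulAut.mul_apply]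
    simp only [hs]
    have h1 := Finset.prod_range_succ' (fun i => (τ ^ i) a) 7
    rw [Finset.prod_range_succ (fun i => (τ ^ i) a) 7, h7, pow_zero] at h1
    exact (mul_right_cancel h1).symm
  by_cases hb : a * τ a * (τ ^ 3) a = 1
  · exact ⟨a, ha, Or.inl (heq _ _ hb)⟩
  · refine ⟨_, hb, Or.inr (heq _ _ ?_)⟩
    simp only [Finset.prod_range_succ, Finset.prod_range_zero, pow_zero, pow_one, MulAut.one_apply, one_mul] at horb
    simp only [map_mul, e, e1, Nat.reduceAdd]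
    generalize (τ ^ 6) a = g, (τ ^ 5) a = f, (τ ^ 4) a = d, (τ ^ 3) a = c, (τ ^ 2) a = b, τ a = t at horb ⊢
    calc _ = (a * t * b * c * d * f * g) * (c * c) := by simp only [mul_comm, mul_left_comm, mul_assoc]
      _ = 1 := by rw [horb, hsq, mul_one]

/-- An automorphism of seven points without fixed elements stays such on a quotient. -/
theorem fpf_quotient [Finite G] {L : Subgroup G} (h7 : τ ^ 7 = 1) (hfix : ∀ x, τ x = x → x = 1)
    (hL : ¬ 7 ∣ Nat.card L) (hst : ∀ x ∈ L, τ x ∈ L) {u : G} (hu : u⁻¹ * τ u ∈ L) : u ∈ L := by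
  haveI : Fact (Nat.Prime 7) := ⟨by norm_num⟩
  let C : Set G := {z | u⁻¹ * z ∈ L}
  have hC : ∀ z ∈ C, τ z ∈ C := fun z hz => by
    have := mul_mem hu (hst _ hz)
    simpa [C, map_mul, mul_assoc] using this
  have hcard : Nat.card C = Nat.card L :=
    Nat.card_congr ⟨fun z => ⟨u⁻¹ * z.1, z.2⟩, fun l => ⟨u * l.1, by simp [C]⟩,
      fun z => Subtype.ext (mul_inv_cancel_left _ _), fun l => Subtype.ext (inv_mul_cancel_left _ _)⟩
  have hmem : ∀ j : ℕ, ∀ z ∈ C, (τ ^ j) z ∈ C := fun j => by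
    induction j with
    | zero => exact fun z hz => hz
    | succ j ih => intro z hz; rw [pow_succ', MulAut.mul_apply]; exact hC _ (ih z hz)
  letI : MulAction (Subgroup.zpowers τ) C :=
    { smul := fun b z => ⟨(b : MulAut G) z.1, by
        obtain ⟨i, hi⟩ := Subgroup.mem_zpowers_iff.1 b.2
        rw [← hi, ← Int.emod_add_mul_ediv i 7, zpow_add, zpow_mul, show τ ^ (7 : ℤ) = 1 from (zpow_natCast τ 7).trans h7,
          one_zpow, mul_one, ← Int.toNat_of_nonneg (Int.emod_nonneg i (by norm_num : (7 : ℤ) ≠ 0)), zpow_natCast]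
        exact hmem _ _ z.2⟩
      one_smul := fun z => Subtype.ext rfl
      mul_smul := fun a b z => Subtype.ext rfl }
  obtain ⟨z, hz⟩ := (mem_zpowers_seven h7).nonempty_fixed_point_of_prime_not_dvd_card C (by rw [hcard]; exact hL)
  have h1 : (z : G) = 1 := hfix _ (congrArg Subtype.val (hz ⟨τ, Subgroup.mem_zpowers τ⟩))
  have h2 : u⁻¹ * 1 ∈ L := h1 ▸ z.2
  simpa using L.inv_mem h2

/-- A periodic sequence with a relation. -/
structure Fano (P : ℕ → G) (k : ℕ) : Prop where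
  per : ∀ i, P (i % 7) = P i
  inj : ∀ i j, P i = P j → i % 7 = j % 7
  ne : ∀ i, P i ≠ 1
  hk : k = 3 ∨ k = 5
  rel : ∀ i, P i * P (i + 1) = P (i + k)

theorem exists_fano [Finite G] (h7 : τ ^ 7 = 1) (hfix : ∀ x, τ x = x → x = 1) (hG : Nat.card G = 8)
    (hsq : ∀ x : G, x * x = 1) {p : G} (hp : p ≠ 1) : ∃ k, Fano (fun i => (τ ^ i) p) k := by
  obtain ⟨hne, hinj, hall⟩ := orbit_eight h7 hfix hG hp
  set P : ℕ → G := fun i => (τ ^ i) p
  have hper : ∀ i, P (i % 7) = P i := fun i => by simp only [P, pow_mod_seven h7]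
  rcases hall (P 0 * P 1) with h | ⟨k, hk, hk'⟩
  · exact absurd (hinj 1 0 (mul_left_cancel (h.trans (hsq (P 0)).symm))) (by norm_num)
  have hrel : ∀ i, P i * P (i + 1) = P (i + k) := fun i => by
    have := congrArg (τ ^ i) hk'
    simp only [P, map_mul, ← MulAut.mul_apply, ← pow_add, add_zero] at this
    exact this
  refine ⟨k, hper, hinj, hne, ?_, hrel⟩
  have hrot : ∀ u v w : G, u * v = w → v * w = u := fun u v w h => by rw [← h, mul_left_comm, hsq, mul_one]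
  interval_cases k
  · exact absurd (mul_eq_left.1 (hrel 0)) (hne 1)
  · exact absurd (mul_eq_right.1 (hrel 0)) (hne 0)
  · have a0 : P 1 * P 2 = P 0 := hrot _ _ _ (hrel 0)
    exact absurd (hinj 0 3 (a0.symm.trans (hrel 1))) (by norm_num)
  · exact Or.inl rfl
  · have a0 : P 1 * P 4 = P 0 := hrot _ _ _ (hrel 0)
    have e3 : P 3 * P 4 = P 0 := (hrel 3).trans (hper 7).symm
    exact absurd (hinj 3 1 (mul_right_cancel (e3.trans a0.symm))) (by norm_num)
  · exact Or.inr rfl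
  · have a0 : P 1 * P 6 = P 0 := hrot _ _ _ (hrel 0)
    have e1 : P 1 * P 2 = P 0 := (hrel 1).trans (hper 7).symm
    exact absurd (hinj _ _ (mul_left_cancel (a0.trans e1.symm))) (by norm_num)

variable {P : ℕ → G} {k : ℕ}

/-- A linear map multiplying the indices multiplies by a cube root of one. -/
theorem Fano.multiplier (h : Fano P k) (hsq : ∀ x : G, x * x = 1) {j : ℕ} (hj : j < 7)
    (hline : P 0 * P j = P (k * j)) : j * j * j % 7 = 1 := by
  have hbad : ∀ a b : ℕ, P 0 * P j = P a → P (k * j) = P b → a % 7 = b % 7 := fun a b h1 h2 =>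
    h.inj a b (h1.symm.trans (hline.trans h2))
  have hrot : ∀ u v w : G, u * v = w → v * w = u := fun u v w h => by rw [← h, mul_left_comm, hsq, mul_one]
  have hper := h.per
  have r : ∀ i, P (i % 7) * P ((i + 1) % 7) = P ((i + k) % 7) := fun i => by rw [hper, hper, hper]; exact h.rel i
  have hj0 : j ≠ 0 := by
    rintro rfl
    rw [hsq] at hline
    exact h.ne _ hline.symm
  rcases h.hk with rfl | rfl
  · have l0 : P 0 * P 1 = P 3 := r 0
    have l6 : P 6 * P 0 = P 2 := r 6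
    have l4 : P 4 * P 5 = P 0 := r 4
    have a3 : P 0 * P 3 = P 1 := hrot _ _ _ (by rw [mul_comm]; exact l0)
    have a5 : P 0 * P 5 = P 4 := by rw [mul_comm]; exact hrot _ _ _ l4
    have a6 : P 0 * P 6 = P 2 := by rw [mul_comm]; exact l6
    rcases (show j = 1 ∨ j = 2 ∨ j = 4 ∨ j = 3 ∨ j = 5 ∨ j = 6 by omega) with rfl | rfl | rfl | rfl | rfl | rfl <;>
      norm_num
    · exact absurd (hbad 1 2 a3 (hper 9).symm) (by norm_num)
    · exact absurd (hbad 4 1 a5 (hper 15).symm) (by norm_num)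
    · exact absurd (hbad 2 4 a6 (hper 18).symm) (by norm_num)
  · have l0 : P 0 * P 1 = P 5 := r 0
    have l6 : P 6 * P 0 = P 4 := r 6
    have l2 : P 2 * P 3 = P 0 := r 2
    have a3 : P 0 * P 3 = P 2 := by rw [mul_comm]; exact hrot _ _ _ l2
    have a5 : P 0 * P 5 = P 1 := hrot _ _ _ (by rw [mul_comm]; exact l0)
    have a6 : P 0 * P 6 = P 4 := by rw [mul_comm]; exact l6
    rcases (show j = 1 ∨ j = 2 ∨ j = 4 ∨ j = 3 ∨ j = 5 ∨ j = 6 by omega) with rfl | rfl | rfl | rfl | rfl | rfl <;>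
      norm_num
    · exact absurd (hbad 2 1 a3 (hper 15).symm) (by norm_num)
    · exact absurd (hbad 1 4 a5 (hper 25).symm) (by norm_num)
    · exact absurd (hbad 4 2 a6 (hper 30).symm) (by norm_num)

/-- The eight elements. -/
theorem Fano.eight (h : Fano P k) (hsq : ∀ x : G, x * x = 1) :
    [1, P 0, P 1, P 2, P 0 * P 1 * P 2, P 1 * P 2, P 1 * (P 0 * P 1 * P 2), P 2 * (P 0 * P 1 * P 2)].Nodup := by
  have r1 : P 1 * (P 0 * P 1 * P 2) = P 0 * P 2 := by
    rw [mul_assoc (P 0), mul_left_comm (P 1) (P 0), ← mul_assoc (P 1), hsq, one_mul]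
  have r2 : P 2 * (P 0 * P 1 * P 2) = P 0 * P 1 := by rw [mul_comm, mul_assoc, hsq, mul_one]
  have hrot : ∀ u v w : G, u * v = w → v * w = u := fun u v w h => by rw [← h, mul_left_comm, hsq, mul_one]
  have hne : ∀ i j, i % 7 ≠ j % 7 → P i ≠ P j := fun i j hij e => hij (h.inj i j e)
  have h1 : ∀ i, (1 : G) ≠ P i := fun i e => h.ne i e.symm
  rw [r1, r2]
  have hper := h.per
  have r : ∀ i, P (i % 7) * P ((i + 1) % 7) = P ((i + k) % 7) := fun i => by rw [hper, hper, hper]; exact h.rel i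
  rcases h.hk with rfl | rfl
  · have a01 : P 0 * P 1 = P 3 := r 0
    have a12 : P 1 * P 2 = P 4 := r 1
    have a60 : P 6 * P 0 = P 2 := r 6
    have a23 : P 2 * P 3 = P 5 := r 2
    have a02 : P 0 * P 2 = P 6 := hrot _ _ _ a60
    have a32 : P 3 * P 2 = P 5 := by rw [mul_comm]; exact a23
    rw [a01, a12, a02, a32]
    simp only [List.nodup_cons, List.mem_cons, List.not_mem_nil, or_false, not_or, List.nodup_nil, and_true]
    refine ⟨⟨?_, ?_, ?_, ?_, ?_, ?_, ?_⟩, ⟨?_, ?_, ?_, ?_, ?_, ?_⟩, ⟨?_, ?_, ?_, ?_, ?_⟩, ⟨?_, ?_, ?_, ?_⟩,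
      ⟨?_, ?_, ?_⟩, ⟨?_, ?_⟩, ?_, not_false⟩ <;> first | exact h1 _ | exact hne _ _ (by norm_num)
  · have a01 : P 0 * P 1 = P 5 := r 0
    have a12 : P 1 * P 2 = P 6 := r 1
    have a23 : P 2 * P 3 = P 0 := r 2
    have a45 : P 4 * P 5 = P 2 := r 4
    have a02 : P 0 * P 2 = P 3 := hrot _ _ _ (hrot _ _ _ a23)
    have a52 : P 5 * P 2 = P 4 := hrot _ _ _ a45
    rw [a01, a12, a02, a52]
    simp only [List.nodup_cons, List.mem_cons, List.not_mem_nil, or_false, not_or, List.nodup_nil, and_true]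
    refine ⟨⟨?_, ?_, ?_, ?_, ?_, ?_, ?_⟩, ⟨?_, ?_, ?_, ?_, ?_, ?_⟩, ⟨?_, ?_, ?_, ?_, ?_⟩, ⟨?_, ?_, ?_, ?_⟩,
      ⟨?_, ?_, ?_⟩, ⟨?_, ?_⟩, ?_, not_false⟩ <;> first | exact h1 _ | exact hne _ _ (by norm_num)

end Cfsg.Agent.BaseTwo
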