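import Cfsg.Agent.Lib.BaseTwo.Gamma
import Cfsg.Agent.Lib.BaseTwo.Cycle

/-! The eight dimensional level of plus type over the field of three elements. -/

set_option autoImplicit false
set_option linter.style.haveILetI false

namespace Cfsg.Agent.BaseTwo

open Subgroup

variable {A : Type} [Group A] [Finite A] {V : Type} [AddCommGroup V] [Finite V] [DistribMulAction A V]
  {E : Type} [Field E] [Module E V] [Nontrivial V] {n : ℕ} {S : Sys E V n}

theorem coe_conjHom (hS : Setup E n S A) (hsurj : ∀ c : E, ∃ i : ℕ, (i : E) = c) (g : A) (m : S.grp) (u : V) :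
    g • (m : V ≃ₗ[E] V) u = ((conjHom hS hsurj g m : S.grp) : V ≃ₗ[E] V) (g • u) := by
  show g • (m : V ≃ₗ[E] V) u = (lmap hsurj g * (m : V ≃ₗ[E] V) * (lmap hsurj g)⁻¹ : V ≃ₗ[E] V) (g • u)
  rw [← lmap_apply hsurj g, ← lmap_apply hsurj g u, app_mul, app_mul, app_inv_app]

/-- Over three elements the scalars are signs. -/
theorem sign_cases [CharP E 3] (hsurj : ∀ c : E, ∃ i : ℕ, (i : E) = c) (c : Eˣ) : c = 1 ∨ c = -1 := by
  obtain ⟨i, hi⟩ := hsurj c
  rw [← cast_mod' (q := 3) i] at hi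
  have h3 : (3 : E) = 0 := by exact_mod_cast (CharP.cast_eq_zero E 3)
  have : i % 3 < 3 := Nat.mod_lt _ (by norm_num)
  generalize i % 3 = j at hi this
  interval_cases j
  · exact absurd hi.symm (by simp)
  · exact Or.inl (Units.ext (by rw [← hi]; simp))
  · exact Or.inr (Units.ext (by rw [← hi, Units.val_neg, Units.val_one]; push_cast; linear_combination h3))

theorem sq_central [CharP E 3] (hsurj : ∀ c : E, ∃ i : ℕ, (i : E) = c) (m : S.grp) : m * m ∈ center S.grp := by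
  rw [Subgroup.mem_center_iff]
  intro b
  obtain ⟨c, hc⟩ := S.comm m m.2 b b.2
  have hcc : c * c = 1 := by rcases sign_cases hsurj c with rfl | rfl <;> simp
  have h1 := comm_symm (m : V ≃ₗ[E] V) b hc
  have h2 := comm_scalar (b : V ≃ₗ[E] V) m m h1 h1
  rw [← mul_inv_rev, hcc, inv_one, map_one, one_mul] at h2
  exact Subtype.ext h2

theorem cls_sq [CharP E 3] (hsurj : ∀ c : E, ∃ i : ℕ, (i : E) = c) (x : Cls S) : x * x = 1 := by
  induction x using QuotientGroup.induction_on with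
  | _ m => rw [← QuotientGroup.mk_mul, QuotientGroup.eq_one_iff]; exact sq_central hsurj m

/-- A class of involutions. -/
def Sing (x : Cls S) : Prop := ∃ m : S.grp, (m : Cls S) = x ∧ m * m = 1

theorem sing_mk [CharP E 3] (hsurj : ∀ c : E, ∃ i : ℕ, (i : E) = c) (m : S.grp) :
    Sing (m : Cls S) ↔ m * m = 1 := by
  refine ⟨fun ⟨m', he, h⟩ => ?_, fun h => ⟨m, rfl, h⟩⟩
  have hz : m'⁻¹ * m ∈ center S.grp := QuotientGroup.eq.1 he
  obtain ⟨c, hc⟩ := (mem_center_iff_sc _).1 hz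
  have hzz : (m'⁻¹ * m) * (m'⁻¹ * m) = 1 := Subtype.ext (by
    rw [Subgroup.coe_mul, hc, ← map_mul]
    rcases sign_cases hsurj c with rfl | rfl <;> simp)
  have hcm : m' * (m'⁻¹ * m) = (m'⁻¹ * m) * m' := Subgroup.mem_center_iff.1 hz m'
  calc m * m = m' * (m'⁻¹ * m * m') * (m'⁻¹ * m) := by group
    _ = m' * (m' * (m'⁻¹ * m)) * (m'⁻¹ * m) := by rw [← hcm]
    _ = (m' * m') * ((m'⁻¹ * m) * (m'⁻¹ * m)) := by simp only [mul_assoc]
    _ = 1 := by rw [h, hzz, one_mul]

/-- The number of singular classes is one modulo `r`. -/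
theorem sing_modEq [CharP E 3] [Finite E] (hS : Setup E n S A) (hsurj : ∀ c : E, ∃ i : ℕ, (i : E) = c) {r : ℕ}
    [Fact r.Prime] {F : Subgroup A} (hFr : ∀ f ∈ F, clsHom hS hsurj (f ^ r) = 1)
    (hfpf : ∀ x : Cls S, (∀ f ∈ F, clsHom hS hsurj f x = x) → x = 1) :
    Nat.card {x : Cls S // Sing x} ≡ 1 [MOD r] := by
  haveI : Finite (V ≃ₗ[E] V) := Finite.of_injective _ DFunLike.coe_injective
  set Φ := clsHom hS hsurj
  have hinv : ∀ (f : A) (x : Cls S), Sing x → Sing (Φ f x) := by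
    rintro f _ ⟨m, rfl, h⟩
    exact ⟨conjHom hS hsurj f m, rfl, by rw [← map_mul, h, map_one]⟩
  letI : MulAction (F.map Φ) {x : Cls S // Sing x} :=
    { smul := fun a x => ⟨(a : MulAut (Cls S)) x.1, by
        obtain ⟨f, -, hf⟩ := a.2
        rw [← hf]; exact hinv f _ x.2⟩
      one_smul := fun x => Subtype.ext rfl
      mul_smul := fun a b x => Subtype.ext rfl }
  have hp : IsPGroup r (F.map Φ) := by
    rintro ⟨_, f, hf, rfl⟩
    exact ⟨1, Subtype.ext (by rw [pow_one, Subgroup.coe_pow, ← map_pow]; exact hFr f hf)⟩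
  have h := hp.card_modEq_card_fixedPoints {x : Cls S // Sing x}
  have h1 : Nat.card (MulAction.fixedPoints (F.map Φ) {x : Cls S // Sing x}) = 1 := by
    have hone : Sing (1 : Cls S) := ⟨1, rfl, one_mul 1⟩
    rw [Nat.card_eq_one_iff_unique]
    refine ⟨⟨fun a b => ?_⟩, ⟨⟨⟨1, hone⟩, fun a => Subtype.ext (map_one (a : MulAut (Cls S)))⟩⟩⟩
    have h1 : ∀ z : MulAction.fixedPoints (F.map Φ) {x : Cls S // Sing x},
        ((z : {x : Cls S // Sing x}) : Cls S) = 1 := fun z =>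
      hfpf _ fun f hf => congrArg Subtype.val (z.2 ⟨Φ f, f, hf, rfl⟩)
    exact Subtype.ext (Subtype.ext ((h1 a).trans (h1 b).symm))
  rwa [h1] at h

/-- The projection onto the vectors with given signs for three involutions. -/
def proj3 (a₀ a₁ a₂ : V ≃ₗ[E] V) (ε₀ ε₁ ε₂ : E) (u : V) : V :=
  let u₂ := u + ε₂ • a₂ u
  let u₁ := u₂ + ε₁ • a₁ u₂
  u₁ + ε₀ • a₀ u₁

theorem proj3_eigen (a₀ a₁ a₂ : V ≃ₗ[E] V) (ε₀ ε₁ ε₂ β₀ β₁ β₂ : E) {u : V} (h0 : a₀ u = β₀ • u)
    (h1 : a₁ u = β₁ • u) (h2 : a₂ u = β₂ • u) :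
    proj3 a₀ a₁ a₂ ε₀ ε₁ ε₂ u = ((1 + ε₀ * β₀) * (1 + ε₁ * β₁) * (1 + ε₂ * β₂)) • u := by
  simp only [proj3, map_add, map_smul, h0, h1, h2, smul_smul, smul_add]
  module

theorem proj3_add (a₀ a₁ a₂ : V ≃ₗ[E] V) (ε₀ ε₁ ε₂ : E) (u v : V) :
    proj3 a₀ a₁ a₂ ε₀ ε₁ ε₂ (u + v) = proj3 a₀ a₁ a₂ ε₀ ε₁ ε₂ u + proj3 a₀ a₁ a₂ ε₀ ε₁ ε₂ v := by
  simp only [proj3, map_add, map_smul, smul_add]
  abel

theorem exists_joint [CharP E 3] {a₀ a₁ a₂ : V ≃ₗ[E] V} (h0 : a₀ * a₀ = 1) (h1 : a₁ * a₁ = 1) (h2 : a₂ * a₂ = 1)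
    (h01 : a₀ * a₁ = a₁ * a₀) (h02 : a₀ * a₂ = a₂ * a₀) (h12 : a₁ * a₂ = a₂ * a₁) :
    ∃ (x : V) (β₀ β₁ β₂ : E), x ≠ 0 ∧ a₀ x = β₀ • x ∧ a₁ x = β₁ • x ∧ a₂ x = β₂ • x := by
  have step : ∀ (b : V ≃ₗ[E] V), b * b = 1 → ∀ u : V, u ≠ 0 →
      ∃ (w : V) (β : E), w ≠ 0 ∧ b w = β • w ∧ ∀ (c : V ≃ₗ[E] V) (γ : E), c * b = b * c → c u = γ • u → c w = γ • w := by
    intro b hb u hu
    have hbb : ∀ z, b (b z) = z := fun z => LinearEquiv.congr_fun hb z
    by_cases hw : u + b u = 0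
    · exact ⟨u, -1, hu, by rw [neg_one_smul]; exact eq_neg_of_add_eq_zero_right hw, fun c γ _ hc => hc⟩
    · refine ⟨_, 1, hw, by rw [map_add, hbb, one_smul, add_comm], fun c γ hcb hc => ?_⟩
      rw [map_add, show c (b u) = b (c u) from LinearEquiv.congr_fun hcb u, hc, map_smul, smul_add]
  obtain ⟨u, hu⟩ := exists_ne (0 : V)
  obtain ⟨w₀, β₀, hw₀, e0, -⟩ := step a₀ h0 u hu
  obtain ⟨w₁, β₁, hw₁, e1, k1⟩ := step a₁ h1 w₀ hw₀
  obtain ⟨w₂, β₂, hw₂, e2, k2⟩ := step a₂ h2 w₁ hw₁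
  exact ⟨w₂, β₀, β₁, β₂, hw₂, k2 _ _ h02 (k1 _ _ h01 e0), k2 _ _ h12 e1, e2⟩


/-- The classes form an abelian group. -/
@[reducible] def clsComm (S : Sys E V n) : CommGroup (Cls S) :=
  { (inferInstance : Group (Cls S)) with mul_comm := cls_commute }

theorem commute_of_same_sign {b m m' : V ≃ₗ[E] V} {t : Eˣ} (h : b * m = sc t * (m * b))
    (h' : b * m' = sc t * (m' * b)) : b * (m⁻¹ * m') = m⁻¹ * m' * b := by
  have e2 := comm_symm b m h
  calc b * (m⁻¹ * m') = m⁻¹ * (m * b) * (m⁻¹ * m') := by group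
    _ = sc t⁻¹ * (m⁻¹ * (b * m')) := by rw [e2, ← mul_assoc m⁻¹ (sc t⁻¹), ← sc_comm]; group
    _ = sc t⁻¹ * sc t * (m⁻¹ * (m' * b)) := by rw [h', ← mul_assoc m⁻¹ (sc t), ← sc_comm]; group
    _ = _ := by rw [← map_mul, inv_mul_cancel, map_one, one_mul, mul_assoc]

theorem conjHom_comm (hS : Setup E n S A) (hsurj : ∀ c : E, ∃ i : ℕ, (i : E) = c) (f : A) {h m : S.grp} {t : Eˣ}
    (ht : (h : V ≃ₗ[E] V) * (m : V ≃ₗ[E] V) = sc t * ((m : V ≃ₗ[E] V) * (h : V ≃ₗ[E] V))) :
    ((conjHom hS hsurj f h : S.grp) : V ≃ₗ[E] V) * ((conjHom hS hsurj f m : S.grp) : V ≃ₗ[E] V) =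
      sc t * (((conjHom hS hsurj f m : S.grp) : V ≃ₗ[E] V) * ((conjHom hS hsurj f h : S.grp) : V ≃ₗ[E] V)) := by
  show lmap hsurj f * (h : V ≃ₗ[E] V) * (lmap hsurj f)⁻¹ * (lmap hsurj f * (m : V ≃ₗ[E] V) * (lmap hsurj f)⁻¹) =
    sc t * (lmap hsurj f * (m : V ≃ₗ[E] V) * (lmap hsurj f)⁻¹ *
      (lmap hsurj f * (h : V ≃ₗ[E] V) * (lmap hsurj f)⁻¹))
  calc _ = lmap hsurj f * ((h : V ≃ₗ[E] V) * (m : V ≃ₗ[E] V)) * (lmap hsurj f)⁻¹ := by group
    _ = sc t * (lmap hsurj f * ((m : V ≃ₗ[E] V) * (h : V ≃ₗ[E] V)) * (lmap hsurj f)⁻¹) := by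
        rw [ht, ← mul_assoc (lmap hsurj f) (sc t), ← sc_comm, mul_assoc (sc t), mul_assoc (sc t)]
    _ = _ := by group

/-- An element of order seven without fixed classes. -/
theorem sigma_fpf [CharP E 3] [Finite E] (hS : Setup E n S A) (hsurj : ∀ c : E, ∃ i : ℕ, (i : E) = c)
    (hX : Nat.card (Cls S) = 4 ^ 3) {F : Subgroup A} (hF7 : ∀ f ∈ F, clsHom hS hsurj (f ^ 7) = 1)
    (hFc : ∀ f ∈ F, ∀ h ∈ F, clsHom hS hsurj (f * h) = clsHom hS hsurj (h * f))
    (hfpf : ∀ x : Cls S, (∀ f ∈ F, clsHom hS hsurj f x = x) → x = 1) {f : A} (hf : f ∈ F)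
    (hne : clsHom hS hsurj f ≠ 1) : ∀ x, clsHom hS hsurj f x = x → x = 1 := by
  haveI : Finite (V ≃ₗ[E] V) := Finite.of_injective _ DFunLike.coe_injective
  haveI : Fact (Nat.Prime 7) := ⟨by norm_num⟩
  set Φ := clsHom hS hsurj
  let D : Subgroup (Cls S) :=
    { carrier := {x | Φ f x = x}
      one_mem' := map_one (Φ f)
      mul_mem' := fun {a b} ha hb => by
        show Φ f (a * b) = a * b
        rw [map_mul, show Φ f a = a from ha, show Φ f b = b from hb]
      inv_mem' := fun {a} ha => by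
        show Φ f a⁻¹ = a⁻¹
        rw [map_inv, show Φ f a = a from ha] }
  suffices hD : D = ⊥ from fun x hx => mem_bot.1 (hD ▸ (show x ∈ D from hx))
  by_contra hD
  have hDst : ∀ g ∈ F, ∀ x ∈ D, Φ g x ∈ D := fun g hg x hx => by
    show Φ f (Φ g x) = Φ g x
    rw [← MulAut.mul_apply, ← map_mul, hFc f hf g hg, map_mul, MulAut.mul_apply, show Φ f x = x from hx]
  have hperpD : ∀ g ∈ F, ∀ x ∈ perpC D, Φ g x ∈ perpC D := by
    intro g hg x hx
    induction x using QuotientGroup.induction_on with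
    | _ m =>
      show ((conjHom hS hsurj g m : S.grp) : Cls S) ∈ perpC D
      rw [mk_mem_perpC]
      intro h hh
      have h1 := (mk_mem_perpC m).1 hx (conjHom hS hsurj g⁻¹ h) (hDst g⁻¹ (F.inv_mem hg) _ hh)
      have h2 := congrArg (conjHom hS hsurj g) h1
      rw [map_mul, map_mul, ← MulAut.mul_apply, ← map_mul, mul_inv_cancel, map_one, MulAut.one_apply] at h2
      exact h2
  have hsize : ∀ H : Subgroup (Cls S), (∀ g ∈ F, ∀ x ∈ H, Φ g x ∈ H) →
      Nat.card H = 1 ∨ Nat.card H = 8 ∨ H = ⊤ := by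
    intro H hH
    letI : MulAction (F.map Φ) H :=
      { smul := fun a x => ⟨(a : MulAut (Cls S)) x.1, by
          obtain ⟨g, hg, he⟩ := a.2
          rw [← he]; exact hH g hg _ x.2⟩
        one_smul := fun x => Subtype.ext rfl
        mul_smul := fun a b x => Subtype.ext rfl }
    have hp : IsPGroup 7 (F.map Φ) := by
      rintro ⟨_, g, hg, rfl⟩
      exact ⟨1, Subtype.ext (by rw [pow_one, Subgroup.coe_pow, ← map_pow]; exact hF7 g hg)⟩
    have h := hp.card_modEq_card_fixedPoints H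
    have h1 : Nat.card (MulAction.fixedPoints (F.map Φ) H) = 1 := by
      rw [Nat.card_eq_one_iff_unique]
      refine ⟨⟨fun a b => ?_⟩, ⟨⟨1, fun a => Subtype.ext (map_one (a : MulAut (Cls S)))⟩⟩⟩
      have h1 : ∀ z : MulAction.fixedPoints (F.map Φ) H, ((z : H) : Cls S) = 1 := fun z =>
        hfpf _ fun g hg => congrArg Subtype.val (z.2 ⟨Φ g, g, hg, rfl⟩)
      exact Subtype.ext (Subtype.ext ((h1 a).trans (h1 b).symm))
    rw [h1] at h
    obtain ⟨i, hi, he⟩ : ∃ i ≤ 6, Nat.card H = 2 ^ i := (Nat.dvd_prime_pow Nat.prime_two).1 (by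
      have := Subgroup.card_subgroup_dvd_card H
      rw [hX] at this
      exact this)
    rw [he, Nat.ModEq] at h
    interval_cases i
    · exact Or.inl he
    · norm_num at h
    · norm_num at h
    · exact Or.inr (Or.inl he)
    · norm_num at h
    · norm_num at h
    · exact Or.inr (Or.inr (Subgroup.eq_top_of_card_eq _ (by rw [he, hX]; norm_num)))
  have hDtop : D ≠ ⊤ := fun h => hne (MulEquiv.ext fun x => show x ∈ D from h.symm ▸ mem_top x)
  have hD8 : Nat.card D = 8 := ((hsize D hDst).resolve_left fun h => hD (card_eq_one.1 h)).resolve_right hDtop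
  rcases hsize (D ⊓ perpC D) (fun g hg x hx => ⟨hDst g hg x hx.1, hperpD g hg x hx.2⟩) with h | h | h
  · obtain ⟨k, hk⟩ := card_isSquare (card_eq_one.1 h)
    rw [hD8] at hk
    rcases (show k ≤ 2 ∨ 3 ≤ k by omega) with h' | h' <;> nlinarith
  swap
  · exact hDtop (top_le_iff.1 (h.symm.le.trans inf_le_left))
  have hperp8 : Nat.card (perpC D) = 8 := by
    have := card_perpC D
    rw [hD8, hX] at this
    omega
  have e1 : D ⊓ perpC D = D := Subgroup.eq_of_le_of_card_ge inf_le_left (by rw [h, hD8])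
  have e2 : D ⊓ perpC D = perpC D := Subgroup.eq_of_le_of_card_ge inf_le_right (by rw [h, hperp8])
  have hDD : perpC D = D := e2.symm.trans e1
  refine hne (MulEquiv.ext fun x => ?_)
  have hd : x⁻¹ * Φ f x ∈ D := by
    rw [← hDD]
    induction x using QuotientGroup.induction_on with
    | _ m =>
      show ((m : Cls S))⁻¹ * ((conjHom hS hsurj f m : S.grp) : Cls S) ∈ perpC D
      rw [← QuotientGroup.mk_inv, ← QuotientGroup.mk_mul, mk_mem_perpC]
      intro h hh
      obtain ⟨t, ht⟩ := S.comm h h.2 m m.2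
      set m' := conjHom hS hsurj f m
      set h' := conjHom hS hsurj f h
      have e := conjHom_comm hS hsurj f ht
      have hz : h'⁻¹ * h ∈ center S.grp := QuotientGroup.eq.1 (show Φ f (h : Cls S) = (h : Cls S) from hh)
      obtain ⟨z, hz'⟩ := (mem_center_iff_sc _).1 hz
      have hh2 : (h : V ≃ₗ[E] V) = sc z * (h' : V ≃ₗ[E] V) := by
        rw [sc_comm, ← hz', Subgroup.coe_mul, Subgroup.coe_inv, mul_inv_cancel_left]
      have e' : (h : V ≃ₗ[E] V) * (m' : V ≃ₗ[E] V) = sc t * ((m' : V ≃ₗ[E] V) * (h : V ≃ₗ[E] V)) := by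
        rw [hh2, mul_assoc, e, ← mul_assoc (m' : V ≃ₗ[E] V), ← sc_comm, mul_assoc (sc z), ← mul_assoc, ← map_mul,
          mul_comm z t, map_mul, mul_assoc]
      refine Subtype.ext ?_
      simp only [Subgroup.coe_mul, Subgroup.coe_inv]
      exact commute_of_same_sign ht e'
  have hx : ∀ i : ℕ, ((Φ f) ^ i) x = x * (x⁻¹ * Φ f x) ^ i := by
    intro i
    induction i with
    | zero => simp
    | succ i ih =>
      rw [pow_succ', MulAut.mul_apply, ih, map_mul, map_pow, show Φ f (x⁻¹ * Φ f x) = x⁻¹ * Φ f x from hd,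
        pow_succ' (x⁻¹ * Φ f x), ← mul_assoc x, mul_inv_cancel_left]
  have h7 := hx 7
  have he : (x⁻¹ * Φ f x) ^ 7 = x⁻¹ * Φ f x := by
    rw [show 7 = 2 * 3 + 1 from rfl, pow_succ, pow_mul, pow_two, cls_sq hsurj, one_pow, one_mul]
  rw [he, ← map_pow, hF7 f hf, MulAut.one_apply, mul_inv_cancel_left] at h7
  exact h7.symm

set_option maxHeartbeats 800000 in
/-- A commutative preimage of eight classes, stable under the element. -/
theorem exists_frame [CharP E 3] [Finite E] (hS : Setup E n S A) (hsurj : ∀ c : E, ∃ i : ℕ, (i : E) = c)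
    (hX : Nat.card (Cls S) = 4 ^ 3) {f : A} (h7 : clsHom hS hsurj f ^ 7 = 1)
    (hfix : ∀ x, clsHom hS hsurj f x = x → x = 1) :
    ∃ (L : Subgroup (Cls S)) (a₀ a₁ a₂ : S.grp), Nat.card L = 8 ∧ (∀ x ∈ L, clsHom hS hsurj f x ∈ L) ∧
      perpC L = L ∧ (∀ m : S.grp, (m : Cls S) ∈ L → m * m = 1) ∧
      (∀ m k : S.grp, (m : Cls S) ∈ L → (k : Cls S) ∈ L → m * k = k * m) ∧
      (a₀ : Cls S) ∈ L ∧ (a₁ : Cls S) ∈ L ∧ (a₂ : Cls S) ∈ L ∧
      ∀ h : S.grp, (h : Cls S) ∈ L → ∃ (z : Eˣ) (b : Bool × Bool × Bool),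
        (h : V ≃ₗ[E] V) = sc z * ((if b.1 then (a₀ : V ≃ₗ[E] V) else 1) *
          (if b.2.1 then (a₁ : V ≃ₗ[E] V) else 1) * (if b.2.2 then (a₂ : V ≃ₗ[E] V) else 1)) := by
  classical
  haveI : Finite (V ≃ₗ[E] V) := Finite.of_injective _ DFunLike.coe_injective
  letI := clsComm S
  have h2 : (2 : E) ≠ 0 := two_ne_zero_of_char (q := 3) (by norm_num)
  set σ := clsHom hS hsurj f with hσ
  have hsq : ∀ x : Cls S, x * x = 1 := cls_sq hsurj
  haveI : Nontrivial (Cls S) := Finite.one_lt_card_iff_nontrivial.1 (by rw [hX]; norm_num)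
  obtain ⟨a, ha, hrel⟩ := exists_relation h7 hfix hsq
  obtain ⟨a₀, hE0⟩ := QuotientGroup.mk'_surjective (center S.grp) a
  obtain ⟨a₁, hE1⟩ := QuotientGroup.mk'_surjective (center S.grp) (σ a)
  obtain ⟨a₂, hE2⟩ := QuotientGroup.mk'_surjective (center S.grp) ((σ ^ 2) a)
  rw [QuotientGroup.mk'_apply] at hE0 hE1 hE2
  let comb : Bool × Bool × Bool → S.grp := fun b =>
    (if b.1 then a₀ else 1) * (if b.2.1 then a₁ else 1) * (if b.2.2 then a₂ else 1)
  have hcomb : ∀ b : Bool × Bool × Bool, ((comb b : S.grp) : Cls S) =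
      (if b.1 then a else 1) * (if b.2.1 then σ a else 1) * (if b.2.2 then (σ ^ 2) a else 1) := by
    rintro ⟨b0, b1, b2⟩
    cases b0 <;> cases b1 <;> cases b2 <;> simp [comb, hE0, hE1, hE2]
  have hxor : ∀ b c : Bool × Bool × Bool, ((comb (xor b.1 c.1, xor b.2.1 c.2.1, xor b.2.2 c.2.2) : S.grp) : Cls S) =
      (comb b : Cls S) * (comb c : Cls S) := by
    intro b c
    have key : ∀ (b c : Bool) (u : Cls S),
        (if xor b c then u else 1) = (if b then u else 1) * (if c then u else 1) := fun b c u => by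
      cases b <;> cases c <;> simp [hsq]
    rw [hcomb, hcomb, hcomb, key, key, key, mul_mul_mul_comm (if b.1 then a else 1) (if c.1 then a else 1),
      mul_mul_mul_comm]
  let L : Subgroup (Cls S) :=
    { carrier := Set.range fun b => ((comb b : S.grp) : Cls S)
      one_mem' := ⟨(false, false, false), by simp [comb]⟩
      mul_mem' := by
        rintro _ _ ⟨b, rfl⟩ ⟨c, rfl⟩
        exact ⟨_, hxor b c⟩
      inv_mem' := by
        rintro _ ⟨b, rfl⟩
        exact ⟨b, (inv_eq_of_mul_eq_one_right (hsq _)).symm⟩ }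
  have hmem : ∀ b, ((comb b : S.grp) : Cls S) ∈ L := fun b => ⟨b, rfl⟩
  have ha0 : (a₀ : Cls S) ∈ L := by simpa [comb] using hmem (true, false, false)
  have ha1 : (a₁ : Cls S) ∈ L := by simpa [comb] using hmem (false, true, false)
  have ha2 : (a₂ : Cls S) ∈ L := by simpa [comb] using hmem (false, false, true)
  have hLσ : ∀ x ∈ L, σ x ∈ L := by
    have e : σ ((σ ^ 2) a) = (σ ^ 3) a := by rw [pow_succ' σ 2, MulAut.mul_apply]
    have e1 : σ (σ a) = (σ ^ 2) a := by rw [pow_two, MulAut.mul_apply]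
    have h3 : (σ ^ 3) a ∈ L := by
      rcases hrel with h | h <;> rw [h]
      · rw [← hE1, ← hE0]; exact mul_mem ha0 ha1
      · rw [← hE2, ← hE0]; exact mul_mem ha0 ha2
    rintro _ ⟨b, rfl⟩
    show σ ((comb b : S.grp) : Cls S) ∈ L
    rw [hcomb, map_mul, map_mul]
    refine mul_mem (mul_mem ?_ ?_) ?_
    · split_ifs
      · rw [← hE1]; exact ha1
      · rw [map_one]; exact L.one_mem
    · split_ifs
      · rw [e1, ← hE2]; exact ha2
      · rw [map_one]; exact L.one_mem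
    · split_ifs
      · rw [e]; exact h3
      · rw [map_one]; exact L.one_mem
  have hLpow : ∀ i : ℕ, ∀ x ∈ L, (σ ^ i) x ∈ L := fun i => by
    induction i with
    | zero => exact fun y hy => hy
    | succ i ih => intro y hy; rw [pow_succ', MulAut.mul_apply]; exact hLσ _ (ih y hy)
  let τ : MulAut L :=
    { toFun := fun x => ⟨σ x.1, hLσ _ x.2⟩
      invFun := fun x => ⟨(σ ^ 6) x.1, hLpow 6 _ x.2⟩
      left_inv := fun x => Subtype.ext (by show (σ ^ 6) (σ x.1) = x.1; rw [← MulAut.mul_apply, ← pow_succ, h7]; rfl)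
      right_inv := fun x => Subtype.ext (by show σ ((σ ^ 6) x.1) = x.1; rw [← MulAut.mul_apply, ← pow_succ', h7]; rfl)
      map_mul' := fun x y => Subtype.ext (map_mul σ x.1 y.1) }
  have hτpow : ∀ (i : ℕ) (x : L), (((τ ^ i) x : L) : Cls S) = (σ ^ i) x := by
    intro i
    induction i with
    | zero => intro x; rfl
    | succ i ih => intro x; rw [pow_succ', MulAut.mul_apply, pow_succ', MulAut.mul_apply, ← ih]; rfl
  have hτ7 : τ ^ 7 = 1 := MulEquiv.ext fun x => Subtype.ext (by rw [hτpow, h7]; rfl)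
  have hτfix : ∀ x, τ x = x → x = 1 := fun x hx => Subtype.ext (hfix _ (congrArg Subtype.val hx))
  let surj : Bool × Bool × Bool → L := fun b => ⟨(comb b : Cls S), hmem b⟩
  have hsurj' : Function.Surjective surj := fun x => by
    obtain ⟨b, hb⟩ := x.2
    exact ⟨b, Subtype.ext hb⟩
  have hL8 : Nat.card L = 8 := by
    have hle : Nat.card L ≤ 8 := le_trans (Nat.card_le_card_of_surjective _ hsurj') (by simp)
    have hmod := seven_modEq hτ7 hτfix
    have hgt : 1 < Nat.card L := (Subgroup.one_lt_card_iff_ne_bot L).2 fun e => ha (by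
      rw [← hE0]; exact mem_bot.1 (e ▸ ha0))
    rw [Nat.ModEq] at hmod
    omega
  have hinj : Function.Injective surj :=
    (hsurj'.bijective_of_nat_card_le (by rw [hL8]; simp)).1
  have hne : ∀ b c, b ≠ c → (comb b : Cls S) ≠ (comb c : Cls S) := fun b c h e => h (hinj (Subtype.ext e))
  have horb : ∀ x ∈ L, x ≠ 1 → ∃ i : ℕ, x = (σ ^ i) a := by
    intro x hx hx1
    rcases (orbit_eight hτ7 hτfix hL8 (p := ⟨a, hE0 ▸ ha0⟩) fun e => ha (congrArg Subtype.val e)).2.2 ⟨x, hx⟩ with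
      h | ⟨i, -, h⟩
    · exact absurd (congrArg Subtype.val h) hx1
    · exact ⟨i, (congrArg Subtype.val h).trans (hτpow _ _)⟩
  have hSσ : ∀ (i : ℕ) (x : Cls S), Sing x → Sing ((σ ^ i) x) := by
    intro i
    induction i with
    | zero => exact fun x hx => hx
    | succ i ih =>
      rintro x ⟨m, rfl, hm⟩
      rw [pow_succ, MulAut.mul_apply]
      exact ih _ ⟨conjHom hS hsurj f m, rfl, by rw [← map_mul, hm, map_one]⟩
  have hsa : Sing a := by
    by_contra hna
    have hnot : ∀ x ∈ L, x ≠ 1 → ¬ Sing x := by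
      intro x hx hx1 hsx
      obtain ⟨i, rfl⟩ := horb x hx hx1
      have := hSσ (7 - i % 7) _ hsx
      rw [← MulAut.mul_apply, ← pow_add, show 7 - i % 7 + i = 7 * (i / 7 + 1) by omega, pow_mul, h7, one_pow] at this
      exact hna this
    have hsqm : ∀ b : S.grp, (b : Cls S) ∈ L → (b : Cls S) ≠ 1 → (b : V ≃ₗ[E] V) * (b : V ≃ₗ[E] V) = sc (-1) := by
      intro b hb hb1
      obtain ⟨c, hc⟩ := (mem_center_iff_sc _).1 (sq_central hsurj b)
      rcases sign_cases hsurj c with rfl | rfl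
      · exact absurd ((sing_mk hsurj b).2 (Subtype.ext (by rw [hc, map_one]; rfl))) (hnot _ hb hb1)
      · exact hc
    have hm1 : (1 : Eˣ) ≠ -1 := fun e => h2 (by
      have : (1 : E) = -1 := by simpa using congrArg Units.val e
      linear_combination this)
    have hanti : ∀ m k : S.grp, (m : Cls S) ∈ L → (k : Cls S) ∈ L → (m : Cls S) ≠ 1 → (k : Cls S) ≠ 1 →
        (m : Cls S) ≠ k → (m : V ≃ₗ[E] V) * (k : V ≃ₗ[E] V) = sc (-1) * ((k : V ≃ₗ[E] V) * (m : V ≃ₗ[E] V)) := by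
      intro m k hm hk hm1' hk1 hmk
      have h1 := hsqm m hm hm1'
      have h2' := hsqm k hk hk1
      have h3 := hsqm (m * k) (by rw [QuotientGroup.mk_mul]; exact mul_mem hm hk) (by
        rw [QuotientGroup.mk_mul]
        exact fun e => hmk (mul_left_cancel (e.trans (hsq _).symm)).symm)
      obtain ⟨c, hc⟩ := S.comm m m.2 k k.2
      rcases sign_cases hsurj c with rfl | rfl
      · exfalso
        rw [map_one, one_mul] at hc
        rw [Subgroup.coe_mul, Commute.mul_mul_mul_comm (show Commute (k : V ≃ₗ[E] V) m from hc.symm), h1, h2',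
          ← map_mul, neg_mul_neg, one_mul] at h3
        exact hm1 (sc_inj (W := V) h3)
      · exact hc
    have e0 : (comb (true, false, false) : S.grp) = a₀ := by simp [comb]
    have e1 : (comb (false, true, false) : S.grp) = a₁ := by simp [comb]
    have e2 : (comb (false, false, true) : S.grp) = a₂ := by simp [comb]
    have e01 : (comb (true, true, false) : S.grp) = a₀ * a₁ := by simp [comb]
    have ez : ((comb (false, false, false) : S.grp) : Cls S) = 1 := by simp [comb]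
    have d : ∀ b c, b ≠ c → ∀ m k : S.grp, comb b = m → comb c = k → (m : Cls S) ≠ k := by
      rintro b c h m k rfl rfl
      exact hne b c h
    have d1 : ∀ b, b ≠ (false, false, false) → ∀ m : S.grp, comb b = m → (m : Cls S) ≠ 1 := by
      rintro b h m rfl
      exact fun e => hne b _ h (e.trans ez.symm)
    have e20 := hanti a₂ a₀ ha2 ha0 (d1 _ (by decide) _ e2) (d1 _ (by decide) _ e0) (d _ _ (by decide) _ _ e2 e0)
    have e21 := hanti a₂ a₁ ha2 ha1 (d1 _ (by decide) _ e2) (d1 _ (by decide) _ e1) (d _ _ (by decide) _ _ e2 e1)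
    have e2p := hanti a₂ (a₀ * a₁) ha2 (e01 ▸ hmem _) (d1 _ (by decide) _ e2) (d1 _ (by decide) _ e01)
      (d _ _ (by decide) _ _ e2 e01)
    rw [Subgroup.coe_mul, comm_scalar _ _ _ e20 e21, neg_mul_neg, one_mul] at e2p
    exact hm1 (sc_inj (W := V) (mul_right_cancel e2p))
  have hLsing : ∀ m : S.grp, (m : Cls S) ∈ L → m * m = 1 := by
    intro m hm
    rw [← sing_mk hsurj]
    by_cases h1 : (m : Cls S) = 1
    · exact h1 ▸ ⟨1, rfl, one_mul 1⟩
    · obtain ⟨i, hi⟩ := horb _ hm h1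
      rw [hi]; exact hSσ i a hsa
  have hLcomm : ∀ m k : S.grp, (m : Cls S) ∈ L → (k : Cls S) ∈ L → m * k = k * m := by
    intro m k hm hk
    have h := hLsing (m * k) (by rw [QuotientGroup.mk_mul]; exact mul_mem hm hk)
    have h' : m * k = k⁻¹ * m⁻¹ := by rw [← mul_inv_rev]; exact eq_inv_of_mul_eq_one_left h
    rwa [inv_eq_of_mul_eq_one_right (hLsing k hk), inv_eq_of_mul_eq_one_right (hLsing m hm)] at h'
  have hperpL : perpC L = L := by
    refine (Subgroup.eq_of_le_of_card_ge (fun x hx => ?_) ?_).symm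
    · induction x using QuotientGroup.induction_on with
      | _ m => exact (mk_mem_perpC m).2 fun h hh => hLcomm h m hh hx
    · have h := card_perpC L
      rw [hL8, hX] at h
      omega
  refine ⟨L, a₀, a₁, a₂, hL8, hLσ, hperpL, hLsing, hLcomm, ha0, ha1, ha2, fun h hh => ?_⟩
  obtain ⟨b, hb⟩ := hh
  obtain ⟨z, hz⟩ := (mem_center_iff_sc _).1 (QuotientGroup.eq.1 hb)
  refine ⟨z, b, ?_⟩
  rw [show (h : V ≃ₗ[E] V) = (comb b : V ≃ₗ[E] V) * (((comb b)⁻¹ * h : S.grp) : V ≃ₗ[E] V) by simp, hz, ← sc_comm]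
  obtain ⟨b0, b1, b2⟩ := b
  cases b0 <;> cases b1 <;> cases b2 <;> simp [comb]

theorem mem_of_nodup {G : Type*} [Finite G] {l : List G} (h : l.Nodup) (hcard : Nat.card G = l.length) (u : G) :
    u ∈ l := by
  by_contra hu
  haveI := Fintype.ofFinite G
  have := (List.nodup_cons.2 ⟨hu, h⟩).length_le_card
  rw [← Nat.card_eq_fintype_card, hcard, List.length_cons] at this
  omega

theorem sum_kill {ι G : Type*} (cl : ι → G) (T : V → V) (hT : ∀ u v, T (u + v) = T u + T v) (e : ι → V) (h : ι → ι)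
    (c : G) (hkill : ∀ i, cl i ≠ c → T (e i) = 0) : ∀ l : List ι, (l.map fun i => cl (h i)).Nodup →
      ((∀ i ∈ l, cl (h i) ≠ c) → T ((l.map fun i => e (h i)).sum) = 0) ∧
        ∀ i ∈ l, cl (h i) = c → T ((l.map fun i => e (h i)).sum) = T (e (h i)) := by
  have hT0 : T 0 = 0 := by have := hT 0 0; rw [add_zero] at this; exact left_eq_add.1 this
  intro l
  induction l with
  | nil => intro _; exact ⟨fun _ => by simpa using hT0, fun i hi => by simp at hi⟩
  | cons a l ih =>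
    intro hnd
    rw [List.map_cons, List.nodup_cons] at hnd
    obtain ⟨i1, i2⟩ := ih hnd.2
    simp only [List.map_cons, List.sum_cons, hT]
    refine ⟨fun hno => by rw [hkill _ (hno a List.mem_cons_self), i1 fun i hi => hno i (List.mem_cons_of_mem _ hi),
      add_zero], fun i hi hic => ?_⟩
    rcases List.mem_cons.1 hi with rfl | hi'
    · rw [i1 fun j hj hjc => hnd.1 (List.mem_map.2 ⟨j, hj, hjc.trans hic.symm⟩), add_zero]
    · rw [hkill _ fun hac => hnd.1 (List.mem_map.2 ⟨i, hi', hic.trans hac.symm⟩), zero_add, i2 i hi' hic]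

set_option maxHeartbeats 1600000 in
/-- The base for the level of plus type with eight dimensions. -/
theorem base_eight [CharP E 3] [Finite E] (hS : Setup E n S A) (hsurj : ∀ c : E, ∃ i : ℕ, (i : E) = c)
    (hcop : (Nat.card A).Coprime 3) (hX : Nat.card (Cls S) = 4 ^ 3) {F : Subgroup A} (hFn : F.Normal)
    (hF7 : ∀ f ∈ F, clsHom hS hsurj (f ^ 7) = 1)
    (hFc : ∀ f ∈ F, ∀ h ∈ F, clsHom hS hsurj (f * h) = clsHom hS hsurj (h * f))
    (hfpf : ∀ x : Cls S, (∀ f ∈ F, clsHom hS hsurj f x = x) → x = 1) :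
    ∃ x y : V, x ≠ 0 ∧ ∀ g : A, g • x = x → g • y = y → g = 1 := by
  classical
  haveI : Finite (V ≃ₗ[E] V) := Finite.of_injective _ DFunLike.coe_injective
  have h2 : (2 : E) ≠ 0 := two_ne_zero_of_char (q := 3) (by norm_num)
  letI := clsComm S
  set Φ := clsHom hS hsurj with hΦ
  obtain ⟨f, hf, hfne⟩ : ∃ f ∈ F, Φ f ≠ 1 := by
    by_contra hno
    push Not at hno
    haveI : Nontrivial (Cls S) := Finite.one_lt_card_iff_nontrivial.1 (by rw [hX]; norm_num)
    obtain ⟨x, hx⟩ := exists_ne (1 : Cls S)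
    exact hx (hfpf x fun f hf => by rw [show clsHom hS hsurj f = 1 from hno f hf]; rfl)
  set σ := Φ f with hσdef
  have hσ7 : σ ^ 7 = 1 := by rw [hσdef, ← map_pow]; exact hF7 f hf
  have hσfix := sigma_fpf hS hsurj hX hF7 hFc hfpf hf hfne
  obtain ⟨L, a₀, a₁, a₂, hL8, hLσ, hperpL, hLsing, hLcomm, ha0, ha1, ha2, hgen⟩ :=
    exists_frame hS hsurj hX hσ7 hσfix
  obtain ⟨x, β₀, β₁, β₂, hx0, hx₀, hx₁, hx₂⟩ := exists_joint (a₀ := (a₀ : V ≃ₗ[E] V)) (a₁ := (a₁ : V ≃ₗ[E] V))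
    (a₂ := (a₂ : V ≃ₗ[E] V)) (congrArg Subtype.val (hLsing _ ha0)) (congrArg Subtype.val (hLsing _ ha1))
    (congrArg Subtype.val (hLsing _ ha2)) (congrArg Subtype.val (hLcomm _ _ ha0 ha1))
    (congrArg Subtype.val (hLcomm _ _ ha0 ha2)) (congrArg Subtype.val (hLcomm _ _ ha1 ha2))
  let e : S.grp → V := fun m => (m : V ≃ₗ[E] V) x
  have heig : ∀ h : S.grp, (h : Cls S) ∈ L → ∃ s : E, e h = s • x := by
    intro h hh
    obtain ⟨z, ⟨b0, b1, b2⟩, he⟩ := hgen h hh
    have hone : ∀ (b : Bool) (u : V ≃ₗ[E] V) (β : E), u x = β • x → ∃ s : E, (if b then u else 1) x = s • x := by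
      intro b u β hu
      cases b
      · exact ⟨1, (one_smul E x).symm⟩
      · exact ⟨β, hu⟩
    obtain ⟨s₀, k0⟩ := hone b0 _ _ hx₀
    obtain ⟨s₁, k1⟩ := hone b1 _ _ hx₁
    obtain ⟨s₂, k2⟩ := hone b2 _ _ hx₂
    refine ⟨(z : E) * (s₂ * s₁ * s₀), ?_⟩
    show (h : V ≃ₗ[E] V) x = _
    rw [he]
    simp only [app_mul]
    rw [k2]
    simp only [map_smul]
    rw [k1]
    simp only [map_smul]
    rw [k0]
    simp only [sc_apply, smul_smul]
    congr 1
    ring
  have hcent : ∀ m : S.grp, (m : V ≃ₗ[E] V) * a₀ = a₀ * m → (m : V ≃ₗ[E] V) * a₁ = a₁ * m →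
      (m : V ≃ₗ[E] V) * a₂ = a₂ * m → (m : Cls S) ∈ L := by
    intro m e0 e1 e2
    rw [← hperpL, mk_mem_perpC]
    intro h hh
    obtain ⟨z, ⟨b0, b1, b2⟩, he⟩ := hgen h hh
    refine Subtype.ext ?_
    rw [Subgroup.coe_mul, Subgroup.coe_mul, he]
    have c0 : Commute (m : V ≃ₗ[E] V) (if b0 then (a₀ : V ≃ₗ[E] V) else 1) := by
      cases b0
      · exact Commute.one_right _
      · exact e0
    have c1 : Commute (m : V ≃ₗ[E] V) (if b1 then (a₁ : V ≃ₗ[E] V) else 1) := by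
      cases b1
      · exact Commute.one_right _
      · exact e1
    have c2 : Commute (m : V ≃ₗ[E] V) (if b2 then (a₂ : V ≃ₗ[E] V) else 1) := by
      cases b2
      · exact Commute.one_right _
      · exact e2
    exact ((show Commute (m : V ≃ₗ[E] V) (sc z) from (sc_comm z _).symm).mul_right
      ((c0.mul_right c1).mul_right c2)).eq.symm
  have hne0 : ∀ m, e m ≠ 0 := fun m h => hx0 ((LinearEquiv.map_eq_zero_iff _).1 h)
  have hmulx : ∀ m k : S.grp, e (m * k) = (m : V ≃ₗ[E] V) (e k) := fun m k => rfl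
  -- the sign of an involution on a translate
  have hsign : ∀ (m : S.grp) (b : S.grp), (b : Cls S) ∈ L → ∃ β : E, (β = 1 ∨ β = -1) ∧
      (b : V ≃ₗ[E] V) (e m) = β • e m ∧
      ∀ m' : S.grp, (b : V ≃ₗ[E] V) (e m') = β • e m' →
        ((m⁻¹ * m' : S.grp) : V ≃ₗ[E] V) * b = b * ((m⁻¹ * m' : S.grp) : V ≃ₗ[E] V) := by
    intro m b hb
    obtain ⟨s, hs⟩ := heig b hb
    obtain ⟨t, ht⟩ := S.comm b b.2 m m.2
    have hb2 : (b : V ≃ₗ[E] V) * b = 1 := congrArg Subtype.val (hLsing b hb)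
    have hs2 : s * s = 1 := by
      have := LinearEquiv.congr_fun hb2 x
      rw [app_mul, show (b : V ≃ₗ[E] V) x = s • x from hs, map_smul, show (b : V ≃ₗ[E] V) x = s • x from hs,
        smul_smul, app_one] at this
      exact smul_left_injective E hx0 (this.trans (one_smul E x).symm)
    refine ⟨(t : E) * s, ?_, ?_, fun m' hm' => ?_⟩
    · rcases sign_cases hsurj t with rfl | rfl <;>
        rcases sq_eq_one_iff.1 (show s ^ 2 = 1 by rw [pow_two, hs2]) with rfl | rfl <;> simp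
    · have := LinearEquiv.congr_fun ht x
      rw [app_mul, app_mul, app_mul, show (b : V ≃ₗ[E] V) x = s • x from hs, map_smul, sc_apply, smul_smul] at this
      exact this
    · obtain ⟨t', ht'⟩ := S.comm b b.2 m' m'.2
      have h1 := LinearEquiv.congr_fun ht' x
      rw [app_mul, app_mul, app_mul, show (b : V ≃ₗ[E] V) x = s • x from hs, map_smul, sc_apply, smul_smul] at h1
      have hs0 : s ≠ 0 := fun e => by rw [e, mul_zero] at hs2; exact zero_ne_one hs2
      have h3 : t' = t := Units.ext (mul_right_cancel₀ hs0 (smul_left_injective E (hne0 m') (h1.symm.trans hm')))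
      subst h3
      simp only [Subgroup.coe_mul, Subgroup.coe_inv]
      exact (commute_of_same_sign ht ht').symm
  have hline : ∀ (m : S.grp) (s : E), e m = s • x → (m : Cls S) ∈ L := by
    intro m s hms
    have hc : ∀ b : S.grp, (b : Cls S) ∈ L → (m : V ≃ₗ[E] V) * b = b * m := by
      intro b hb
      obtain ⟨β, -, hβ, hsame⟩ := hsign m b hb
      obtain ⟨s', hs'⟩ := heig b hb
      have he1 : e 1 = x := rfl
      have hs0 : s ≠ 0 := fun h => hne0 m (by rw [hms, h, zero_smul])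
      have := hsame 1 (by
        rw [he1]
        have h1 := hβ
        rw [hms, map_smul, smul_smul, show (b : V ≃ₗ[E] V) x = s' • x from hs', smul_smul] at h1
        rw [show (b : V ≃ₗ[E] V) x = s' • x from hs',
          mul_left_cancel₀ hs0 (show s * s' = s * β by rw [smul_left_injective E hx0 h1, mul_comm])])
      simp only [mul_one, Subgroup.coe_inv] at this
      calc (m : V ≃ₗ[E] V) * b = (m : V ≃ₗ[E] V) * (b * (m : V ≃ₗ[E] V)⁻¹) * m := by group
        _ = _ := by rw [← this]; group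
    exact hcent m (hc _ ha0) (hc _ ha1) (hc _ ha2)
  -- the cosets
  have hLinv : ∀ x ∈ L, σ x ∈ L := hLσ
  let Qt := Cls S ⧸ L
  let q : Cls S →* Qt := QuotientGroup.mk' L
  have hqeq : ∀ u v, q u = q v ↔ u⁻¹ * v ∈ L := fun u v => QuotientGroup.eq
  have hQ8 : Nat.card Qt = 8 := by
    have h := L.card_mul_index
    rw [hX, hL8] at h
    show L.index = 8
    omega
  haveI : Finite Qt := Nat.finite_of_card_ne_zero (by omega)
  have hQsq : ∀ u : Qt, u * u = 1 := fun u => by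
    induction u using QuotientGroup.induction_on with
    | _ z => rw [← QuotientGroup.mk_mul, cls_sq hsurj]; rfl
  have hLmap : L.map σ.toMonoidHom = L := by
    refine Subgroup.eq_of_le_of_card_ge (fun y hy => by obtain ⟨z, hz, rfl⟩ := hy; exact hLσ z hz) ?_
    exact Nat.card_le_card_of_injective (fun z : L => (⟨σ z.1, z.1, z.2, rfl⟩ : L.map σ.toMonoidHom))
      fun u v huv => Subtype.ext (σ.injective (congrArg Subtype.val huv :))
  let τ : MulAut Qt := QuotientGroup.congr L L σ hLmap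
  have hτpow : ∀ (i : ℕ) (u : Cls S), (τ ^ i) (q u) = q ((σ ^ i) u) := by
    intro i
    induction i with
    | zero => intro u; rfl
    | succ i ih => intro u; rw [pow_succ', MulAut.mul_apply, ih, pow_succ', MulAut.mul_apply]; rfl
  have hτ7 : τ ^ 7 = 1 := MulEquiv.ext fun u => by
    induction u using QuotientGroup.induction_on with
    | _ z => exact (hτpow 7 z).trans (by rw [hσ7]; rfl)
  have hτfix : ∀ u, τ u = u → u = 1 := by
    intro u hu
    induction u using QuotientGroup.induction_on with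
    | _ z =>
      rw [QuotientGroup.eq_one_iff]
      exact fpf_quotient hσ7 hσfix (by rw [hL8]; norm_num) hLσ ((hqeq _ _).1 hu.symm)
  obtain ⟨p, hp⟩ : ∃ p : Qt, p ≠ 1 := by
    haveI : Nontrivial Qt := Finite.one_lt_card_iff_nontrivial.1 (by omega)
    exact exists_ne 1
  obtain ⟨k, hfano⟩ := exists_fano hτ7 hτfix hQ8 hQsq hp
  set P : ℕ → Qt := fun i => (τ ^ i) p with hP
  have hall : ∀ u : Qt, u = 1 ∨ ∃ i < 7, u = P i := (orbit_eight hτ7 hτfix hQ8 hp).2.2
  let cl : S.grp → Qt := fun m => q (m : Cls S)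
  have hcl : ∀ m k : S.grp, cl (m * k) = cl m * cl k := fun m k => by simp only [cl, QuotientGroup.mk_mul, map_mul]
  have hclsurj : ∀ u : Qt, ∃ m : S.grp, cl m = u := by
    intro u
    obtain ⟨c, rfl⟩ := QuotientGroup.mk'_surjective L u
    obtain ⟨m, rfl⟩ := QuotientGroup.mk'_surjective (center S.grp) c
    exact ⟨m, rfl⟩
  obtain ⟨n₀, c0⟩ := hclsurj (P 0)
  obtain ⟨n₁, c1⟩ := hclsurj (P 1)
  obtain ⟨n₂, c2⟩ := hclsurj (P 2)
  set n₃ := n₀ * n₁ * n₂ with hn₃
  have c3 : cl n₃ = P 0 * P 1 * P 2 := by rw [hn₃, hcl, hcl, c0, c1, c2]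
  let six : List S.grp := [n₁, n₂, n₃, n₁ * n₂, n₁ * n₃, n₂ * n₃]
  have height : (1 :: P 0 :: six.map cl).Nodup := by
    simp only [six, List.map_cons, List.map_nil, hcl, c1, c2, c3]
    exact hfano.eight hQsq
  have hnd : (six.map cl).Nodup := (List.nodup_cons.1 (List.nodup_cons.1 height).2).2
  have hnot : ∀ z ∈ six, cl z ≠ 1 ∧ cl z ≠ P 0 := fun z hz =>
    ⟨fun h => (List.nodup_cons.1 height).1 (List.mem_cons_of_mem _ (List.mem_map.2 ⟨z, hz, h⟩)),
      fun h => (List.nodup_cons.1 (List.nodup_cons.1 height).2).1 (List.mem_map.2 ⟨z, hz, h⟩)⟩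
  have hcover : ∀ u : Qt, u = 1 ∨ u = P 0 ∨ ∃ z ∈ six, cl z = u := fun u => by
    have := mem_of_nodup height (by rw [hQ8]; rfl) u
    rcases List.mem_cons.1 this with h | h
    · exact Or.inl h
    rcases List.mem_cons.1 h with h | h
    · exact Or.inr (Or.inl h)
    · exact Or.inr (Or.inr (List.mem_map.1 h))
  refine ⟨x, (six.map e).sum, hx0, fun g hgx hgy => ?_⟩
  set φ := conjHom hS hsurj g with hφ
  have hge : ∀ m, g • e m = e (φ m) := fun m => by
    show g • (m : V ≃ₗ[E] V) x = _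
    rw [coe_conjHom hS hsurj g m x, hgx]
  have hgL : ∀ (h : A), h • x = x → ∀ m : S.grp, (m : Cls S) ∈ L →
      ((conjHom hS hsurj h m : S.grp) : Cls S) ∈ L := fun h hhx m hm => by
    obtain ⟨s, hs⟩ := heig m hm
    refine hline _ s ?_
    have h1 := coe_conjHom hS hsurj h m x
    rw [hhx] at h1
    show ((conjHom hS hsurj h m : S.grp) : V ≃ₗ[E] V) x = _
    rw [← h1, show (m : V ≃ₗ[E] V) x = s • x from hs, app_smul hsurj, hhx]
  have hgx' : g⁻¹ • x = x := inv_smul_eq_iff.2 hgx.symm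
  have hback : ∀ m, conjHom hS hsurj g⁻¹ (φ m) = m := fun m => by
    rw [hφ, ← MulAut.mul_apply, ← map_mul, inv_mul_cancel, map_one]; rfl
  have hfwd : ∀ m, φ (conjHom hS hsurj g⁻¹ m) = m := fun m => by
    rw [hφ, ← MulAut.mul_apply, ← map_mul, mul_inv_cancel, map_one]; rfl
  have hclmap : ∀ (h : A), h • x = x → ∀ m k : S.grp, cl m = cl k →
      cl (conjHom hS hsurj h m) = cl (conjHom hS hsurj h k) := fun h hhx m k hmk => by
    rw [hqeq, ← QuotientGroup.mk_inv, ← QuotientGroup.mk_mul] at hmk ⊢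
    rw [← map_inv, ← map_mul]; exact hgL h hhx _ hmk
  have hinj : ∀ m k : S.grp, cl (φ m) = cl (φ k) → cl m = cl k := fun m k h => by
    have := hclmap g⁻¹ hgx' _ _ h
    rwa [hback, hback] at this
  -- projections
  have hproj : ∀ m : S.grp, ∃ T : V → V, (∀ u v, T (u + v) = T u + T v) ∧
      (∀ m' : S.grp, cl m' ≠ cl m → T (e m') = 0) ∧ ∀ m' : S.grp, cl m' = cl m → T (e m') = -e m' := by
    intro m
    obtain ⟨ε₀, e0, f0, g0⟩ := hsign m a₀ ha0
    obtain ⟨ε₁, e1, f1, g1⟩ := hsign m a₁ ha1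
    obtain ⟨ε₂, e2, f2, g2⟩ := hsign m a₂ ha2
    refine ⟨proj3 (a₀ : V ≃ₗ[E] V) a₁ a₂ ε₀ ε₁ ε₂, proj3_add _ _ _ _ _ _, fun m' hne => ?_, fun m' he => ?_⟩
    · obtain ⟨β₀', b0, k0, -⟩ := hsign m' a₀ ha0
      obtain ⟨β₁', b1, k1, -⟩ := hsign m' a₁ ha1
      obtain ⟨β₂', b2, k2, -⟩ := hsign m' a₂ ha2
      rw [proj3_eigen _ _ _ _ _ _ _ _ _ k0 k1 k2]
      have hz : ∀ ε β : E, (ε = 1 ∨ ε = -1) → (β = 1 ∨ β = -1) → β ≠ ε → 1 + ε * β = 0 := by
        intro ε β hε hβ h
        rcases hε with rfl | rfl <;> rcases hβ with rfl | rfl <;> first | exact absurd rfl h | ring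
      by_cases h0 : β₀' = ε₀
      · by_cases h1 : β₁' = ε₁
        · by_cases h2' : β₂' = ε₂
          · refine absurd ?_ hne
            refine ((hqeq _ _).2 ?_).symm
            rw [← QuotientGroup.mk_inv, ← QuotientGroup.mk_mul]
            exact hcent _ (g0 m' (h0 ▸ k0)) (g1 m' (h1 ▸ k1)) (g2 m' (h2' ▸ k2))
          · rw [hz _ _ e2 b2 h2', mul_zero, zero_smul]
        · rw [hz _ _ e1 b1 h1, mul_zero, zero_mul, zero_smul]
      · rw [hz _ _ e0 b0 h0, zero_mul, zero_mul, zero_smul]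
    · have hl : (((m⁻¹ * m' : S.grp)) : Cls S) ∈ L := by
        rw [QuotientGroup.mk_mul, QuotientGroup.mk_inv]; exact (hqeq _ _).1 he.symm
      obtain ⟨s, hs⟩ := heig _ hl
      have hm' : e m' = s • e m := by
        calc e m' = e (m * (m⁻¹ * m')) := by rw [mul_inv_cancel_left]
          _ = _ := by rw [hmulx, hs, map_smul]
      rw [hm', proj3_eigen _ _ _ _ _ _ ε₀ ε₁ ε₂ (by rw [map_smul, f0, smul_comm]) (by rw [map_smul, f1, smul_comm])
        (by rw [map_smul, f2, smul_comm])]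
      have h8 : (1 + ε₀ * ε₀) * (1 + ε₁ * ε₁) * (1 + ε₂ * ε₂) = (-1 : E) := by
        have h3 : (3 : E) = 0 := by exact_mod_cast (CharP.cast_eq_zero E 3)
        rcases e0 with rfl | rfl <;> rcases e1 with rfl | rfl <;> rcases e2 with rfl | rfl <;>
          linear_combination 3 * h3
      rw [h8, neg_one_smul]
  have hndφ : (six.map fun i => cl (φ i)).Nodup :=
    List.Nodup.map_on (fun u hu v hv h => List.inj_on_of_nodup_map hnd hu hv (hinj u v h)) (List.Nodup.of_map _ hnd)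
  have hsum : (six.map fun m => e (φ m)).sum = (six.map fun m => e (id m)).sum := by
    have hlist : ∀ l : List S.grp, g • (l.map e).sum = (l.map fun m => e (φ m)).sum := by
      intro l
      induction l with
      | nil => simp
      | cons m l ih => simp only [List.map_cons, List.sum_cons, smul_add, hge, ih]
    rw [← hlist]
    exact hgy
  have hpick : ∀ m : S.grp, ∀ z ∈ six, cl (φ z) = cl m → ∃ z' ∈ six, cl z' = cl m ∧ e z' = e (φ z) := by
    intro m z hz hzm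
    obtain ⟨T, hT, hkill, hkeep⟩ := hproj m
    have h1 := (sum_kill cl T hT e φ (cl m) hkill six hndφ).2 z hz hzm
    obtain ⟨k1, k2⟩ := sum_kill cl T hT e id (cl m) hkill six hnd
    rw [hkeep _ hzm, hsum] at h1
    by_cases hex : ∃ z' ∈ six, cl z' = cl m
    · obtain ⟨z', hz', he'⟩ := hex
      rw [k2 z' hz' he', show T (e (id z')) = -e z' from hkeep _ he', neg_inj] at h1
      exact ⟨z', hz', he', h1⟩
    · exfalso
      push Not at hex
      rw [k1 hex, zero_eq_neg] at h1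
      exact hne0 _ h1
  have hgP0 : cl (φ n₀) = P 0 := by
    set u := conjHom hS hsurj g⁻¹ n₀ with hu
    have hφu : cl (φ u) = P 0 := by rw [hu, hfwd, c0]
    rcases hcover (cl u) with h | h | ⟨z, hz, h⟩
    · exfalso
      refine hfano.ne 0 ?_
      rw [← hφu]
      have : cl u = cl 1 := h.trans (by simp [cl])
      refine (hclmap g hgx _ _ this).trans ?_
      simp [cl]
    · exact (hclmap g hgx n₀ u (c0.trans h.symm)).trans hφu
    · exfalso
      obtain ⟨z', hz', he', -⟩ := hpick n₀ z hz (((hclmap g hgx z u h).trans hφu).trans c0.symm)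
      exact (hnot z' hz').2 (he'.trans c0)
  -- the action on the cosets
  have hL2 : ∀ (h : A), h • x = x → ∀ u ∈ L, Φ h u ∈ L := fun h hhx u hu => by
    induction u using QuotientGroup.induction_on with
    | _ m => exact hgL h hhx m hu
  set f' := g * f * g⁻¹ with hf'def
  have hf' : f' ∈ F := hFn.conj_mem f hf g
  have hf'L : ∀ u ∈ L, Φ f' u ∈ L := by
    intro u hu
    rw [hf'def, map_mul, map_mul, MulAut.mul_apply, MulAut.mul_apply]
    exact hL2 g hgx _ (hLσ _ (hL2 g⁻¹ hgx' u hu))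
  have hqmap : ∀ (h : MulAut (Cls S)), (∀ u ∈ L, h u ∈ L) → ∀ u v, q u = q v → q (h u) = q (h v) := by
    intro h hh u v huv
    rw [hqeq] at huv ⊢
    rw [← map_inv, ← map_mul]; exact hh _ huv
  obtain ⟨p₀, hp₀⟩ := QuotientGroup.mk'_surjective L p
  have hPq : ∀ i, P i = q ((σ ^ i) p₀) := fun i => by rw [← hτpow, hP]; exact congrArg (τ ^ i) hp₀.symm
  have hg0 : q (Φ g p₀) = P 0 := by
    rw [← hgP0]
    obtain ⟨w, hw⟩ := QuotientGroup.mk'_surjective (center S.grp) p₀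
    rw [← hw]
    refine hclmap g hgx w n₀ ?_
    rw [c0, hPq 0, pow_zero, MulAut.one_apply, ← hw]
    rfl
  obtain ⟨j, hj, hjP⟩ : ∃ j < 7, q (Φ f' p₀) = P j := by
    rcases hall (q (Φ f' p₀)) with h | h
    · exfalso
      have hmem : Φ f' p₀ ∈ L := (QuotientGroup.eq_one_iff _).1 h
      have hall6 : ∀ i : ℕ, (Φ f' ^ i) (Φ f' p₀) ∈ L := fun i => by
        induction i with
        | zero => exact hmem
        | succ i ih => rw [pow_succ', MulAut.mul_apply]; exact hf'L _ ih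
      have := hall6 6
      rw [← MulAut.mul_apply, ← pow_succ, ← map_pow, hF7 f' hf'] at this
      exact hp ((hp₀.symm.trans ((QuotientGroup.eq_one_iff _).2 this)))
    · exact h
  have hcomm : ∀ (i : ℕ) (u : Cls S), Φ f' ((σ ^ i) u) = (σ ^ i) (Φ f' u) := fun i u => by
    have hc : Commute (Φ f') σ := by
      show Φ f' * Φ f = Φ f * Φ f'
      rw [← map_mul, ← map_mul, hFc f' hf' f hf]
    exact MulEquiv.congr_fun (hc.pow_right i).eq u
  have hgP : ∀ i, q (Φ g ((σ ^ i) p₀)) = P (i * j) := by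
    intro i
    induction i with
    | zero => rw [zero_mul]; exact hg0
    | succ i ih =>
      have h1 : Φ g ((σ ^ (i + 1)) p₀) = Φ f' (Φ g ((σ ^ i) p₀)) := by
        have hgf : Φ f' * Φ g = Φ g * σ := by
          rw [hσdef, ← map_mul, ← map_mul, hf'def, inv_mul_cancel_right]
        rw [pow_succ', MulAut.mul_apply]
        exact (MulEquiv.congr_fun hgf _).symm
      rw [h1, hqmap _ hf'L _ ((σ ^ (i * j)) p₀) (ih.trans (hPq _)), hcomm,
        hqmap (σ ^ (i * j)) ?_ _ _ (hjP.trans (hPq j)), ← MulAut.mul_apply, ← pow_add, ← hPq,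
        show i * j + j = (i + 1) * j by ring]
      intro u hu
      induction (i * j) with
      | zero => exact hu
      | succ t iht => rw [pow_succ', MulAut.mul_apply]; exact hLσ _ iht
  have hjk : j * j * j % 7 = 1 := by
    refine hfano.multiplier hQsq hj ?_
    have h1 : q (p₀ * σ p₀) = q ((σ ^ k) p₀) := by
      rw [map_mul, ← hPq k]
      have := hfano.rel 0
      rw [zero_add, zero_add] at this
      rw [← this, show P 0 = q p₀ from hPq 0, show P 1 = q ((σ ^ 1) p₀) from hPq 1, pow_one]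
    have := hqmap _ (hL2 g hgx) _ _ h1
    rw [map_mul, map_mul, hg0, show σ p₀ = (σ ^ 1) p₀ by rw [pow_one], hgP, hgP, one_mul] at this
    exact this
  have hcube : ∀ u : Cls S, q (Φ (g ^ 3) u) = q u := by
    intro u
    have h3 : Φ (g ^ 3) u = Φ g (Φ g (Φ g u)) := by
      rw [map_pow, pow_succ, pow_succ, pow_one]; rfl
    rcases hall (q u) with h | ⟨i, -, hi⟩
    · rw [h, h3]
      refine (QuotientGroup.eq_one_iff _).2 ?_
      exact hL2 g hgx _ (hL2 g hgx _ (hL2 g hgx _ ((QuotientGroup.eq_one_iff _).1 h)))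
    · have hext : ∀ (w : Cls S) (i : ℕ), q w = P i → q (Φ g w) = P (i * j) := fun w i hw =>
        (hqmap _ (hL2 g hgx) _ _ (hw.trans (hPq i))).trans (hgP i)
      rw [h3, hext _ _ (hext _ _ (hext _ _ hi)), hi, ← hfano.per, show i * j * j * j = i * (j * j * j) by ring,
        Nat.mul_mod, hjk, mul_one, Nat.mod_mod, hfano.per]
  have hsame : ∀ m : S.grp, cl (φ m) = cl m := by
    intro m
    have hco : Nat.Coprime 3 (orderOf g) := (hcop.coprime_dvd_left (orderOf_dvd_natCard g)).symm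
    obtain ⟨b, hb⟩ := exists_pow_eq_self_of_coprime hco
    have : ∀ c : ℕ, ∀ u, q (Φ ((g ^ 3) ^ c) u) = q u := fun c => by
      induction c with
      | zero => intro u; rw [pow_zero, map_one]; rfl
      | succ c ih => intro u; rw [pow_succ, map_mul, MulAut.mul_apply, ih, hcube]
    show q (Φ g (m : Cls S)) = _
    conv_lhs => rw [← hb]
    exact this b _
  have he6 : ∀ z ∈ six, e (φ z) = e z := fun z hz => by
    obtain ⟨z', hz', he', hv⟩ := hpick z z hz (hsame z)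
    rw [← hv, List.inj_on_of_nodup_map hnd hz' hz he']
  -- products
  have hfix1 : ∀ a : S.grp, e (φ a) = e a → e (a⁻¹ * φ a) = x := fun a ha' => by
    rw [hmulx, ha']; exact app_inv_app _ _
  have key : ∀ a b : S.grp, e (φ a) = e a → e (φ b) = e b → e (φ (a * b)) = e (a * b) →
      (a⁻¹ * φ a) * b = b * (a⁻¹ * φ a) := by
    intro a b ha' hb hab
    refine Subtype.ext ?_
    set l := a⁻¹ * φ a with hl
    have hlb : (l : V ≃ₗ[E] V) (e b) = e b := by
      rw [map_mul, hmulx, hmulx, hb] at hab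
      rw [hl, Subgroup.coe_mul, app_mul, hab]
      exact app_inv_app _ _
    obtain ⟨t, ht⟩ := S.comm l l.2 b b.2
    have h3 := LinearEquiv.congr_fun ht x
    rw [app_mul, app_mul, app_mul, show (l : V ≃ₗ[E] V) x = x from hfix1 a ha', hlb, sc_apply] at h3
    show (l : V ≃ₗ[E] V) * (b : V ≃ₗ[E] V) = (b : V ≃ₗ[E] V) * (l : V ≃ₗ[E] V)
    rw [ht,
      show t = 1 from Units.ext (smul_left_injective E (hne0 b) (h3.symm.trans (one_smul E _).symm)), map_one, one_mul]
  obtain ⟨u1, u2, u3, u12, u13, u23⟩ : e (φ n₁) = e n₁ ∧ e (φ n₂) = e n₂ ∧ e (φ n₃) = e n₃ ∧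
      e (φ (n₁ * n₂)) = e (n₁ * n₂) ∧ e (φ (n₁ * n₃)) = e (n₁ * n₃) ∧ e (φ (n₂ * n₃)) = e (n₂ * n₃) := by
    refine ⟨?_, ?_, ?_, ?_, ?_, ?_⟩ <;> exact he6 _ (by simp [six])
  have u123 : e (φ (n₁ * n₂ * n₃)) = e (n₁ * n₂ * n₃) := by
    have h1 : φ (n₁ * n₂ * n₃) = n₁ * (n₁⁻¹ * φ n₁) * φ (n₂ * n₃) := by
      rw [mul_assoc n₁ n₂ n₃, map_mul φ n₁]; group
    rw [h1, hmulx, u23, ← hmulx, show n₁ * (n₁⁻¹ * φ n₁) * (n₂ * n₃) = n₁ * n₂ * n₃ * (n₁⁻¹ * φ n₁) by
      rw [mul_assoc n₁, ← mul_assoc (n₁⁻¹ * φ n₁), key n₁ n₂ u1 u2 u12, mul_assoc n₂, key n₁ n₃ u1 u3 u13]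
      simp only [mul_assoc], hmulx, hfix1 n₁ u1]
  have hfull : ∀ m : S.grp, e (φ m) = e m := by
    intro m
    have hbase : ∀ z : S.grp, e (φ z) = e z → cl m = cl z → e (φ m) = e m := by
      intro z hz he
      have hl : ((z⁻¹ * m : S.grp) : Cls S) ∈ L := by
        rw [QuotientGroup.mk_mul, QuotientGroup.mk_inv]; exact (hqeq _ _).1 he.symm
      obtain ⟨s, hs⟩ := heig _ hl
      have hm : e m = s • e z := by
        calc e m = e (z * (z⁻¹ * m)) := by rw [mul_inv_cancel_left]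
          _ = _ := by rw [hmulx, hs, map_smul]
      rw [← hge, hm, app_smul hsurj, hge, hz]
    rcases hcover (cl m) with h | h | ⟨z, hz, h⟩
    · exact hbase 1 (by rw [map_one]) (h.trans (by simp [cl]))
    · refine hbase _ u123 (h.trans ?_)
      rw [hcl, hcl, c1, c2, c3, mul_assoc (P 0), mul_comm (P 1 * P 2) (P 0 * _), mul_assoc (P 0), hQsq, mul_one]
    · exact hbase z (he6 z hz) h.symm
  refine hS.triv g x hx0 ⟨fun c u => app_smul hsurj g c u, fun m hm u => ?_, hgx⟩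
  have hm1 : φ ⟨m, hm⟩ = ⟨m, hm⟩ := by
    set M : S.grp := ⟨m, hm⟩
    set δ := M⁻¹ * φ M with hδdef
    have hδ : ∀ m' : S.grp, (δ : V ≃ₗ[E] V) (e m') = e m' := by
      intro m'
      have h1 := hfull (M * m')
      rw [map_mul, hmulx, hmulx, hfull] at h1
      rw [hδdef, Subgroup.coe_mul, app_mul, h1]
      exact app_inv_app _ _
    have hδx : (δ : V ≃ₗ[E] V) x = x := hδ 1
    obtain ⟨z, hz⟩ := (mem_center_iff_sc δ).1 (Subgroup.mem_center_iff.2 fun m' => Subtype.ext (by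
      obtain ⟨t, ht⟩ := S.comm δ δ.2 m' m'.2
      have h3 := LinearEquiv.congr_fun ht x
      rw [app_mul, app_mul, app_mul, hδx, show (δ : V ≃ₗ[E] V) ((m' : V ≃ₗ[E] V) x) = (m' : V ≃ₗ[E] V) x from hδ m',
        sc_apply] at h3
      have ht1 : t = 1 := Units.ext (smul_left_injective E (hne0 m') (h3.symm.trans (one_smul E _).symm))
      show (m' : V ≃ₗ[E] V) * (δ : V ≃ₗ[E] V) = (δ : V ≃ₗ[E] V) * (m' : V ≃ₗ[E] V)
      rw [ht, ht1, map_one, one_mul]))
    have hz1 : z = 1 := sc_eq_one hx0 (by rw [← hz]; exact hδx)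
    have hone : δ = 1 := Subtype.ext (by rw [hz, hz1, map_one]; rfl)
    exact (inv_mul_eq_one.1 hone).symm
  show g • m u = m (g • u)
  rw [show m u = ((⟨m, hm⟩ : S.grp) : V ≃ₗ[E] V) u from rfl, coe_conjHom hS hsurj g ⟨m, hm⟩ u]
  exact congrArg (fun M : S.grp => (M : V ≃ₗ[E] V) (g • u)) hm1

end Cfsg.Agent.BaseTwo
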