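import Cfsg.Agent.Lib.OddBaseTwo.Imprimitive
import Mathlib.Algebra.Module.Equiv.Basic

/-! The field of a normal abelian subgroup of a primitive group, as a field acting on the module. -/

set_option autoImplicit false
set_option linter.style.haveILetI false

namespace Cfsg.Agent.BaseTwo

open Cfsg.Agent.OddBaseTwo

variable {A : Type} [Group A] [Finite A] {V : Type} [AddCommGroup V] [Finite V] [DistribMulAction A V]
  (p : ℕ) [Fact p.Prime] [Module (ZMod p) V]

set_option maxHeartbeats 1000000 in
set_option synthInstance.maxHeartbeats 200000 in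
/-- A normal abelian subgroup of a primitive group gives a field over which the group is semilinear. -/
theorem field_core [FaithfulSMul A V] [Nontrivial V] (hirr : Irr A V) (hprim : Prim A V p)
    (U : Subgroup A) [U.Normal] (hU : ∀ a ∈ U, ∀ b ∈ U, a * b = b * a) :
    ∃ (E : Type) (_ : Field E) (_ : Finite E) (_ : Module E V),
      (∀ g : A, ∃ σ : E → E, ∀ (c : E) (v : V), g • (c • v) = σ c • (g • v)) ∧
      (∀ u ∈ U, ∃ c : Eˣ, ∀ v : V, u • v = (c : E) • v) ∧
      (∀ g ∈ Subgroup.centralizer (U : Set A), ∀ (c : E) (v : V), g • (c • v) = c • (g • v)) ∧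
      (p : E) = 0 ∧ IsCyclic U ∧ (∀ u ∈ U, u ≠ 1 → ∀ v : V, u • v = v → v = 0) := by
  classical
  set Φ : A →* Module.End (ZMod p) V := lin p with hΦ
  have hΦinj : Function.Injective Φ := fun a b h =>
    eq_of_smul_eq_smul (α := V) fun v => LinearMap.congr_fun h v
  set E : Subalgebra (ZMod p) (Module.End (ZMod p) V) := Algebra.adjoin (ZMod p) (Φ '' U) with hE
  have hgen : ∀ a ∈ U, Φ a ∈ E := fun a ha => Algebra.subset_adjoin ⟨a, ha, rfl⟩
  have hcomm : ∀ x ∈ E, ∀ y ∈ E, x * y = y * x := by
    intro x hx y hy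
    refine (Algebra.commute_of_mem_adjoin_of_forall_mem_commute hy ?_).eq
    rintro _ ⟨b, hb, rfl⟩
    refine (Algebra.commute_of_mem_adjoin_of_forall_mem_commute hx ?_).symm
    rintro _ ⟨a, ha, rfl⟩
    show Φ b * Φ a = Φ a * Φ b
    rw [← map_mul, ← map_mul, hU b hb a ha]
  let c : A → (Module.End (ZMod p) V →ₐ[ZMod p] Module.End (ZMod p) V) := fun g =>
    { toFun := fun x => Φ g * x * Φ g⁻¹
      map_one' := by rw [mul_one, ← map_mul, mul_inv_cancel, map_one]
      map_mul' := fun x y => by
        rw [show Φ g * x * Φ g⁻¹ * (Φ g * y * Φ g⁻¹) = Φ g * x * (Φ g⁻¹ * Φ g) * y * Φ g⁻¹ by simp only [mul_assoc],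
          ← map_mul, inv_mul_cancel, map_one, mul_one]
        simp only [mul_assoc]
      map_zero' := by simp
      map_add' := fun x y => by rw [mul_add, add_mul]
      commutes' := fun r => by rw [← Algebra.commutes, mul_assoc, ← map_mul, mul_inv_cancel, map_one, mul_one] }
  have hconj : ∀ g : A, ∀ x ∈ E, Φ g * x * Φ g⁻¹ ∈ E := by
    intro g x hx
    have : E ≤ E.comap (c g) := by
      rw [hE]
      refine Algebra.adjoin_le ?_
      rintro _ ⟨a, ha, rfl⟩
      show Φ g * Φ a * Φ g⁻¹ ∈ E
      rw [← map_mul, ← map_mul]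
      exact hgen _ (‹U.Normal›.conj_mem a ha g)
    exact this hx
  haveI : Finite (Module.End (ZMod p) V) := Finite.of_injective _ DFunLike.coe_injective
  -- no non-zero nilpotents: the kernel of a stable commuting set is invariant
  have hred : ∀ x ∈ E, x * x = 0 → x = 0 := by
    intro x₀ hx₀ hsq₀
    let T : Set (Module.End (ZMod p) V) := {x | x ∈ E ∧ x * x = 0}
    let W : AddSubgroup V :=
      { carrier := {v | ∀ x ∈ T, x v = 0}
        zero_mem' := fun x _ => map_zero x
        add_mem' := fun {a b} ha hb x hx => by rw [map_add, ha x hx, hb x hx, add_zero]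
        neg_mem' := fun {a} ha x hx => by rw [map_neg, ha x hx, neg_zero] }
    have hW : Inv A W := by
      intro a v hv x hx
      have hx' : Φ a⁻¹ * x * Φ a ∈ T := by
        refine ⟨by simpa using hconj a⁻¹ x hx.1, ?_⟩
        rw [show Φ a⁻¹ * x * Φ a * (Φ a⁻¹ * x * Φ a) = Φ a⁻¹ * x * (Φ a * Φ a⁻¹) * x * Φ a by simp only [mul_assoc],
          lin_mul_inv, mul_one, mul_assoc (Φ a⁻¹) x x, hx.2, mul_zero, zero_mul]
      have h1 : a⁻¹ • x (a • v) = 0 := hv _ hx'
      exact (smul_eq_zero_iff_eq a⁻¹).1 h1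
    rcases hirr W hW with hb | ht
    · exfalso
      have hex : ∀ s : Finset (Module.End (ZMod p) V), (∀ x ∈ s, x ∈ T) → ∃ v : V, v ≠ 0 ∧ ∀ x ∈ s, x v = 0 := by
        intro s
        induction s using Finset.induction_on with
        | empty => intro _; obtain ⟨v, hv⟩ := exists_ne (0 : V); exact ⟨v, hv, by simp⟩
        | insert x s _ ih =>
          intro hs
          obtain ⟨v, hv, hsv⟩ := ih fun y hy => hs y (Finset.mem_insert_of_mem hy)
          obtain ⟨hxE, hxx⟩ := hs x (Finset.mem_insert_self x s)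
          by_cases hxv : x v = 0
          · exact ⟨v, hv, fun y hy => (Finset.mem_insert.1 hy).elim (fun h => h ▸ hxv) (hsv y)⟩
          · refine ⟨x v, hxv, fun y hy => ?_⟩
            rcases Finset.mem_insert.1 hy with rfl | hy'
            · rw [← Module.End.mul_apply, hxx]; rfl
            · rw [← Module.End.mul_apply, hcomm y (hs y hy).1 x hxE, Module.End.mul_apply, hsv y hy', map_zero]
      obtain ⟨v, hv, hTv⟩ := hex (Set.toFinite T).toFinset fun x hx => (Set.Finite.mem_toFinset _).1 hx
      exact hv (AddSubgroup.mem_bot.1 (hb ▸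
        (show v ∈ W from fun x hx => hTv x ((Set.Finite.mem_toFinset _).2 hx))))
    · exact LinearMap.ext fun v => (ht ▸ AddSubgroup.mem_top v : v ∈ W) x₀ ⟨hx₀, hsq₀⟩
  -- no proper idempotents
  have hidem : ∀ f ∈ E, f * f = f → f = 0 ∨ f = 1 := by
    intro f₀ hf₀E hf₀i
    by_contra hcon
    push Not at hcon
    let I : Set (Module.End (ZMod p) V) := {e | e ∈ E ∧ e * e = e ∧ e ≠ 0}
    obtain ⟨e, ⟨heE, hei, he0⟩, hmin⟩ := (Set.toFinite I).exists_minimalFor
      (fun e => Nat.card (LinearMap.range e)) I ⟨f₀, hf₀E, hf₀i, hcon.1⟩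
    have hatom : ∀ f ∈ E, f * f = f → f * e = 0 ∨ f * e = e := by
      intro f hfE hfi
      refine or_iff_not_imp_left.2 fun h0 => ?_
      have hc := hcomm f hfE e heE
      have hfe : f * e * (f * e) = f * e := by
        rw [show f * e * (f * e) = f * (e * f) * e by simp only [mul_assoc], ← hc,
          show f * (f * e) * e = f * f * (e * e) by simp only [mul_assoc], hfi, hei]
      have hle : LinearMap.range (f * e) ≤ LinearMap.range e := by
        rw [hc]; exact LinearMap.range_comp_le_range _ _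
      have hle' : Nat.card (LinearMap.range (f * e)) ≤ Nat.card (LinearMap.range e) :=
        Nat.card_le_card_of_injective _ (Submodule.inclusion_injective hle)
      have hge := hmin (show f * e ∈ I from ⟨mul_mem hfE heE, hfe, h0⟩) hle'
      have heq : LinearMap.range (f * e) = LinearMap.range e := by
        refine SetLike.coe_injective (Set.eq_of_subset_of_ncard_le hle ?_ (Set.toFinite _))
        rw [← Nat.card_coe_set_eq, ← Nat.card_coe_set_eq]; exact hge
      refine LinearMap.ext fun v => ?_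
      obtain ⟨w, hw⟩ : e v ∈ LinearMap.range (f * e) := heq ▸ LinearMap.mem_range_self e v
      calc (f * e) v = (f * e) (e v) := by
            rw [Module.End.mul_apply f e (e v), ← Module.End.mul_apply e e, hei]; rfl
        _ = _ := by rw [← hw, ← Module.End.mul_apply (f * e), hfe]
    let O : Finset (Module.End (ZMod p) V) := (Set.range fun a : A => Φ a * e * Φ a⁻¹).toFinite.toFinset
    have memO : ∀ x, x ∈ O ↔ ∃ a : A, Φ a * e * Φ a⁻¹ = x := fun x => by simp [O]
    have hOE : ∀ x ∈ O, x ∈ E := fun x hx => by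
      obtain ⟨a, rfl⟩ := (memO x).1 hx; exact hconj a e heE
    have hOidem : ∀ x ∈ O, x * x = x := fun x hx => by
      obtain ⟨a, rfl⟩ := (memO x).1 hx
      exact (map_mul (c a) e e).symm.trans (congrArg (c a) hei)
    have hccomp : ∀ (a b : A) (x : Module.End (ZMod p) V), Φ a * (Φ b * x * Φ b⁻¹) * Φ a⁻¹ = Φ (a * b) * x * Φ (a * b)⁻¹ :=
      fun a b x => by rw [mul_inv_rev, map_mul, map_mul]; simp only [mul_assoc]
    have hback : ∀ (a : A) (x : Module.End (ZMod p) V), Φ a * (Φ a⁻¹ * x * Φ a) * Φ a⁻¹ = x := fun a x => by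
      have h := hccomp a a⁻¹ x
      rwa [inv_inv, mul_inv_cancel, inv_one, map_one, one_mul, mul_one] at h
    have hatomO : ∀ x ∈ O, ∀ y ∈ O, y * x = 0 ∨ y * x = x := by
      intro x hx y hy
      obtain ⟨a, rfl⟩ := (memO x).1 hx
      have hy' : Φ a⁻¹ * y * Φ a ∈ E := by simpa using hconj a⁻¹ y (hOE y hy)
      have hyi : Φ a⁻¹ * y * Φ a * (Φ a⁻¹ * y * Φ a) = Φ a⁻¹ * y * Φ a := by
        rw [show Φ a⁻¹ * y * Φ a * (Φ a⁻¹ * y * Φ a) = Φ a⁻¹ * y * (Φ a * Φ a⁻¹) * y * Φ a by simp only [mul_assoc],
          lin_mul_inv, mul_one, mul_assoc (Φ a⁻¹) y y, hOidem y hy]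
      have hmul : ∀ z, c a (Φ a⁻¹ * y * Φ a * z) = y * (Φ a * z * Φ a⁻¹) := fun z => by
        rw [map_mul]; exact congrArg (· * _) (hback a y)
      rcases hatom _ hy' hyi with h | h
      · left; rw [← hmul e, h, map_zero]
      · right; rw [← hmul e, h]; rfl
    have horthO : ∀ x ∈ O, ∀ y ∈ O, x ≠ y → x * y = 0 := by
      intro x hx y hy hne
      rcases hatomO y hy x hx with h | h
      · exact h
      rcases hatomO x hx y hy with h' | h'
      · rw [hcomm x (hOE x hx) y (hOE y hy)]; exact h'
      · exact absurd (h'.symm.trans ((hcomm y (hOE y hy) x (hOE x hx)).trans h)) hne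
    have hne0 : ∀ x ∈ O, x ≠ 0 := fun x hx h0 => by
      obtain ⟨a, rfl⟩ := (memO x).1 hx
      refine he0 ?_
      have h := congrArg (fun z => Φ a⁻¹ * z * Φ a) h0
      simp only [mul_zero, zero_mul] at h
      rw [show Φ a⁻¹ * (Φ a * e * Φ a⁻¹) * Φ a = (Φ a⁻¹ * Φ a) * e * (Φ a⁻¹ * Φ a) by simp only [mul_assoc],
        lin_inv_mul, one_mul, mul_one] at h
      exact h
    have hstable : ∀ a : A, ∀ x ∈ O, Φ a * x * Φ a⁻¹ ∈ O := fun a x hx => by
      obtain ⟨b, rfl⟩ := (memO x).1 hx
      exact (memO _).2 ⟨a * b, (hccomp a b e).symm⟩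
    have heO : e ∈ O := (memO e).2 ⟨1, by rw [inv_one, map_one, one_mul, mul_one]⟩
    have hsum : ∑ x ∈ O, x = 1 := by
      refine idem_eq_one p hirr ?_ ?_ ?_
      · rw [Finset.sum_mul]
        refine Finset.sum_congr rfl fun x hx => ?_
        rw [Finset.mul_sum, Finset.sum_eq_single x (fun y hy hne => horthO x hx y hy (Ne.symm hne))
          (fun h => absurd hx h), hOidem x hx]
      · intro h0
        have h := congrArg (e * ·) h0
        simp only [Finset.mul_sum, mul_zero] at h
        rw [Finset.sum_eq_single e (fun y hy hne => horthO e heO y hy (Ne.symm hne)) (fun h => absurd heO h), hei] at h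
        exact he0 h
      · intro a
        have himg : O.image (c a) = O := by
          refine Finset.eq_of_subset_of_card_le (fun z hz => ?_) ?_
          · obtain ⟨x, hx, rfl⟩ := Finset.mem_image.1 hz; exact hstable a x hx
          · refine (Finset.card_image_of_injective _ fun x y h => ?_).ge
            have h' := congrArg (fun z => Φ a⁻¹ * z * Φ a) (show Φ a * x * Φ a⁻¹ = Φ a * y * Φ a⁻¹ from h)
            have hl : ∀ z, Φ a⁻¹ * (Φ a * z * Φ a⁻¹) * Φ a = z := fun z => by
              rw [show Φ a⁻¹ * (Φ a * z * Φ a⁻¹) * Φ a = (Φ a⁻¹ * Φ a) * z * (Φ a⁻¹ * Φ a) by simp only [mul_assoc],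
                lin_inv_mul, one_mul, mul_one]
            rwa [hl, hl] at h'
        have h : c a (∑ x ∈ O, x) = ∑ x ∈ O, x := by
          rw [map_sum]
          conv_rhs => rw [← himg]
          rw [Finset.sum_image]
          intro x hx y hy hxy
          have h' := congrArg (fun z => Φ a⁻¹ * z * Φ a) (show Φ a * x * Φ a⁻¹ = Φ a * y * Φ a⁻¹ from hxy)
          have hl : ∀ z, Φ a⁻¹ * (Φ a * z * Φ a⁻¹) * Φ a = z := fun z => by
            rw [show Φ a⁻¹ * (Φ a * z * Φ a⁻¹) * Φ a = (Φ a⁻¹ * Φ a) * z * (Φ a⁻¹ * Φ a) by simp only [mul_assoc],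
              lin_inv_mul, one_mul, mul_one]
          rwa [hl, hl] at h'
        have h2 := congrArg (· * Φ a) (show Φ a * (∑ x ∈ O, x) * Φ a⁻¹ = ∑ x ∈ O, x from h)
        rwa [mul_assoc (Φ a * _), lin_inv_mul, mul_one] at h2
    have hle := hprim O ⟨hne0, hOidem, horthO, hsum, hstable⟩
    have he1 : e = 1 := by
      rw [← hsum, Finset.sum_eq_single e (fun y hy hne => absurd (Finset.card_le_one.1 hle y hy e heO) hne)
        (fun h => absurd heO h)]
    rcases hatom f₀ hf₀E hf₀i with h | h <;> rw [he1, mul_one] at h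
    · exact hcon.1 h
    · exact hcon.2 h
  -- so it is a field
  have hinjE : ∀ {x : Module.End (ZMod p) V}, x ∈ E → ∀ {v : V}, v ≠ 0 → x v = 0 → x = 0 := by
    intro x hx v hv hxv
    have hidemp : ∃ k, 0 < k ∧ x ^ k * x ^ k = x ^ k := by
      obtain ⟨i, j, hne, h⟩ := Finite.exists_ne_map_eq_of_infinite fun k : ℕ => x ^ k
      wlog hij : i < j generalizing i j
      · exact this j i hne.symm h.symm (by omega)
      obtain ⟨d, hd, rfl⟩ : ∃ d, 0 < d ∧ j = i + d := ⟨j - i, by omega, by omega⟩
      have hper : ∀ k, i ≤ k → x ^ (k + d) = x ^ k := by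
        intro k hk
        obtain ⟨l, rfl⟩ := Nat.exists_eq_add_of_le hk
        rw [show i + l + d = i + d + l by omega, pow_add, ← show x ^ i = x ^ (i + d) from h, ← pow_add]
      have hperk : ∀ c k, i ≤ k → x ^ (k + c * d) = x ^ k := by
        intro c
        induction c with
        | zero => simp
        | succ c ih =>
          intro k hk
          rw [Nat.succ_mul, ← Nat.add_assoc, hper _ (by omega), ih k hk]
      refine ⟨(i + 1) * d, Nat.mul_pos (by omega) hd, ?_⟩
      rw [← pow_add]
      exact hperk (i + 1) _ (le_trans (by omega) (Nat.le_mul_of_pos_right _ hd))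
    obtain ⟨k, hk, hki⟩ := hidemp
    have hpow : ∀ j, 0 < j → (x ^ j) v = 0 := by
      intro j hj
      obtain ⟨i, rfl⟩ := Nat.exists_eq_succ_of_ne_zero hj.ne'
      rw [pow_succ, Module.End.mul_apply, hxv, map_zero]
    rcases hidem _ (pow_mem hx k) hki with h | h
    · have key : ∀ j, x ^ j = 0 → x = 0 := by
        intro j
        induction j using Nat.strong_induction_on with
        | _ j ih =>
          intro hj
          rcases Nat.lt_or_ge j 2 with h2 | h2
          · have := congrArg (· * x ^ (1 - j)) hj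
            simp only [← pow_add, zero_mul] at this
            rwa [show j + (1 - j) = 1 by omega, pow_one] at this
          · refine ih ((j + 1) / 2) (by omega) (hred _ (pow_mem hx _) ?_)
            rw [← pow_add, show (j + 1) / 2 + (j + 1) / 2 = j + ((j + 1) / 2 + (j + 1) / 2 - j) by omega,
              pow_add, hj, zero_mul]
      exact key k h
    · have := hpow k hk
      rw [h] at this
      exact absurd this hv
  haveI : Finite E := inferInstanceAs (Finite {x // x ∈ E})
  obtain ⟨v0, hv0⟩ := exists_ne (0 : V)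
  haveI : Nontrivial E := ⟨0, 1, fun h => hv0 (by
    have := LinearMap.congr_fun (congrArg Subtype.val h) v0
    simpa using this.symm)⟩
  haveI : NoZeroDivisors E := ⟨fun {x y} h => by
    by_contra hne
    push Not at hne
    obtain ⟨v, hv⟩ : ∃ v, (y : Module.End (ZMod p) V) v ≠ 0 := by
      by_contra hc
      push Not at hc
      exact hne.2 (Subtype.ext (LinearMap.ext hc))
    exact hne.1 (Subtype.ext (hinjE x.2 hv (LinearMap.congr_fun (congrArg Subtype.val h) v)))⟩
  haveI : IsDomain E := NoZeroDivisors.to_isDomain E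
  letI : CommRing E := { (inferInstance : Ring E) with mul_comm := fun x y => Subtype.ext (hcomm x x.2 y y.2) }
  letI : Field E := (Finite.isField_of_domain E).toField
  let κ : U →* E :=
    { toFun := fun a => ⟨Φ a, hgen a a.2⟩, map_one' := Subtype.ext (map_one Φ),
      map_mul' := fun a b => Subtype.ext (map_mul Φ _ _) }
  let κu : U →* Eˣ := MonoidHom.toHomUnits κ
  have hκ : Function.Injective κu := fun a b h => Subtype.ext (hΦinj (congrArg Subtype.val (congrArg Units.val h)))
  refine ⟨E, inferInstance, inferInstance, inferInstance, fun g => ⟨fun x => ⟨_, hconj g x x.2⟩, fun x v => ?_⟩,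
    fun u hu => ⟨κu ⟨u, hu⟩, fun v => rfl⟩, fun g hg x v => ?_, ?_, isCyclic_of_injective κu hκ, ?_⟩
  · show g • (x : Module.End (ZMod p) V) v = (Φ g * (x : Module.End (ZMod p) V) * Φ g⁻¹) (g • v)
    show g • (x : Module.End (ZMod p) V) v = g • (x : Module.End (ZMod p) V) (g⁻¹ • g • v)
    rw [inv_smul_smul]
  · have hc : Commute (Φ g) (x : Module.End (ZMod p) V) :=
      Algebra.commute_of_mem_adjoin_of_forall_mem_commute x.2 (by
        rintro _ ⟨a, ha, rfl⟩
        show Φ g * Φ a = Φ a * Φ g
        rw [← map_mul, ← map_mul, Subgroup.mem_centralizer_iff.mp hg a ha])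
    exact LinearMap.congr_fun hc.eq v
  · have h1 := map_natCast (algebraMap (ZMod p) E) p
    rw [ZMod.natCast_self, map_zero] at h1
    exact h1.symm
  · intro u hu hu1 v huv
    by_contra hv
    have h0 : Φ u - 1 = 0 := hinjE (sub_mem (hgen u hu) (one_mem E)) hv (by
      rw [LinearMap.sub_apply, Module.End.one_apply, sub_eq_zero]; exact huv)
    exact hu1 (hΦinj (by rw [map_one]; exact sub_eq_zero.1 h0))

end Cfsg.Agent.BaseTwo
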