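import Cfsg.Agent.Lib.BaseTwo.Large
import Cfsg.Agent.Lib.BaseTwo.Certs

/-! The recursion over the fields of three and five elements. -/

set_option autoImplicit false
set_option linter.style.haveILetI false

namespace Cfsg.Agent.BaseTwo

variable {E : Type} [Field E]

theorem exists_natCast [Finite E] {q : ℕ} [hq : Fact q.Prime] [CharP E q] (hc : Nat.card E = q) (c : E) :
    ∃ i < q, (i : E) = c := by
  have hbij : Function.Bijective (ZMod.castHom dvd_rfl E : ZMod q → E) := by
    rw [Nat.bijective_iff_injective_and_card]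
    exact ⟨(ZMod.castHom dvd_rfl E).injective, by rw [Nat.card_zmod, hc]⟩
  obtain ⟨z, rfl⟩ := hbij.2 c
  exact ⟨z.val, z.val_lt, by rw [← map_natCast (ZMod.castHom dvd_rfl E) z.val, ZMod.natCast_zmod_val]⟩

theorem two_ne_zero_of_char {q : ℕ} [CharP E q] (hq : 2 < q) : (2 : E) ≠ 0 := fun h => by
  have := Nat.le_of_dvd two_pos ((CharP.cast_eq_zero_iff E q 2).1 (by exact_mod_cast h))
  omega

variable {W : Type} [AddCommGroup W] [Module E W] [Nontrivial W] {n : ℕ} {S : Sys E W n}
  {r : ℕ} {l v : W ≃ₗ[E] W} {ζ ν : Eˣ}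

theorem Split.r_eq_two [Finite E] (h : Split S r l v ζ ν) (hQ : Nat.card E = 3 ∨ Nat.card E = 5) :
    r = 2 ∧ ζ = -1 := by
  have hd : r ∣ Nat.card E - 1 := by
    rw [← Nat.card_units, h.hζ.eq_orderOf]
    exact orderOf_dvd_natCard ζ
  have hr : r = 2 := by
    rcases hQ with e | e <;> rw [e] at hd
    · exact (Nat.prime_dvd_prime_iff_eq h.hr Nat.prime_two).1 hd
    · exact (Nat.prime_dvd_prime_iff_eq h.hr Nat.prime_two).1 (h.hr.dvd_of_dvd_pow (show r ∣ 2 ^ 2 from hd))
  subst hr
  refine ⟨rfl, ?_⟩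
  have h1 : (ζ : E) ^ 2 = 1 := by rw [← Units.val_pow_eq_pow_val, h.hζ.pow_eq_one, Units.val_one]
  rcases sq_eq_one_iff.1 h1 with e | e
  · exact absurd (Units.ext e) (h.hζ.ne_one one_lt_two)
  · exact Units.ext (by rw [e, Units.val_neg, Units.val_one])

/-- Another second element for the same first. -/
theorem Split.replace (h : Split S 2 l v (-1) ν) {m : W ≃ₗ[E] W} (hm : m ∈ S.grp)
    (hcomm : m * l = sc (-1) * (l * m)) {c : Eˣ} (hc : m * m = sc c) : Split S 2 l m (-1) c :=
  { hr := h.hr, hl := h.hl, hv := hm, hζ := h.hζ, comm := hcomm, lpow := h.lpow, vpow := by rw [pow_two, hc] }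

theorem Split.scaleV (h : Split S 2 l v (-1) ν) {f : Eˣ} (hf : f * f * ν = 1) : Split S 2 l (sc f * v) (-1) 1 := by
  refine h.replace (S.grp.mul_mem (S.scal f) h.hv) ?_ ?_
  · rw [mul_assoc, h.comm, ← mul_assoc, ← mul_assoc, ← mul_assoc, ← mul_assoc, ← map_mul, mul_comm f (-1), map_mul]
    rw [mul_assoc (sc (-1)) (sc f) l, sc_comm f l]
    simp only [mul_assoc]
  · rw [← pow_two, pow_smul_scalar, h.vpow, ← map_mul, pow_two, hf]

theorem Split.nontrivial_P0 (h : Split S r l v ζ ν) : Nontrivial (P0 l) := by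
  obtain ⟨u, hu, huP⟩ := h.exists_P0
  exact ⟨⟨⟨u, huP⟩, 0, fun e => hu (congrArg Subtype.val e)⟩⟩

/-- All squares are squares. -/
def AllSquares (S : Sys E W n) : Prop := ∀ a ∈ S.grp, ∀ c : Eˣ, a * a = sc c → ∃ e : Eˣ, c = e * e

/-- A four-group. -/
def Klein (S : Sys E W n) : Prop :=
  AllSquares S ∧ ∃ l v, ∃ h : Split S 2 l v (-1) 1, h.sys.Trivial

theorem Klein.model (hk : Klein S) (h2 : (2 : E) ≠ 0) (q : ℕ) [CharP E q] [NeZero q] :
    ∃ (e : List W) (ms : List (W ≃ₗ[E] W)), e.length = 2 ∧ Model S e ms (gensP q 1) := by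
  obtain ⟨-, l, v, h, ht⟩ := hk
  haveI := h.nontrivial_P0
  obtain ⟨u, hu⟩ := exists_ne (0 : P0 l)
  obtain ⟨e', ms', -, he, hM⟩ := (model_trivial ht hu).extend (q := q) h h2 ⟨u, hu⟩
  exact ⟨e', ms', by simp [he], hM⟩

/-- The field of five elements. -/
theorem tri_five [CharP E 5] [Finite E] [Finite W] (hQ : Nat.card E = 5) (hsq : Squarefree n)
    (S : Sys E W n) : S.Trivial ∨ Klein S ∨ ∃ x y : W, Tri S x y x := by
  haveI : Fact (Nat.Prime 5) := ⟨by norm_num⟩
  have h2 : (2 : E) ≠ 0 := two_ne_zero_of_char (q := 5) (by norm_num)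
  have hsurj := exists_natCast (E := E) (q := 5) hQ
  have hunit : ∀ c : Eˣ, (∃ e : Eˣ, c = e * e) ∨ (c : E) ^ 2 = -1 := fun c => by
    obtain ⟨i, hi, he⟩ := hsurj c
    have hm : ((5 : ℕ) : E) = 0 := CharP.cast_eq_zero E 5
    have hm' : (5 : E) = 0 := by exact_mod_cast hm
    interval_cases i
    · exact absurd he.symm (by simp)
    · exact Or.inl ⟨1, Units.ext (by rw [← he]; simp)⟩
    · right; rw [← he]; push_cast; linear_combination hm'
    · right; rw [← he]; push_cast; linear_combination 2 * hm'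
    · exact Or.inl ⟨Units.mk0 2 h2, Units.ext (by rw [← he, Units.val_mul, Units.val_mk0]; norm_num)⟩
  have hθ : Rigid (2 : E) := fun σ _ a => by
    obtain ⟨i, -, rfl⟩ := hsurj a
    exact map_natCast σ i
  suffices hall : ∀ (N : ℕ) (W : Type) [AddCommGroup W] [Module E W] [Nontrivial W] [Finite W] (S : Sys E W n),
      Nat.card W ≤ N → S.Trivial ∨ Klein S ∨ ∃ x y : W, Tri S x y x from hall _ W S le_rfl
  intro N
  induction N with
  | zero =>
    intro W _ _ _ _ S hN
    exact absurd hN (by have := Nat.card_pos (α := W); omega)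
  | succ N ih =>
    intro W _ _ _ _ S hN
    rcases trichotomy S hsq h2 with ht | ⟨r, l, v, ζ, ν, h⟩ | ⟨a, b, hq⟩
    · exact Or.inl ht
    swap
    · exfalso
      refine hq.nonsq 2 ?_
      have hm : ((5 : ℕ) : E) = 0 := CharP.cast_eq_zero E 5
      have hm' : (5 : E) = 0 := by exact_mod_cast hm
      linear_combination hm'
    right
    obtain ⟨rfl, rfl⟩ := h.r_eq_two (Or.inr hQ)
    haveI := h.nontrivial_P0
    have hstep : ∀ {x y w : P0 l}, Tri h.sys x y w → ∃ x y : W, Tri S x y x := fun hp =>
      ⟨_, _, h.step h2 hp.toPre (Or.inl rfl) (fun e => absurd e (by norm_num)) (h.lineFree_of_out hp one_ne_zero)⟩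
    rcases ih (P0 l) h.sys (by have := h.card_lt; omega) with ht | hk | ⟨x, y, hp⟩
    · by_cases hall : AllSquares S
      · obtain ⟨e, he⟩ := hall v h.hv ν (by rw [← pow_two, h.vpow])
        have h' := h.scaleV (f := e⁻¹) (by rw [he, mul_mul_mul_comm, inv_mul_cancel, one_mul])
        exact Or.inl ⟨hall, l, _, h', ht⟩
      · right
        simp only [AllSquares, not_forall, not_exists] at hall
        obtain ⟨m, hm, c, hc, hns⟩ := hall
        obtain ⟨j, hj, δ, hδ, rfl⟩ := h.decompose hm
        obtain ⟨s₀, hs₀⟩ := ht _ (h.mem_sys hδ)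
        obtain ⟨u₀, hu₀, hu₀P⟩ := h.exists_P0
        obtain ⟨s, k, hk', he, -⟩ := h.of_scalar hu₀ hu₀P hδ (res_eq_sc hs₀)
        have hδl : l * δ = δ * l := (mem_Cent.1 hδ).2
        rcases (show j = 0 ∨ j = 1 by omega) with rfl | rfl
        · exfalso
          refine hns s (sc_inj (W := W) ?_).symm
          rw [← hc, pow_zero, one_mul, map_mul, he]
          refine LinearEquiv.ext fun u => ?_
          simp only [app_mul, sc_apply, map_smul]
          rw [← app_mul (l ^ k) (l ^ k), ← pow_add, ← two_mul, pow_mul, h.lpow, one_pow, app_one]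
        · have h' := h.replace hm (by rw [pow_one, mul_assoc, ← hδl, ← mul_assoc, h.comm]; simp only [mul_assoc]) hc
          have hnsq : (c : E) ^ 2 = -1 := (hunit c).resolve_left fun ⟨e, he⟩ => hns e he
          obtain ⟨x, hx⟩ := exists_ne (0 : P0 l)
          have hθ4 : (2 : E) ^ 4 ≠ (c : E) ^ 2 := by
            rw [hnsq]
            have hm : ((5 : ℕ) : E) = 0 := CharP.cast_eq_zero E 5
            have hm' : (5 : E) = 0 := by exact_mod_cast hm
            intro e
            exact h2 (by linear_combination e - 3 * hm')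
          exact ⟨_, _, h'.step h2 (pre_trivial (S := h'.sys) ht hx h2 hθ) (Or.inl rfl)
            (fun e => absurd e (by norm_num))
            (h'.lineFree_of_trivial ht hx h2 (Or.inl rfl) (fun _ => hθ4) (fun e => absurd e (by norm_num)))⟩
    · right
      rcases hunit ν with ⟨e, he⟩ | hν
      · -- the model of level two
        have h' := h.scaleV (f := e⁻¹) (by rw [he, mul_mul_mul_comm, inv_mul_cancel, one_mul])
        obtain ⟨e₀, ms₀, hlen, hM⟩ := Klein.model (S := h'.sys) hk h2 5
        obtain ⟨u₀, hu₀⟩ := exists_ne (0 : P0 l)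
        obtain ⟨e', ms', -, he', hM'⟩ := hM.extend (q := 5) h' h2 ⟨u₀, hu₀⟩
        rw [hlen] at hM'
        have hl' : e'.length = 4 := by simp [he', hlen]
        change Model S e' ms' (gensP 5 2) at hM'
        have hlines := five2_lines
        rw [Bool.and_eq_true] at hlines
        have hfree := hM'.lineFree (by norm_num) hsurj (by rw [hl']; rfl) hlines.1
        obtain ⟨hy, hout⟩ := hM'.out (by norm_num) hsurj (by rw [hl']; rfl) (by rw [hl']; rfl) hlines.2
        exact ⟨_, _,
          { freeX := hfree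
            freeW := hfree
            ne := hy
            out := hout
            key := fun g hg hgx hgy hgw =>
              hM'.key (by norm_num) hsurj hl' rfl rfl rfl rfl five2_cert g hg hgx hgy hgw }⟩
      · -- another first element
        obtain ⟨-, l₀, v₀, h₀, -⟩ := hk
        have hno : ∀ e : Eˣ, ν ≠ e * e := fun e he => by
          have h4 : (e : E) ^ 4 = 1 := by
            have h5 : e ^ Nat.card Eˣ = 1 := pow_card_eq_one'
            rw [Nat.card_units, hQ] at h5
            rw [← Units.val_pow_eq_pow_val, h5, Units.val_one]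
          refine h2 ?_
          have : (ν : E) ^ 2 = 1 := by rw [he, Units.val_mul]; linear_combination h4
          rw [hν] at this
          linear_combination -this
        obtain ⟨L, hL, hLres, hLv⟩ := h.exists_lift h₀.hl
        obtain ⟨V, hV, hVres, hVv⟩ := h.exists_lift h₀.hv
        obtain ⟨u₁, hu₁, hu₁P⟩ := h.exists_P0
        have hL2 : L * L = 1 := h.lift_square hL hLres hLv (by rw [← pow_two, h₀.lpow])
        have hV2 : V * V = 1 := h.lift_square hV hVres hVv (by rw [← pow_two, h₀.vpow, map_one])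
        obtain ⟨t, ht'⟩ := S.comm V (mem_Cent.1 hV).1 L (mem_Cent.1 hL).1
        have ht1 : t = -1 := by
          have h1 : res S l ⟨V, hV⟩ * res S l ⟨L, hL⟩ = sc t * (res S l ⟨L, hL⟩ * res S l ⟨V, hV⟩) :=
            LinearEquiv.ext fun u => Subtype.ext (LinearEquiv.congr_fun ht' (u : W))
          rw [hVres, hLres, h₀.comm] at h1
          exact (sc_inj (W := P0 l) (mul_right_cancel h1)).symm
        have hnew : Split S 2 L (v * V) (-1) ν :=
          { hr := Nat.prime_two, hl := (mem_Cent.1 hL).1, hv := S.grp.mul_mem h.hv (mem_Cent.1 hV).1,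
            hζ := h.hζ
            comm := by
              rw [mul_assoc, ht', ht1, ← mul_assoc v, ← sc_comm, mul_assoc (sc (-1)), ← mul_assoc v L V, ← hLv,
                mul_assoc L v V]
            lpow := by rw [pow_two, hL2]
            vpow := by
              rw [pow_two, mul_assoc, ← mul_assoc V, hVv, mul_assoc v V, hV2, mul_one, ← pow_two, h.vpow] }
        haveI := hnew.nontrivial_P0
        have hvC : v ∈ Cent S L := mem_Cent.2 ⟨h.hv, hLv⟩
        have hlC : l ∈ Cent S L := mem_Cent.2 ⟨h.hl, ((mem_Cent.1 hL).2).symm⟩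
        rcases ih (P0 L) hnew.sys (by have := hnew.card_lt; omega) with ht | hk' | ⟨x, y, hp⟩
        · exfalso
          obtain ⟨a, ha⟩ := ht _ (hnew.mem_sys hvC)
          obtain ⟨b, hb⟩ := ht _ (hnew.mem_sys hlC)
          have h1 : res S L ⟨v, hvC⟩ * res S L ⟨l, hlC⟩ = sc (-1) * (res S L ⟨l, hlC⟩ * res S L ⟨v, hvC⟩) :=
            LinearEquiv.ext fun u => Subtype.ext (LinearEquiv.congr_fun h.comm (u : W))
          rw [ha, hb, sc_comm b (sc a)] at h1
          have h3 : (-1 : Eˣ) = 1 := sc_inj (W := P0 L) ((mul_eq_right.1 h1.symm).trans (map_one sc).symm)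
          exact h.hζ.ne_one one_lt_two h3
        · exfalso
          obtain ⟨e, he⟩ := hk'.1 _ (hnew.mem_sys hvC) ν (LinearEquiv.ext fun u => Subtype.ext (by
            show v (v (u : W)) = (ν : E) • (u : W)
            exact h.v_two rfl _))
          exact hno e he
        · exact ⟨_, _, hnew.step h2 hp.toPre (Or.inl rfl) (fun e => absurd e (by norm_num))
            (hnew.lineFree_of_out hp one_ne_zero)⟩
    · exact Or.inr (hstep hp)

/-- Change of sign. -/
theorem Quat.neg {a b : W ≃ₗ[E] W} (hq : Quat S a b) : Quat S (sc (-1) * a) (sc (-1) * b) := by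
  have hneg : (-1 : Eˣ) * -1 = 1 := by rw [neg_mul_neg, one_mul]
  refine { ha := S.grp.mul_mem (S.scal _) hq.ha, hb := S.grp.mul_mem (S.scal _) hq.hb,
           sqa := ?_, sqb := ?_, anti := ?_, span := ?_, nonsq := hq.nonsq }
  · rw [← pow_two, pow_smul_scalar, pow_two, pow_two, hneg, map_one, one_mul, hq.sqa]
  · rw [← pow_two, pow_smul_scalar, pow_two, pow_two, hneg, map_one, one_mul, hq.sqb]
  · refine LinearEquiv.ext fun u => ?_
    have := LinearEquiv.congr_fun hq.anti u
    simp only [app_mul, sc_apply, map_smul, smul_smul] at this ⊢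
    rw [this, smul_smul]
  · intro m hm
    obtain ⟨s, h | h | h | h⟩ := hq.span m hm
    · exact ⟨s, Or.inl h⟩
    · refine ⟨s * -1, Or.inr (Or.inl ?_)⟩
      rw [h, ← mul_assoc, ← map_mul, mul_assoc, hneg, mul_one]
    · refine ⟨s * -1, Or.inr (Or.inr (Or.inl ?_))⟩
      rw [h, ← mul_assoc, ← map_mul, mul_assoc, hneg, mul_one]
    · refine ⟨s, Or.inr (Or.inr (Or.inr ?_))⟩
      rw [h]
      refine LinearEquiv.ext fun u => ?_
      simp only [app_mul, sc_apply, map_smul, smul_smul]
      simp

/-- An invariant plane of a quaternion group modulo three. -/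
theorem Quat.plane [CharP E 3] {a b : W ≃ₗ[E] W} (hq : Quat S a b) :
    ∃ (x : W) (a' b' : W ≃ₗ[E] W), x ≠ 0 ∧ Quat S a' b' ∧ b' x = x + a' x := by
  obtain ⟨u, hu⟩ := exists_ne (0 : W)
  have ha2 : a (a u) = -u := by simpa [app_mul] using LinearEquiv.congr_fun hq.sqa u
  have hb2 : b (b u) = -u := by simpa [app_mul] using LinearEquiv.congr_fun hq.sqb u
  have hba : b (a u) = -a (b u) := by
    have := LinearEquiv.congr_fun hq.anti u
    simp only [app_mul, sc_apply, Units.val_neg, Units.val_one, neg_one_smul] at this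
    rw [this, neg_neg]
  have hm3 : (3 : E) = 0 := by exact_mod_cast (CharP.cast_eq_zero E 3)
  by_cases hz : b u - a u + u = 0
  · refine ⟨u, _, _, hu, hq.neg, ?_⟩
    simp only [app_mul, sc_apply, Units.val_neg, Units.val_one, neg_one_smul]
    rw [← sub_eq_zero, ← neg_eq_zero, ← hz]
    abel
  · refine ⟨_, a, b, hz, hq, ?_⟩
    simp only [map_add, map_sub, ha2, hb2, hba]
    rw [← sub_eq_zero]
    calc _ = (-(3 : E)) • u := by module
      _ = 0 := by rw [hm3, neg_zero, zero_smul]

theorem Quat.model [CharP E 3] {a b : W ≃ₗ[E] W} (hq : Quat S a b) {x : W} (hx : x ≠ 0) (hbx : b x = x + a x) :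
    Model S [x, a x] [a, b] [quatA, quatB] := by
  have ha2 : a (a x) = -x := by simpa [app_mul] using LinearEquiv.congr_fun hq.sqa x
  have hba : b (a x) = -a (b x) := by
    have := LinearEquiv.congr_fun hq.anti x
    simp only [app_mul, sc_apply, Units.val_neg, Units.val_one, neg_one_smul] at this
    rw [this, neg_neg]
  have hm3 : (3 : E) = 0 := by exact_mod_cast (CharP.cast_eq_zero E 3)
  have hev : ∀ c d : ℕ, ev (E := E) [x, a x] [c, d] = (c : E) • x + (d : E) • a x := fun c d => by simp [ev]
  have hpair : ∀ c : List ℕ, c.length = [x, a x].length → c = [c.getD 0 0, c.getD 1 0] := fun c hc => by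
    obtain ⟨c, d, rfl⟩ := List.length_eq_two.1 hc
    rfl
  refine { indep := ?_, mem := ?_, rep := .cons ?_ (.cons ?_ .nil), span := ?_ }
  · intro c hc h0
    rw [hpair c hc, hev] at h0
    intro z hz
    rw [hpair c hc] at hz
    have hd : (c.getD 1 0 : E) = 0 := by
      by_contra hd
      have hax : a x = (-((c.getD 1 0 : E)⁻¹ * (c.getD 0 0 : E))) • x := by
        rw [neg_smul, mul_smul, ← smul_neg, eq_inv_smul_iff₀ hd, eq_neg_iff_add_eq_zero, add_comm, h0]
      rw [hax, map_smul, hax, smul_smul, ← neg_one_smul E x] at ha2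
      exact hq.nonsq _ (smul_left_injective E hx ha2)
    rw [hd, zero_smul, add_zero] at h0
    simp only [List.mem_cons, List.not_mem_nil, or_false] at hz
    rcases hz with rfl | rfl
    · exact (smul_eq_zero.1 h0).resolve_right hx
    · exact hd
  · intro m hm
    simp only [List.mem_cons, List.not_mem_nil, or_false] at hm
    rcases hm with rfl | rfl
    · exact hq.ha
    · exact hq.hb
  · intro c hc
    refine ⟨rfl, ?_⟩
    conv_lhs => rw [hpair c hc]
    rw [quatA, hev, hev, map_add, map_smul, map_smul, ha2, cast_mod', cast_mod', Nat.cast_mul, Nat.cast_ofNat,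
      ← sub_eq_zero]
    calc _ = ((-(3 : E)) * (c.getD 1 0 : E)) • x := by module
      _ = 0 := by rw [hm3, neg_zero, zero_mul, zero_smul]
  · intro c hc
    refine ⟨rfl, ?_⟩
    conv_lhs => rw [hpair c hc]
    rw [quatB, hev, hev, map_add, map_smul, map_smul, hba, hbx, map_add, ha2, cast_mod', cast_mod', Nat.cast_add,
      Nat.cast_add, Nat.cast_mul, Nat.cast_ofNat, ← sub_eq_zero]
    calc _ = ((-(3 : E)) * (c.getD 1 0 : E)) • a x := by module
      _ = 0 := by rw [hm3, neg_zero, zero_mul, zero_smul]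
  · intro m hm
    obtain ⟨s, h | h | h | h⟩ := hq.span m hm
    · exact ⟨s, [false, false], rfl, by simp [wordM, h]⟩
    · exact ⟨s, [true, false], rfl, by simp [wordM, h]⟩
    · exact ⟨s, [false, true], rfl, by simp [wordM, h]⟩
    · exact ⟨s, [true, true], rfl, by simp [wordM, h]⟩

/-- The field of three elements: the first levels or three vectors. -/
theorem tri_three [CharP E 3] [Finite E] [Finite W] (hQ : Nat.card E = 3) (hsq : Squarefree n) (S : Sys E W n) :
    S.Trivial ∨
      (∃ (k : ℕ) (G : List (List ℕ → List ℕ)) (e : List W) (ms : List (W ≃ₗ[E] W)),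
        ((k = 1 ∨ k = 2 ∨ k = 3) ∧ (G = gensP 3 k ∨ G = gensM k)) ∧ e.length = 2 ^ k ∧ Model S e ms G) ∨
      ∃ x y : W, Tri S x y x := by
  haveI : Fact (Nat.Prime 3) := ⟨by norm_num⟩
  have h2 : (2 : E) ≠ 0 := two_ne_zero_of_char (q := 3) (by norm_num)
  have hsurj := exists_natCast (E := E) (q := 3) hQ
  have hm3 : (3 : E) = 0 := by exact_mod_cast (CharP.cast_eq_zero E 3)
  suffices hall : ∀ (N : ℕ) (W : Type) [AddCommGroup W] [Module E W] [Nontrivial W] [Finite W] (S : Sys E W n),
      Nat.card W ≤ N → S.Trivial ∨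
      (∃ (k : ℕ) (G : List (List ℕ → List ℕ)) (e : List W) (ms : List (W ≃ₗ[E] W)),
        ((k = 1 ∨ k = 2 ∨ k = 3) ∧ (G = gensP 3 k ∨ G = gensM k)) ∧ e.length = 2 ^ k ∧ Model S e ms G) ∨
      ∃ x y : W, Tri S x y x from hall _ W S le_rfl
  intro N
  induction N with
  | zero =>
    intro W _ _ _ _ S hN
    exact absurd hN (by have := Nat.card_pos (α := W); omega)
  | succ N ih =>
    intro W _ _ _ _ S hN
    rcases trichotomy S hsq h2 with ht | ⟨r, l, v, ζ, ν, h⟩ | ⟨a, b, hq⟩
    · exact Or.inl ht
    · right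
      obtain ⟨rfl, rfl⟩ := h.r_eq_two (Or.inl hQ)
      -- a second element of square one
      obtain ⟨v', h'⟩ : ∃ v', Split S 2 l v' (-1) 1 := by
        obtain ⟨i, hi, he⟩ := hsurj (ν : E)
        interval_cases i
        · exact absurd he.symm (by simp)
        · exact ⟨v, (show ν = 1 from Units.ext (by rw [← he]; simp)) ▸ h⟩
        · refine ⟨v * l, h.replace (S.grp.mul_mem h.hv h.hl) ?_ ?_⟩
          · conv_lhs => rw [h.comm]
            simp only [mul_assoc]
          · refine LinearEquiv.ext fun u => ?_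
            have h1 := LinearEquiv.congr_fun h.comm_inv (l u)
            rw [app_mul, app_mul, app_mul, ← app_mul l l, ← pow_two, h.lpow, app_one, sc_apply] at h1
            rw [app_mul, app_mul, app_mul, h1, map_smul, h.v_two rfl, smul_smul, ← he]
            simp only [sc_apply, inv_neg, inv_one, Units.val_neg, Units.val_one]
            congr 1
            push_cast
            linear_combination -hm3
      haveI := h'.nontrivial_P0
      obtain ⟨u₀, hu₀⟩ := exists_ne (0 : P0 l)
      have hext : ∀ (k : ℕ) (e : List (P0 l)) (ms : List (P0 l ≃ₗ[E] P0 l)) (G : List (List ℕ → List ℕ)),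
          e.length = 2 ^ k → Model h'.sys e ms G →
          ∃ (e' : List W) (ms' : List (W ≃ₗ[E] W)), e'.length = 2 ^ (k + 1) ∧ Model S e' ms' (extG 3 (2 ^ k) G) := by
        intro k e ms G hlen hM
        obtain ⟨e', ms', -, he', hM'⟩ := hM.extend (q := 3) h' h2 ⟨u₀, hu₀⟩
        exact ⟨e', ms', by simp [he', hlen, pow_succ, two_mul, mul_comm], hlen ▸ hM'⟩
      rcases ih (P0 l) h'.sys (by have := h'.card_lt; omega) with ht | ⟨k, G, e, ms, ⟨hk, hG⟩, hlen, hM⟩ | ⟨x, y, hp⟩
      · left
        obtain ⟨e', ms', hl, hM'⟩ := hext 0 [u₀] [] [] rfl (model_trivial ht hu₀)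
        exact ⟨1, gensP 3 1, e', ms', ⟨Or.inl rfl, Or.inl rfl⟩, hl, hM'⟩
      · rcases hk with rfl | rfl | rfl
        · left
          obtain ⟨e', ms', hl, hM'⟩ := hext 1 e ms G hlen hM
          refine ⟨2, _, e', ms', ⟨Or.inr (Or.inl rfl), ?_⟩, hl, hM'⟩
          rcases hG with rfl | rfl
          · exact Or.inl rfl
          · exact Or.inr rfl
        · left
          obtain ⟨e', ms', hl, hM'⟩ := hext 2 e ms G hlen hM
          refine ⟨3, _, e', ms', ⟨Or.inr (Or.inr rfl), ?_⟩, hl, hM'⟩
          rcases hG with rfl | rfl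
          · exact Or.inl rfl
          · exact Or.inr rfl
        · right
          have hstep : ∀ {x y w : P0 l}, Tri h'.sys x y w → ∃ x y : W, Tri S x y x := fun hp =>
            ⟨_, _, h'.step h2 hp.toPre (Or.inl rfl) (fun e => absurd e (by norm_num))
              (h'.lineFree_of_out hp one_ne_zero)⟩
          rcases hG with rfl | rfl
          · have hl := plus3_lines
            simp only [Bool.and_eq_true] at hl
            obtain ⟨hy, hout⟩ := hM.out (by norm_num) hsurj (by rw [hlen]; rfl) (by rw [hlen]; rfl) hl.2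
            exact hstep
              { freeX := hM.lineFree (by norm_num) hsurj (by rw [hlen]; rfl) hl.1.1
                freeW := hM.lineFree (by norm_num) hsurj (by rw [hlen]; rfl) hl.1.2
                ne := hy
                out := hout
                key := fun g hg hgx hgy hgw =>
                  hM.key (by norm_num) hsurj hlen rfl rfl rfl rfl plus3_cert g hg hgx hgy hgw }
          · have hl := minus3_lines
            simp only [Bool.and_eq_true] at hl
            obtain ⟨hy, hout⟩ := hM.out (by norm_num) hsurj (by rw [hlen]; rfl) (by rw [hlen]; rfl) hl.2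
            exact hstep
              { freeX := hM.lineFree (by norm_num) hsurj (by rw [hlen]; rfl) hl.1.1
                freeW := hM.lineFree (by norm_num) hsurj (by rw [hlen]; rfl) hl.1.2
                ne := hy
                out := hout
                key := fun g hg hgx hgy hgw =>
                  hM.key (by norm_num) hsurj hlen rfl rfl rfl rfl minus3_cert g hg hgx hgy hgw }
      · exact Or.inr ⟨_, _, h'.step h2 hp.toPre (Or.inl rfl) (fun e => absurd e (by norm_num))
          (h'.lineFree_of_out hp one_ne_zero)⟩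
    · right; left
      obtain ⟨x, a', b', hx, hq', hbx⟩ := hq.plane
      exact ⟨1, gensM 1, [x, a' x], [a', b'], ⟨Or.inl rfl, Or.inr rfl⟩, rfl, hq'.model hx hbx⟩

end Cfsg.Agent.BaseTwo
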