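import Cfsg.Agent.Lib.BaseTwo.Primitive
import Cfsg.Agent.Lib.BaseTwo.Small
import Mathlib.GroupTheory.PGroup
import Mathlib.Algebra.Group.Action.Basic

/-! The first levels over the field of three elements: the normaliser modulo the scalars. -/

set_option autoImplicit false
set_option linter.style.haveILetI false

namespace Cfsg.Agent.BaseTwo

open Subgroup

variable {A : Type} [Group A] [Finite A] {V : Type} [AddCommGroup V] [Finite V] [DistribMulAction A V]
  {E : Type} [Field E] [Module E V] [Nontrivial V] {n : ℕ} {S : Sys E V n}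

theorem app_smul (hsurj : ∀ c : E, ∃ i : ℕ, (i : E) = c) (g : A) (c : E) (u : V) : g • (c • u) = c • (g • u) := by
  obtain ⟨i, rfl⟩ := hsurj c
  rw [Nat.cast_smul_eq_nsmul, Nat.cast_smul_eq_nsmul]
  exact (DistribSMul.toAddMonoidHom V g).map_nsmul i u

/-- The elements as linear maps. -/
def lmap (hsurj : ∀ c : E, ∃ i : ℕ, (i : E) = c) : A →* (V ≃ₗ[E] V) where
  toFun g := { act g with map_smul' := fun c u => app_smul hsurj g c u }
  map_one' := LinearEquiv.ext fun u => one_smul A u
  map_mul' g h := LinearEquiv.ext fun u => mul_smul g h u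

theorem lmap_apply (hsurj : ∀ c : E, ∃ i : ℕ, (i : E) = c) (g : A) (u : V) : lmap hsurj g u = g • u := rfl

theorem conj_mem (hS : Setup E n S A) (hsurj : ∀ c : E, ∃ i : ℕ, (i : E) = c) (g : A) {m : V ≃ₗ[E] V}
    (hm : m ∈ S.grp) : lmap hsurj g * m * (lmap hsurj g)⁻¹ ∈ S.grp := by
  obtain ⟨m', hm', h⟩ := (hS.nor g).2 m hm
  convert hm' using 1
  refine LinearEquiv.ext fun u => ?_
  rw [app_mul, app_mul, lmap_apply]
  have := h ((lmap hsurj g)⁻¹ u)
  rw [act_apply, act_apply, ← lmap_apply hsurj g ((lmap hsurj g)⁻¹ u), app_app_inv] at this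
  exact this

/-- Conjugation as automorphisms of the group. -/
def conjHom (hS : Setup E n S A) (hsurj : ∀ c : E, ∃ i : ℕ, (i : E) = c) : A →* MulAut S.grp where
  toFun g :=
    { toFun := fun m => ⟨lmap hsurj g * (m : V ≃ₗ[E] V) * (lmap hsurj g)⁻¹, conj_mem hS hsurj g m.2⟩
      invFun := fun m => ⟨lmap hsurj g⁻¹ * (m : V ≃ₗ[E] V) * (lmap hsurj g⁻¹)⁻¹, conj_mem hS hsurj g⁻¹ m.2⟩
      left_inv := fun m => Subtype.ext (by simp [map_inv, mul_assoc])
      right_inv := fun m => Subtype.ext (by simp [map_inv, mul_assoc])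
      map_mul' := fun a b => Subtype.ext (by simp [mul_assoc]) }
  map_one' := MulEquiv.ext fun m => Subtype.ext (by simp)
  map_mul' g h := MulEquiv.ext fun m => Subtype.ext (by simp [mul_assoc])

theorem mem_center_iff_sc (a : S.grp) : a ∈ center S.grp ↔ ∃ c : Eˣ, (a : V ≃ₗ[E] V) = sc c := by
  rw [Subgroup.mem_center_iff]
  constructor
  · exact fun h => S.center a a.2 fun b hb => (congrArg Subtype.val (h ⟨b, hb⟩)).symm
  · rintro ⟨c, hc⟩ b
    exact Subtype.ext (by rw [Subgroup.coe_mul, Subgroup.coe_mul, hc, sc_comm])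

theorem center_cyclic [Finite E] (S : Sys E V n) : IsCyclic (center S.grp) := by
  let f : Eˣ →* center S.grp :=
    { toFun := fun c => ⟨⟨sc c, S.scal c⟩, (mem_center_iff_sc _).2 ⟨c, rfl⟩⟩
      map_one' := Subtype.ext (Subtype.ext (map_one sc))
      map_mul' := fun a b => Subtype.ext (Subtype.ext (map_mul sc a b)) }
  exact isCyclic_of_surjective f fun a => by
    obtain ⟨c, hc⟩ := (mem_center_iff_sc _).1 a.2
    exact ⟨c, Subtype.ext (Subtype.ext hc.symm)⟩

/-- Classes modulo scalars. -/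
abbrev Cls (S : Sys E V n) : Type := S.grp ⧸ center S.grp

/-- The automorphism of the classes. -/
def clsAut (φ : MulAut S.grp) : MulAut (Cls S) :=
  QuotientGroup.congr _ _ φ (Subgroup.characteristic_iff_map_eq.1 inferInstance φ)

theorem clsAut_mk (φ : MulAut S.grp) (m : S.grp) : clsAut φ (m : Cls S) = ((φ m : S.grp) : Cls S) := rfl

/-- The action on the classes. -/
def clsHom (hS : Setup E n S A) (hsurj : ∀ c : E, ∃ i : ℕ, (i : E) = c) : A →* MulAut (Cls S) where
  toFun g := clsAut (conjHom hS hsurj g)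
  map_one' := MulEquiv.ext fun x => by
    induction x using QuotientGroup.induction_on with
    | _ m => rw [clsAut_mk, map_one]; rfl
  map_mul' g h := MulEquiv.ext fun x => by
    induction x using QuotientGroup.induction_on with
    | _ m => rw [MulAut.mul_apply, clsAut_mk, clsAut_mk, clsAut_mk, map_mul]; rfl

theorem cls_commute (x y : Cls S) : x * y = y * x := by
  induction x using QuotientGroup.induction_on with
  | _ a =>
    induction y using QuotientGroup.induction_on with
    | _ b =>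
      rw [← QuotientGroup.mk_mul, ← QuotientGroup.mk_mul, QuotientGroup.eq, mem_center_iff_sc]
      obtain ⟨c, hc⟩ := S.comm a a.2 b b.2
      refine ⟨c⁻¹, ?_⟩
      simp only [Subgroup.coe_mul, Subgroup.coe_inv]
      rw [hc, mul_inv_rev, ← map_inv, mul_assoc, sc_comm c⁻¹, inv_mul_cancel_left]

/-- The classes of what commutes with everything in a set of classes. -/
def perpC (H : Subgroup (Cls S)) : Subgroup (Cls S) :=
  (centralizer (H.comap (QuotientGroup.mk' (center S.grp)) : Set S.grp)).map (QuotientGroup.mk' (center S.grp))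

theorem center_le_comap (H : Subgroup (Cls S)) : center S.grp ≤ H.comap (QuotientGroup.mk' (center S.grp)) :=
  fun z hz => by
    rw [mem_comap, QuotientGroup.mk'_apply, (QuotientGroup.eq_one_iff z).2 hz]
    exact H.one_mem

theorem mk_mem_perpC {H : Subgroup (Cls S)} (m : S.grp) :
    (m : Cls S) ∈ perpC H ↔ ∀ h : S.grp, (h : Cls S) ∈ H → h * m = m * h := by
  constructor
  · rintro ⟨m', hm', he⟩ h hh
    have hz : m'⁻¹ * m ∈ center S.grp := QuotientGroup.eq.1 he
    have h1 : h * m' = m' * h := mem_centralizer_iff.1 hm' h hh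
    have h3 : h * (m'⁻¹ * m) = (m'⁻¹ * m) * h := Subgroup.mem_center_iff.1 hz h
    calc h * m = h * m' * (m'⁻¹ * m) := by group
      _ = m' * (h * (m'⁻¹ * m)) := by rw [h1, mul_assoc]
      _ = m * h := by rw [h3]; group
  · exact fun h => ⟨m, mem_centralizer_iff.2 fun k hk => h k hk, rfl⟩

theorem card_perpC [Finite E] (H : Subgroup (Cls S)) :
    Nat.card (perpC H) * Nat.card H = Nat.card (Cls S) := by
  haveI : Finite (V ≃ₗ[E] V) := Finite.of_injective _ DFunLike.coe_injective
  haveI := center_cyclic S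
  set π := QuotientGroup.mk' (center S.grp)
  have hπ : Function.Surjective π := QuotientGroup.mk'_surjective _
  set L := H.comap π
  have hP : Huppert.Pairing (center S.grp) (⊤ : Subgroup S.grp) :=
    ⟨inferInstance, le_top, fun a ha v _ => (Subgroup.mem_center_iff.1 ha v).symm, fun u _ v _ => by
      obtain ⟨c, hc⟩ := S.comm u u.2 v v.2
      rw [mem_center_iff_sc]
      refine ⟨c, ?_⟩
      simp only [Subgroup.coe_mul, Subgroup.coe_inv]
      rw [hc]; group⟩
  have h1 := Huppert.perp_index hP (le_top : L ≤ ⊤)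
  rw [Huppert.perp, top_inf_eq, relIndex_top_right, Subgroup.coe_top, centralizer_univ,
    inf_eq_right.2 (center_le_comap H)] at h1
  have h2 : (center S.grp).relIndex L = Nat.card H := by
    have h := Subgroup.relIndex_comap (f := π) (⊥ : Subgroup (Cls S)) L
    rw [MonoidHom.comap_bot, QuotientGroup.ker_mk', map_comap_eq_self_of_surjective hπ, relIndex_bot_left] at h
    exact h
  have h3 : (perpC H).index = (centralizer (L : Set S.grp)).index := by
    refine index_map_eq _ hπ ?_
    rw [QuotientGroup.ker_mk']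
    exact fun z hz => mem_centralizer_iff.2 fun k _ => Subgroup.mem_center_iff.1 hz k
  rw [← h2, ← h1, ← h3, card_mul_index]

theorem card_isSquare [Finite E] {H : Subgroup (Cls S)} (hH : H ⊓ perpC H = ⊥) : ∃ k, Nat.card H = k * k := by
  haveI : Finite (V ≃ₗ[E] V) := Finite.of_injective _ DFunLike.coe_injective
  haveI := center_cyclic S
  set π := QuotientGroup.mk' (center S.grp)
  set L := H.comap π
  have hP : Huppert.Pairing (center S.grp) L :=
    ⟨inferInstance, center_le_comap H, fun a ha v _ => (Subgroup.mem_center_iff.1 ha v).symm, fun u _ v _ => by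
      obtain ⟨c, hc⟩ := S.comm u u.2 v v.2
      rw [mem_center_iff_sc]
      refine ⟨c, ?_⟩
      simp only [Subgroup.coe_mul, Subgroup.coe_inv]
      rw [hc]; group⟩
  obtain ⟨k, hk⟩ := Huppert.exists_sq hP
  refine ⟨k, ?_⟩
  have hcen : L ⊓ centralizer (L : Set S.grp) = center S.grp := by
    refine le_antisymm (fun m hm => ?_) (le_inf (center_le_comap H) fun z hz =>
      mem_centralizer_iff.2 fun k _ => Subgroup.mem_center_iff.1 hz k)
    rw [← QuotientGroup.eq_one_iff (N := center S.grp), ← mem_bot, ← hH]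
    exact ⟨hm.1, m, hm.2, rfl⟩
  rw [hcen] at hk
  rw [← hk]
  have h := Subgroup.relIndex_comap (f := π) (⊥ : Subgroup (Cls S)) L
  rw [MonoidHom.comap_bot, QuotientGroup.ker_mk', map_comap_eq_self_of_surjective (QuotientGroup.mk'_surjective _),
    relIndex_bot_left] at h
  exact h.symm

variable (hS : Setup E n S A) (hsurj : ∀ c : E, ∃ i : ℕ, (i : E) = c)

/-- A set of classes stable under the group. -/
def Stable (hS : Setup E n S A) (hsurj : ∀ c : E, ∃ i : ℕ, (i : E) = c) (H : Subgroup (Cls S)) : Prop :=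
  ∀ g : A, ∀ x ∈ H, clsHom hS hsurj g x ∈ H

include hS hsurj in
theorem stable_abelian {H : Subgroup (Cls S)} (hH : Stable hS hsurj H) (hab : H ≤ perpC H) : H = ⊥ := by
  rw [Subgroup.eq_bot_iff_forall]
  intro x hx
  induction x using QuotientGroup.induction_on with
  | _ a =>
    rw [QuotientGroup.eq_one_iff, mem_center_iff_sc]
    refine hS.noAbelian ((H.comap (QuotientGroup.mk' (center S.grp))).map S.grp.subtype) ?_ ?_ ?_ ?_ a
      ⟨a, hx, rfl⟩
    · exact fun m hm => by obtain ⟨b, -, rfl⟩ := hm; exact b.2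
    · exact fun c => ⟨⟨sc c, S.scal c⟩, center_le_comap H ((mem_center_iff_sc _).2 ⟨c, rfl⟩), rfl⟩
    · rintro _ ⟨b, hb, rfl⟩ _ ⟨d, hd, rfl⟩
      exact congrArg Subtype.val ((mk_mem_perpC d).1 (hab hd) b hb)
    · rintro g _ ⟨b, hb, rfl⟩
      refine ⟨_, ⟨conjHom hS hsurj g b, hH g _ hb, rfl⟩, fun u => ?_⟩
      show g • (b : V ≃ₗ[E] V) u = (lmap hsurj g * (b : V ≃ₗ[E] V) * (lmap hsurj g)⁻¹ : V ≃ₗ[E] V) (g • u)
      rw [← lmap_apply hsurj g, ← lmap_apply hsurj g u, app_mul, app_mul, app_inv_app]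

theorem stable_perpC {H : Subgroup (Cls S)} (hH : Stable hS hsurj H) : Stable hS hsurj (perpC H) := by
  intro g x hx
  induction x using QuotientGroup.induction_on with
  | _ m =>
    show ((conjHom hS hsurj g m : S.grp) : Cls S) ∈ perpC H
    rw [mk_mem_perpC]
    intro h hh
    have h1 := (mk_mem_perpC m).1 hx (conjHom hS hsurj g⁻¹ h) (hH g⁻¹ _ hh)
    have h2 := congrArg (conjHom hS hsurj g) h1
    rw [map_mul, map_mul, ← MulAut.mul_apply, ← map_mul, mul_inv_cancel, map_one, MulAut.one_apply] at h2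
    exact h2

include hS hsurj in
/-- No nontrivial class is fixed. -/
theorem no_fixed {x : Cls S} (hx : ∀ g : A, clsHom hS hsurj g x = x) : x = 1 := by
  refine Subgroup.eq_bot_iff_forall _ |>.1 (stable_abelian hS hsurj (H := zpowers x) (fun g y hy => ?_) ?_) x
    (mem_zpowers x)
  · obtain ⟨i, rfl⟩ := mem_zpowers_iff.1 hy
    rw [map_zpow, hx]; exact zpow_mem (mem_zpowers x) i
  · intro y hy
    induction y using QuotientGroup.induction_on with
    | _ b =>
      rw [mk_mem_perpC]
      intro d hd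
      obtain ⟨m, rfl⟩ := QuotientGroup.mk'_surjective (center S.grp) x
      obtain ⟨i, hi⟩ := mem_zpowers_iff.1 hy
      obtain ⟨j, hj⟩ := mem_zpowers_iff.1 hd
      have hb : ∀ (b : S.grp) (i : ℤ), (m : Cls S) ^ i = (b : Cls S) → ∃ z ∈ center S.grp, b = m ^ i * z :=
        fun b i h => ⟨(m ^ i)⁻¹ * b, QuotientGroup.eq.1 (by rw [← h, QuotientGroup.mk_zpow]), by group⟩
      obtain ⟨z, hz, rfl⟩ := hb b i hi
      obtain ⟨w, hw, rfl⟩ := hb d j hj
      have e1 : ∀ a, a * z = z * a := Subgroup.mem_center_iff.1 hz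
      have e2 : ∀ a, a * w = w * a := Subgroup.mem_center_iff.1 hw
      calc m ^ j * w * (m ^ i * z) = m ^ j * (m ^ i * w) * z := by rw [mul_assoc, ← mul_assoc w, ← e2]; group
        _ = m ^ i * (m ^ j * z) * w := by rw [mul_assoc (m ^ j), mul_assoc (m ^ i) w z, e1 w]; group
        _ = m ^ i * z * (m ^ j * w) := by rw [e1]; group

include hS hsurj in
/-- In a subgroup of four classes one is fixed. -/
theorem no_four (hcop : (Nat.card A).Coprime 3) {H : Subgroup (Cls S)} (hH : Stable hS hsurj H)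
    (h4 : Nat.card H = 4) : False := by
  classical
  haveI : Finite H := Nat.finite_of_card_ne_zero (by omega)
  letI : MulAction A {x : Cls S // x ∈ H ∧ x ≠ 1} :=
    { smul := fun g x => ⟨clsHom hS hsurj g x.1, hH g _ x.2.1, fun e => x.2.2 ((map_eq_one_iff _ (MulEquiv.injective _)).1 e)⟩
      one_smul := fun x => Subtype.ext (by show clsHom hS hsurj 1 x.1 = x.1; rw [map_one]; rfl)
      mul_smul := fun g h x => Subtype.ext (by
        show clsHom hS hsurj (g * h) x.1 = clsHom hS hsurj g (clsHom hS hsurj h x.1); rw [map_mul]; rfl) }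
  haveI : Finite {x : Cls S // x ∈ H ∧ x ≠ 1} :=
    Finite.of_injective (fun x => (⟨x.1, x.2.1⟩ : H)) fun a b e => Subtype.ext (congrArg Subtype.val e :)
  have hcard : Nat.card {x : Cls S // x ∈ H ∧ x ≠ 1} = 3 := by
    have h1 : Nat.card {x : H // x ≠ 1} = 3 := by
      haveI := Fintype.ofFinite H
      rw [Nat.card_eq_fintype_card, Fintype.card_subtype_compl, Fintype.card_subtype_eq, ← Nat.card_eq_fintype_card, h4]
    rw [← h1]
    exact Nat.card_congr ⟨fun x => ⟨⟨x.1, x.2.1⟩, fun e => x.2.2 (congrArg Subtype.val e :)⟩,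
      fun x => ⟨x.1.1, x.1.2, fun e => x.2 (Subtype.ext e)⟩, fun _ => rfl, fun _ => rfl⟩
  -- every orbit has one or two points
  have horb : ∀ x : {x : Cls S // x ∈ H ∧ x ≠ 1}, Nat.card (MulAction.orbit A x) ≠ 3 := by
    intro x e
    have h1 : Nat.card (MulAction.orbit A x) ∣ Nat.card A := by
      rw [Nat.card_congr (MulAction.orbitEquivQuotientStabilizer A x)]
      exact Subgroup.card_quotient_dvd_card _
    rw [e] at h1
    exact absurd (Nat.dvd_gcd h1 (dvd_refl 3)) (by rw [show Nat.gcd (Nat.card A) 3 = 1 from hcop]; norm_num)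
  suffices h : ∃ x : {x : Cls S // x ∈ H ∧ x ≠ 1}, ∀ g : A, g • x = x by
    obtain ⟨x, hx⟩ := h
    exact x.2.2 (no_fixed hS hsurj fun g => congrArg Subtype.val (hx g))
  by_contra hno
  push Not at hno
  haveI := Fintype.ofFinite {x : Cls S // x ∈ H ∧ x ≠ 1}
  haveI : Fintype (MulAction.orbitRel.Quotient A {x : Cls S // x ∈ H ∧ x ≠ 1}) := Fintype.ofFinite _
  have hsum := Nat.card_congr (MulAction.selfEquivSigmaOrbits A {x : Cls S // x ∈ H ∧ x ≠ 1})
  rw [Nat.card_sigma, hcard, Finset.sum_congr rfl fun ω _ => (show Nat.card (MulAction.orbit A ω.out) = 2 from ?_),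
    Finset.sum_const, smul_eq_mul] at hsum
  · omega
  · have hle : Nat.card (MulAction.orbit A ω.out) ≤ 3 := hcard ▸ Nat.card_le_card_of_injective _ Subtype.val_injective
    have hne : 1 < Nat.card (MulAction.orbit A ω.out) := by
      obtain ⟨g, hg⟩ := hno ω.out
      rw [Finite.one_lt_card_iff_nontrivial]
      exact ⟨⟨_, MulAction.mem_orbit _ g⟩, ⟨_, MulAction.mem_orbit_self _⟩, fun e => hg (congrArg Subtype.val e)⟩
    have := horb ω.out
    omega

include hS hsurj in
/-- The fixed classes of a normal abelian section. -/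
theorem exists_fpf [Finite E] [Group.IsSolvable A] (hcop : (Nat.card A).Coprime 3) {k : ℕ} (hk : k = 1 ∨ k = 2 ∨ k = 3)
    (hX : Nat.card (Cls S) = 4 ^ k) :
    ∃ (r : ℕ) (F : Subgroup A), r.Prime ∧ (k = 2 ∧ r = 5 ∨ k = 3 ∧ r = 7) ∧ F.Normal ∧
      (∀ f ∈ F, clsHom hS hsurj (f ^ r) = 1) ∧
      (∀ f ∈ F, ∀ h ∈ F, clsHom hS hsurj (f * h) = clsHom hS hsurj (h * f)) ∧
      (∀ x : Cls S, (∀ f ∈ F, clsHom hS hsurj f x = x) → x = 1) := by
  haveI : Finite (V ≃ₗ[E] V) := Finite.of_injective _ DFunLike.coe_injective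
  haveI : Finite (MulAut (Cls S)) := Finite.of_injective _ DFunLike.coe_injective
  set Φ := clsHom hS hsurj
  have h4 : 1 < 4 ^ k := Nat.one_lt_pow (by omega) (by norm_num)
  have hK : Φ.ker < ⊤ := by
    refine lt_top_iff_ne_top.2 fun e => ?_
    haveI : Nontrivial (Cls S) := Finite.one_lt_card_iff_nontrivial.1 (hX ▸ h4)
    obtain ⟨x, hx⟩ := exists_ne (1 : Cls S)
    exact hx (no_fixed hS hsurj fun g => by
      have : g ∈ Φ.ker := e ▸ mem_top g
      rw [show clsHom hS hsurj g = 1 from this]; rfl)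
  obtain ⟨N, hN, hKN, -, hNN⟩ := Huppert.exists_abelian_above Φ.ker ⊤ hK
  have hcomm : ∀ f ∈ N, ∀ h ∈ N, Φ (f * h) = Φ (h * f) := by
    intro f hf h hh
    have := hNN (commutator_mem_commutator hf hh)
    rw [MonoidHom.mem_ker, commutatorElement_def, map_mul, map_mul, map_mul, map_inv, map_inv,
      mul_inv_eq_one, mul_inv_eq_iff_eq_mul] at this
    rw [map_mul, map_mul, this]
  obtain ⟨g₀, hg₀, hg₀'⟩ := SetLike.exists_of_lt hKN
  have hne1 : orderOf (Φ g₀) ≠ 1 := fun e => hg₀' (orderOf_eq_one_iff.1 e)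
  set r := (orderOf (Φ g₀)).minFac
  have hr : r.Prime := Nat.minFac_prime hne1
  haveI := Fact.mk hr
  set f₀ := g₀ ^ (orderOf (Φ g₀) / r)
  have hf₀ : orderOf (Φ f₀) = r := by
    rw [map_pow, orderOf_pow_orderOf_div (orderOf_pos (Φ g₀)).ne' (Nat.minFac_dvd _)]
  let F : Subgroup A :=
    { carrier := {f | f ∈ N ∧ Φ (f ^ r) = 1}
      one_mem' := ⟨N.one_mem, by rw [one_pow, map_one]⟩
      mul_mem' := by
        rintro a b ⟨ha, ha'⟩ ⟨hb, hb'⟩
        refine ⟨N.mul_mem ha hb, ?_⟩
        have hc : Commute (Φ a) (Φ b) := by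
          show Φ a * Φ b = Φ b * Φ a
          rw [← map_mul, ← map_mul, hcomm a ha b hb]
        rw [map_pow, map_mul, hc.mul_pow, ← map_pow, ← map_pow, ha', hb', one_mul]
      inv_mem' := by
        rintro a ⟨ha, ha'⟩
        exact ⟨N.inv_mem ha, by rw [inv_pow, map_inv, ha', inv_one]⟩ }
  have hFn : F.Normal := ⟨fun f hf g => ⟨hN.conj_mem f hf.1 g, by
    rw [conj_pow, map_mul, map_mul, hf.2, mul_one, ← map_mul, mul_inv_cancel, map_one]⟩⟩
  have hf₀F : f₀ ∈ F := ⟨N.pow_mem hg₀ _, by rw [map_pow, ← hf₀, pow_orderOf_eq_one]⟩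
  -- the fixed classes
  let C : Subgroup (Cls S) :=
    { carrier := {x | ∀ f ∈ F, Φ f x = x}
      one_mem' := fun f _ => map_one (Φ f)
      mul_mem' := fun {a b} ha hb f hf => by rw [map_mul, ha f hf, hb f hf]
      inv_mem' := fun {a} ha f hf => by rw [map_inv, ha f hf] }
  have hC : Stable hS hsurj C := by
    intro g x hx f hf
    have h1 := hx (g⁻¹ * f * g) (by simpa using hFn.conj_mem f hf g⁻¹)
    have h2 := congrArg (Φ g) h1
    rw [← MulAut.mul_apply, ← map_mul, show g * (g⁻¹ * f * g) = f * g by group, map_mul, MulAut.mul_apply] at h2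
    exact h2
  have hperp := stable_perpC hS hsurj hC
  have hdisj : C ⊓ perpC C = ⊥ := by
    refine stable_abelian hS hsurj (fun g x hx => ⟨hC g x hx.1, hperp g x hx.2⟩) fun x hx => ?_
    induction x using QuotientGroup.induction_on with
    | _ m => exact (mk_mem_perpC m).2 fun h hh => (mk_mem_perpC m).1 hx.2 h hh.1
  have hfree : ∀ x ∈ perpC C, (∀ f ∈ F, Φ f x = x) → x = 1 := fun x hx hf => by
    rw [← mem_bot, ← hdisj]; exact ⟨hf, hx⟩
  -- counting the moved classes
  letI : MulAction (F.map Φ) (perpC C) :=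
    { smul := fun a x => ⟨(a : MulAut (Cls S)) x.1, by
        obtain ⟨f, -, hf⟩ := a.2
        rw [← hf]; exact hperp f _ x.2⟩
      one_smul := fun x => Subtype.ext rfl
      mul_smul := fun a b x => Subtype.ext rfl }
  have hp : IsPGroup r (F.map Φ) := by
    rintro ⟨_, f, hf, rfl⟩
    exact ⟨1, Subtype.ext (by rw [pow_one, Subgroup.coe_pow, ← map_pow]; exact hf.2)⟩
  have hmod := hp.card_modEq_card_fixedPoints (perpC C)
  have hfix1 : Nat.card (MulAction.fixedPoints (F.map Φ) (perpC C)) = 1 := by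
    rw [Nat.card_eq_one_iff_unique]
    refine ⟨⟨fun a b => ?_⟩, ⟨⟨1, fun a => Subtype.ext (map_one (a : MulAut (Cls S)))⟩⟩⟩
    have h1 : ∀ z : MulAction.fixedPoints (F.map Φ) (perpC C), ((z : perpC C) : Cls S) = 1 := fun z =>
      hfree _ (z : perpC C).2 fun f hf => congrArg Subtype.val (z.2 ⟨Φ f, f, hf, rfl⟩)
    exact Subtype.ext (Subtype.ext ((h1 a).trans (h1 b).symm))
  rw [hfix1] at hmod
  have hmul := card_perpC C
  rw [hX] at hmul
  obtain ⟨c, hc⟩ := card_isSquare hdisj
  obtain ⟨d, -, hd⟩ := (Nat.dvd_prime_pow Nat.prime_two).1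
    (show Nat.card C ∣ 2 ^ (2 * k) by rw [pow_mul]; exact ⟨_, by rw [mul_comm]; exact hmul.symm⟩)
  have hCtop : Nat.card C ≠ 4 ^ k := by
    intro e
    have htop : C = ⊤ := Subgroup.eq_top_of_card_eq _ (by rw [hX, e])
    refine hg₀' ?_
    exfalso
    have : Φ f₀ = 1 := MulEquiv.ext fun x => (htop ▸ mem_top x : x ∈ C) f₀ hf₀F
    rw [this, orderOf_one] at hf₀
    exact hr.one_lt.ne hf₀
  have hr2 : r ≠ 3 := by
    intro e
    have h1 : r ∣ Nat.card A := hf₀ ▸ (orderOf_map_dvd Φ f₀).trans (orderOf_dvd_natCard f₀)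
    rw [e] at h1
    exact absurd (Nat.dvd_gcd h1 (dvd_refl 3)) (by rw [show Nat.gcd (Nat.card A) 3 = 1 from hcop]; norm_num)
  have hC4 : Nat.card C ≠ 4 := fun e => no_four hS hsurj hcop hC e
  have key : Nat.card C = 1 ∧ (k = 2 ∧ r = 5 ∨ k = 3 ∧ r = 7) := by
    rw [Nat.ModEq, Nat.mod_eq_of_lt hr.one_lt] at hmod
    have hr1 : ∀ N, Nat.card (perpC C) = N → r ∣ N - 1 := fun N e => by
      rw [← Nat.modEq_iff_dvd' (e ▸ Nat.card_pos)]
      show 1 % r = N % r
      rw [Nat.mod_eq_of_lt hr.one_lt, ← e, hmod]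
    have hle : Nat.card C ≤ 4 ^ k := hX ▸ Nat.le_of_dvd Nat.card_pos (Subgroup.card_subgroup_dvd_card C)
    have hdvd : Nat.card C ∣ 4 ^ k := Dvd.intro_left _ hmul
    have h3 : r ∣ 3 → False := fun h => hr2 ((Nat.prime_dvd_prime_iff_eq hr Nat.prime_three).1 h)
    have hcd : c ≤ 8 := by
      rw [hc] at hle
      rcases hk with rfl | rfl | rfl <;> norm_num at hle <;> nlinarith
    rw [hc] at hmul hCtop hC4 hdvd ⊢
    rcases hk with rfl | rfl | rfl
    · interval_cases c
      case «1» =>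
        exact absurd (hr1 4 (by omega)) h3
      all_goals
        first
          | omega
          | (norm_num at hdvd; done)
          | (norm_num at hCtop; done)
          | (norm_num at hC4; done)
    · interval_cases c
      case «1» =>
        have h := hr1 16 (by omega)
        refine ⟨rfl, Or.inl ⟨rfl, ?_⟩⟩
        rcases hr.dvd_mul.1 (show r ∣ 3 * 5 from h) with h' | h'
        · exact absurd h' h3
        · exact (Nat.prime_dvd_prime_iff_eq hr Nat.prime_five).1 h'
      all_goals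
        first
          | omega
          | (norm_num at hdvd; done)
          | (norm_num at hCtop; done)
          | (norm_num at hC4; done)
    · interval_cases c
      case «1» =>
        have h := hr1 64 (by omega)
        refine ⟨rfl, Or.inr ⟨rfl, ?_⟩⟩
        rcases hr.dvd_mul.1 (show r ∣ 3 * (3 * 7) from h) with h' | h'
        · exact absurd h' h3
        rcases hr.dvd_mul.1 h' with h' | h'
        · exact absurd h' h3
        · exact (Nat.prime_dvd_prime_iff_eq hr (by norm_num)).1 h'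
      case «4» =>
        exact absurd (hr1 4 (by omega)) h3
      all_goals
        first
          | omega
          | (norm_num at hdvd; done)
          | (norm_num at hCtop; done)
          | (norm_num at hC4; done)
  exact ⟨r, F, hr, key.2, hFn, fun f hf => hf.2, fun f hf h hh => hcomm f hf.1 h hh.1,
    fun x hx => mem_bot.1 ((card_eq_one.1 key.1) ▸ (show x ∈ C from hx))⟩

end Cfsg.Agent.BaseTwo
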