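import Cfsg.Agent.Lib.BaseTwo.Eight

/-! Two vectors for primitive groups, over every field of odd order. -/

set_option autoImplicit false
set_option linter.style.haveILetI false
set_option maxRecDepth 100000

namespace Cfsg.Agent.BaseTwo

/-- Different words send a vector to different lines. -/
def sepOK (q : ℕ) (G : List (List ℕ → List ℕ)) (X : List ℕ) : Bool :=
  (allBits G.length).all fun bs => (cands q G).all fun c => c.2 == bs || !eqL (appC q G (1, bs) X) (appC q G c X)

/-- The words squaring to the identity on a vector. -/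
def involWords (q : ℕ) (G : List (List ℕ → List ℕ)) (X : List ℕ) : List (List Bool) :=
  (allBits G.length).filter fun bs => eqL (appC q G (1, bs) (appC q G (1, bs) X)) (appC q G (1, List.replicate G.length false) X)

theorem plus2_count : sepOK 3 (gensP 3 2) [2, 1, 1, 0] = true ∧
    (involWords 3 (gensP 3 2) [2, 1, 1, 0]).length = 10 ∧ (allBits (gensP 3 2).length).length = 16 := by
  decide +kernel

theorem minus3_count : sepOK 3 (gensM 3) [2, 2, 1, 1, 1, 2, 0, 2] = true ∧
    (involWords 3 (gensM 3) [2, 2, 1, 1, 1, 2, 0, 2]).length = 28 ∧ (allBits (gensM 3).length).length = 64 := by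
  decide +kernel

theorem plus3_count : sepOK 3 (gensP 3 3) [2, 1, 2, 0, 1, 0, 1, 0] = true ∧
    (involWords 3 (gensP 3 3) [2, 1, 2, 0, 1, 0, 1, 0]).length = 36 ∧ (allBits (gensP 3 3).length).length = 64 := by
  decide +kernel

theorem allBits_nodup : ∀ k : ℕ, (allBits k).Nodup := by
  intro k
  induction k with
  | zero => simp [allBits]
  | succ k ih =>
    refine List.Nodup.append (ih.map (fun a b h => by simpa using h)) (ih.map (fun a b h => by simpa using h)) ?_
    intro l h1 h2
    simp only [List.mem_map] at h1 h2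
    obtain ⟨a, -, rfl⟩ := h1
    obtain ⟨b, -, h⟩ := h2
    simp at h

theorem mem_allBits_length : ∀ (k : ℕ) (bs : List Bool), bs ∈ allBits k → bs.length = k := by
  intro k
  induction k with
  | zero => intro bs h; simp [allBits] at h; simp [h]
  | succ k ih =>
    intro bs h
    simp only [allBits, List.mem_append, List.mem_map] at h
    rcases h with ⟨a, ha, rfl⟩ | ⟨a, ha, rfl⟩ <;> simp [ih a ha]

variable {E : Type} [Field E] {W : Type} [AddCommGroup W] [Module E W] [Nontrivial W] [Finite W] {n : ℕ} {S : Sys E W n}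

set_option maxHeartbeats 400000 in
/-- The classes of a model, counted. -/
theorem Model.count [CharP E 3] (hsurj' : ∀ c : E, ∃ i : ℕ, (i : E) = c) {e : List W} {ms : List (W ≃ₗ[E] W)}
    {G : List (List ℕ → List ℕ)} (hM : Model S e ms G) {X : List ℕ} (hX : X.length = e.length)
    (hX0 : ev (E := E) e X ≠ 0) (hsep : sepOK 3 G X = true) :
    Nat.card (Cls S) = (allBits G.length).length ∧
      Nat.card {x : Cls S // Sing x} = (involWords 3 G X).length := by
  classical
  have hms := hM.length_eq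
  let W' : {bs : List Bool // bs ∈ allBits G.length} → S.grp := fun bs =>
    ⟨wordM ms bs.1, wordM_mem ms hM.mem bs.1⟩
  let Φ : {bs : List Bool // bs ∈ allBits G.length} → Cls S := fun bs => (W' bs : Cls S)
  have hinj : Function.Injective Φ := by
    intro b c he
    obtain ⟨s, hs⟩ := (mem_center_iff_sc _).1 (QuotientGroup.eq.1 (show (W' c : Cls S) = (W' b : Cls S) from he.symm))
    have hbc : wordM ms b.1 = sc s * wordM ms c.1 := by
      rw [sc_comm, ← hs, Subgroup.coe_mul, Subgroup.coe_inv]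
      exact (mul_inv_cancel_left _ _).symm
    obtain ⟨i, hi⟩ := hsurj' s
    have hi3 : ((i % 3 : ℕ) : E) = s := by rw [cast_mod', hi]
    have hpos : 1 ≤ i % 3 := by
      rcases Nat.eq_zero_or_pos (i % 3) with h0 | h0
      · rw [h0, Nat.cast_zero] at hi3
        exact absurd hi3.symm s.ne_zero
      · exact h0
    simp only [sepOK, List.all_eq_true] at hsep
    have h1 := hsep b.1 b.2 (i % 3, c.1) (mem_cands hpos (Nat.mod_lt _ (by norm_num)) (mem_allBits_length _ _ c.2))
    simp only [Bool.or_eq_true, beq_iff_eq, Bool.not_eq_true'] at h1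
    rcases h1 with h1 | h1
    · exact Subtype.ext h1.symm
    · exfalso
      obtain ⟨a1, a2⟩ := hM.appC_ev (q := 3) (1, b.1) hX
      obtain ⟨b1, b2⟩ := hM.appC_ev (q := 3) (i % 3, c.1) hX
      rw [eqL_iff.2 (hM.reduced_inj a1 b1 (reduced_smulL (by norm_num) _ _) (reduced_smulL (by norm_num) _ _) (by
        rw [← a2, ← b2, Nat.cast_one, one_smul]
        show wordM ms b.1 (ev (E := E) e X) = _
        rw [hbc, app_mul, sc_apply, hi3]))] at h1
      exact absurd h1 (by simp)
  have hsur : Function.Surjective Φ := by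
    intro x
    induction x using QuotientGroup.induction_on with
    | _ m =>
      obtain ⟨s, bs, hbs, he⟩ := hM.span m m.2
      refine ⟨⟨bs, mem_allBits _ _ (hbs.trans hms)⟩, QuotientGroup.eq.2 ((mem_center_iff_sc _).2 ⟨s, ?_⟩)⟩
      simp only [W', Subgroup.coe_mul, Subgroup.coe_inv]
      rw [he, sc_comm, inv_mul_cancel_left]
  have hnd := allBits_nodup G.length
  have hcard : ∀ l : List (List Bool), l.Nodup → Nat.card {bs // bs ∈ l} = l.length := fun l hl => by
    rw [Nat.card_congr (hl.getEquiv).symm, Nat.card_fin]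
  refine ⟨?_, ?_⟩
  · rw [← hcard _ hnd, Nat.card_congr (Equiv.ofBijective Φ ⟨hinj, hsur⟩)]
  · show _ = (List.filter _ _).length
    rw [← hcard _ (hnd.filter _)]
    refine (Nat.card_congr (Equiv.ofBijective
      (fun bs : {bs // bs ∈ involWords 3 G X} => (⟨Φ ⟨bs.1, List.mem_of_mem_filter bs.2⟩, ?_⟩ : {x : Cls S // Sing x}))
      ⟨fun b c he => Subtype.ext (congrArg Subtype.val (hinj (congrArg Subtype.val he)) :), fun x => ?_⟩)).symm
    · rw [sing_mk hsurj']
      obtain ⟨z, hz⟩ := (mem_center_iff_sc _).1 (sq_central hsurj' (W' ⟨bs.1, List.mem_of_mem_filter bs.2⟩))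
      refine Subtype.ext (hz.trans ?_)
      have h := (List.mem_filter.1 bs.2).2
      rw [eqL_iff] at h
      obtain ⟨a1, a2⟩ := hM.appC_ev (q := 3) (1, bs.1) hX
      obtain ⟨b1, b2⟩ := hM.appC_ev (q := 3) (1, bs.1) a1
      obtain ⟨c1, c2⟩ := hM.appC_ev (q := 3) (1, List.replicate G.length false) hX
      rw [Nat.cast_one, one_smul] at a2 b2 c2
      rw [h, ← c2, wordM_false, app_one, ← a2] at b2
      have h1 := LinearEquiv.congr_fun hz (ev (E := E) e X)
      simp only [W', Subgroup.coe_mul, app_mul] at h1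
      rw [b2] at h1
      rw [sc_eq_one hX0 h1.symm, map_one]
      rfl
    · obtain ⟨b, hb⟩ := hsur x.1
      refine ⟨⟨b.1, List.mem_filter.2 ⟨b.2, ?_⟩⟩, Subtype.ext hb⟩
      have hs := x.2
      rw [← hb, sing_mk hsurj'] at hs
      have h1 := LinearEquiv.congr_fun (congrArg Subtype.val hs) (ev (E := E) e X)
      simp only [W', Subgroup.coe_mul, app_mul] at h1
      obtain ⟨a1, a2⟩ := hM.appC_ev (q := 3) (1, b.1) hX
      obtain ⟨b1, b2⟩ := hM.appC_ev (q := 3) (1, b.1) a1
      obtain ⟨c1, c2⟩ := hM.appC_ev (q := 3) (1, List.replicate G.length false) hX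
      rw [eqL_iff]
      refine hM.reduced_inj b1 c1 (reduced_smulL (by norm_num) _ _) (reduced_smulL (by norm_num) _ _) ?_
      rw [← b2, ← c2, ← a2, Nat.cast_one, one_smul, one_smul, one_smul, wordM_false, h1]
      rfl

variable {A : Type} [Group A] [Finite A] {V : Type} [AddCommGroup V] [Finite V] [DistribMulAction A V]
  [Module E V] [Nontrivial V] {S : Sys E V n}

/-- From a certificate to a base. -/
theorem base_of_key (hS : Setup E n S A) {x y : V} (hx : x ≠ 0)
    (h : ∀ g : V ≃+ V, Nor S g → g x = x → g y = y → (∃ m ∈ S.grp, g x = m x) → Fix S g x) :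
    ∃ x y : V, x ≠ 0 ∧ ∀ g : A, g • x = x → g • y = y → g = 1 :=
  ⟨x, y, hx, fun g h1 h2 => hS.triv g x hx (h (act g) (hS.nor g) h1 h2 ⟨1, one_mem _, h1⟩)⟩

theorem base_of_trivial [Finite E] (hS : Setup E n S A) (ht : S.Trivial) :
    ∃ x y : V, x ≠ 0 ∧ ∀ g : A, g • x = x → g • y = y → g = 1 := by
  obtain ⟨γ, hγ⟩ := exists_generator (E := E)
  obtain ⟨x, hx⟩ := exists_ne (0 : V)
  exact base_of_key hS hx (pre_trivial ht hx γ.ne_zero (generator_rigid hγ)).key

theorem ev_ne_zero {q : ℕ} [CharP E q] {e : List V} {ms : List (V ≃ₗ[E] V)} {G : List (List ℕ → List ℕ)}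
    (hM : Model S e ms G) {X : List ℕ} (hX : X.length = e.length) (h : X.any (fun x => !Nat.beq (x % q) 0) = true) :
    ev (E := E) e X ≠ 0 := fun e0 => by
  simp only [List.any_eq_true, Bool.not_eq_true'] at h
  obtain ⟨x, hx, hx0⟩ := h
  simp [Nat.dvd_iff_mod_eq_zero.1 ((CharP.cast_eq_zero_iff E q x).1 (hM.indep X hX e0 x hx))] at hx0

/-- The field of five elements. -/
theorem base_five [CharP E 5] [Finite E] (hQ : Nat.card E = 5) (hS : Setup E n S A) :
    ∃ x y : V, x ≠ 0 ∧ ∀ g : A, g • x = x → g • y = y → g = 1 := by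
  haveI : Fact (Nat.Prime 5) := ⟨by norm_num⟩
  rcases tri_five hQ hS.sq S with ht | hk | ⟨x, y, hp⟩
  · exact base_of_trivial hS ht
  · obtain ⟨e, ms, hlen, hM⟩ := hk.model (two_ne_zero_of_char (q := 5) (by norm_num)) 5
    exact base_of_key hS (ev_ne_zero hM (X := [1, 0]) (by rw [hlen]; rfl) rfl) fun g hg h1 h2 h3 =>
      hM.key (by norm_num) (exists_natCast hQ) hlen rfl rfl rfl rfl five1_cert g hg h1 h2 h3
  · exact base_of_key hS hp.freeX.1 hp.key

/-- The field of three elements. -/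
theorem base_three [CharP E 3] [Finite E] [Group.IsSolvable A] (hQ : Nat.card E = 3) (hS : Setup E n S A)
    (hcop : (Nat.card A).Coprime 3) : ∃ x y : V, x ≠ 0 ∧ ∀ g : A, g • x = x → g • y = y → g = 1 := by
  haveI : Fact (Nat.Prime 3) := ⟨by norm_num⟩
  have hsurj := exists_natCast (E := E) (q := 3) hQ
  have hsurj' : ∀ c : E, ∃ i : ℕ, (i : E) = c := fun c => let ⟨i, _, h⟩ := hsurj c; ⟨i, h⟩
  rcases tri_three hQ hS.sq S with ht | ⟨k, G, e, ms, ⟨hk, hG⟩, hlen, hM⟩ | ⟨x, y, hp⟩
  · exact base_of_trivial hS ht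
  swap
  · exact base_of_key hS hp.freeX.1 hp.key
  have hdim : ∀ (X : List ℕ), X.length = 2 ^ k → X.length = e.length := fun X h => h.trans hlen.symm
  rcases hk with rfl | rfl | rfl <;> rcases hG with rfl | rfl
  · exact base_of_key hS (ev_ne_zero hM (X := [1, 0]) (hdim _ rfl) rfl) fun g hg h1 h2 h3 =>
      hM.key (by norm_num) hsurj hlen rfl rfl rfl rfl plus1_cert g hg h1 h2 h3
  · exact base_of_key hS (ev_ne_zero hM (X := [1, 0]) (hdim _ rfl) rfl) fun g hg h1 h2 h3 =>
      hM.key (by norm_num) hsurj hlen rfl rfl rfl rfl minus1_cert g hg h1 h2 h3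
  · exfalso
    obtain ⟨hsep, hcnt, hlen'⟩ := plus2_count
    obtain ⟨hc, hs⟩ := hM.count hsurj' (hdim _ rfl) (ev_ne_zero hM (hdim _ rfl) rfl) hsep
    obtain ⟨r, F, hr, hkr, -, hFr, -, hfpf⟩ := exists_fpf hS hsurj' hcop (k := 2) (by norm_num)
      (by rw [hc, hlen']; norm_num)
    haveI := Fact.mk hr
    have h := sing_modEq hS hsurj' hFr hfpf
    rw [hs, hcnt] at h
    rcases hkr with ⟨-, rfl⟩ | ⟨h', -⟩
    · exact absurd h (by decide)
    · exact absurd h' (by norm_num)
  · exact base_of_key hS (ev_ne_zero hM (X := [1, 1, 2, 2]) (hdim _ rfl) rfl) fun g hg h1 h2 h3 =>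
      hM.key (by norm_num) hsurj hlen rfl rfl rfl rfl minus2_cert g hg h1 h2 h3
  · obtain ⟨hsep, hcnt, hlen'⟩ := plus3_count
    obtain ⟨hc, -⟩ := hM.count hsurj' (hdim _ rfl) (ev_ne_zero hM (hdim _ rfl) rfl) hsep
    obtain ⟨r, F, hr, hkr, hFn, hFr, hFc, hfpf⟩ := exists_fpf hS hsurj' hcop (k := 3) (by norm_num)
      (by rw [hc, hlen']; norm_num)
    rcases hkr with ⟨h', -⟩ | ⟨-, rfl⟩
    · exact absurd h' (by norm_num)
    · exact base_eight hS hsurj' hcop (by rw [hc, hlen']; norm_num) hFn hFr hFc hfpf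
  · exfalso
    obtain ⟨hsep, hcnt, hlen'⟩ := minus3_count
    obtain ⟨hc, hs⟩ := hM.count hsurj' (hdim _ rfl) (ev_ne_zero hM (hdim _ rfl) rfl) hsep
    obtain ⟨r, F, hr, hkr, -, hFr, -, hfpf⟩ := exists_fpf hS hsurj' hcop (k := 3) (by norm_num)
      (by rw [hc, hlen']; norm_num)
    haveI := Fact.mk hr
    have h := sing_modEq hS hsurj' hFr hfpf
    rw [hs, hcnt] at h
    rcases hkr with ⟨h', -⟩ | ⟨-, rfl⟩
    · exact absurd h' (by norm_num)
    · exact absurd h (by decide)


/-- A primitive coprime solvable group in odd characteristic has two vectors with trivial common stabiliser. -/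
theorem base_primitive [FaithfulSMul A V] [Group.IsSolvable A] (p : ℕ) [hp : Fact p.Prime] (hp2 : p ≠ 2)
    [Module (ZMod p) V] (hcop : (Nat.card A).Coprime p) (hirr : OddBaseTwo.Irr A V)
    (hprim : OddBaseTwo.Prim A V p) : ∃ x y : V, x ≠ 0 ∧ ∀ g : A, g • x = x → g • y = y → g = 1 := by
  obtain ⟨E, iE, iF, iM, n, S, hpE, hS⟩ := exists_setup p hirr hprim
  have h3 : 3 ≤ p := by have := hp.out.two_le; omega
  haveI : CharP E p := (CharP.charP_iff_prime_eq_zero hp.out).2 hpE
  have h2 : (2 : E) ≠ 0 := two_ne_zero_of_char (q := p) (by omega)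
  by_cases hQ : 7 ≤ Nat.card E
  · exact base_large hS h2 hQ
  haveI := Fintype.ofFinite E
  obtain ⟨d, -, hd⟩ := FiniteField.card E p
  rw [← Nat.card_eq_fintype_card] at hd
  have hQp : Nat.card E = p := by
    rcases (show (d : ℕ) = 1 ∨ 2 ≤ (d : ℕ) by have := d.pos; omega) with h1 | h1
    · rw [hd, h1, pow_one]
    · exfalso
      have : 3 ^ 2 ≤ Nat.card E := hd ▸ (Nat.pow_le_pow_left h3 2).trans (Nat.pow_le_pow_right (by omega) h1)
      omega
  rcases (show p = 3 ∨ p = 5 ∨ p = 4 ∨ p = 6 by omega) with rfl | rfl | rfl | rfl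
  · exact base_three hQp hS hcop
  · exact base_five hQp hS
  · exact absurd hp.out (by norm_num)
  · exact absurd hp.out (by norm_num)

end Cfsg.Agent.BaseTwo
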