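import Cfsg.Agent.Lib.BaseTwo.Bases

/-! Models of the groups over prime fields, given by lists of coordinates. -/

set_option autoImplicit false
set_option linter.style.haveILetI false

namespace Cfsg.Agent.BaseTwo

/-- Replace an index by the bits of a word, composed from the head. -/
def wordF (G : List (List ℕ → List ℕ)) : List Bool → List ℕ → List ℕ
  | [], c => c
  | b :: bs, c => match G with
    | [] => c
    | f :: fs => if b then f (wordF fs bs c) else wordF fs bs c

/-- All bit lists of a length. -/
def allBits : ℕ → List (List Bool)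
  | 0 => [[]]
  | k + 1 => (allBits k).map (List.cons false) ++ (allBits k).map (List.cons true)

theorem mem_allBits : ∀ (k : ℕ) (bs : List Bool), bs.length = k → bs ∈ allBits k := by
  intro k
  induction k with
  | zero => intro bs h; simp [allBits, List.length_eq_zero_iff.1 h]
  | succ k ih =>
    intro bs h
    cases bs with
    | nil => simp at h
    | cons b bs =>
      simp only [List.length_cons, Nat.succ.injEq] at h
      cases b <;> simp [allBits, ih bs h]

/-- Multiply by a number modulo `q`. -/
def smulL (q s : ℕ) (c : List ℕ) : List ℕ := c.map fun x => s * x % q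

/-- Add modulo `q`. -/
def addL (q : ℕ) (c d : List ℕ) : List ℕ := List.zipWith (fun x y => (x + y) % q) c d

/-- The functions for `l`: the second half is negated. -/
def lF (q N : ℕ) (c : List ℕ) : List ℕ := c.take N ++ smulL q (q - 1) (c.drop N)

/-- The functions for `v` with square one: the halves change places. -/
def vF (N : ℕ) (c : List ℕ) : List ℕ := c.drop N ++ c.take N

/-- A function applied to both halves. -/
def liftF (N : ℕ) (f : List ℕ → List ℕ) (c : List ℕ) : List ℕ := f (c.take N) ++ f (c.drop N)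

/-- The generators one level up. -/
def extG (q N : ℕ) (G : List (List ℕ → List ℕ)) : List (List ℕ → List ℕ) :=
  vF N :: lF q N :: G.map (liftF N)

/-- The quaternion generators modulo three. -/
def quatA (c : List ℕ) : List ℕ := [2 * c.getD 1 0 % 3, c.getD 0 0 % 3]

/-- The quaternion generators modulo three. -/
def quatB (c : List ℕ) : List ℕ := [(c.getD 0 0 + c.getD 1 0) % 3, (c.getD 0 0 + 2 * c.getD 1 0) % 3]

variable {E W : Type} [Field E] [AddCommGroup W] [Module E W]

/-- The vector with given coordinates. -/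
def ev : List W → List ℕ → W
  | b :: bs, x :: xs => (x : E) • b + ev bs xs
  | _, _ => 0

theorem ev_append : ∀ (e e' : List W) (c c' : List ℕ), c.length = e.length →
    ev (E := E) (e ++ e') (c ++ c') = ev (E := E) e c + ev (E := E) e' c' := by
  intro e
  induction e with
  | nil => intro e' c c' h; simp [List.length_eq_zero_iff.1 h, ev]
  | cons b bs ih =>
    intro e' c c' h
    cases c with
    | nil => simp at h
    | cons x xs => simp only [List.cons_append, ev, ih e' xs c' (by simpa using h), add_assoc]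

theorem ev_map (m : W ≃ₗ[E] W) : ∀ (e : List W) (c : List ℕ), ev (E := E) (e.map m) c = m (ev (E := E) e c) := by
  intro e
  induction e with
  | nil => intro c; cases c <;> simp [ev]
  | cons b bs ih => intro c; cases c with
    | nil => simp [ev]
    | cons x xs => simp only [List.map_cons, ev, ih xs, map_add, map_smul]

variable {q : ℕ} [CharP E q]

theorem cast_mod' (x : ℕ) : ((x % q : ℕ) : E) = (x : E) := ((CharP.natCast_eq_natCast (R := E) q).2 (Nat.mod_modEq x q))

theorem ev_smulL (s : ℕ) : ∀ (e : List W) (c : List ℕ), ev (E := E) e (smulL q s c) = (s : E) • ev (E := E) e c := by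
  intro e
  induction e with
  | nil => intro c; cases c <;> simp [ev, smulL]
  | cons b bs ih => intro c; cases c with
    | nil => simp [ev, smulL]
    | cons x xs =>
      have hxs : ev (E := E) bs (List.map (fun x => s * x % q) xs) = (s : E) • ev (E := E) bs xs := ih xs
      simp only [smulL, List.map_cons, ev, hxs, smul_add, smul_smul, cast_mod', Nat.cast_mul]

theorem ev_addL : ∀ (e : List W) (c d : List ℕ), c.length = d.length →
    ev (E := E) e (addL q c d) = ev (E := E) e c + ev (E := E) e d := by
  intro e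
  induction e with
  | nil => intro c d _; cases c <;> cases d <;> simp [ev, addL]
  | cons b bs ih =>
    intro c d h
    cases c with
    | nil => simp [List.length_eq_zero_iff.1 h.symm, ev, addL]
    | cons x xs => cases d with
      | nil => simp at h
      | cons y ys =>
        have hxs : ev (E := E) bs (List.zipWith (fun x y => (x + y) % q) xs ys) = _ := ih xs ys (by simpa using h)
        simp only [addL, List.zipWith_cons_cons, ev, hxs, cast_mod', Nat.cast_add, add_smul]
        abel

theorem ev_modEq : ∀ (e : List W) (c : List ℕ), ev (E := E) e (c.map (· % q)) = ev (E := E) e c := by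
  intro e
  induction e with
  | nil => intro c; cases c <;> simp [ev]
  | cons b bs ih => intro c; cases c with
    | nil => simp [ev]
    | cons x xs => simp only [List.map_cons, ev, ih xs, cast_mod']

/-- An operator described by a function on coordinates. -/
def Rep (e : List W) (m : W ≃ₗ[E] W) (f : List ℕ → List ℕ) : Prop :=
  ∀ c : List ℕ, c.length = e.length → (f c).length = e.length ∧ m (ev (E := E) e c) = ev (E := E) e (f c)

/-- The product along a word. -/
def wordM : List (W ≃ₗ[E] W) → List Bool → (W ≃ₗ[E] W)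
  | m :: ms, b :: bs => (if b then m else 1) * wordM ms bs
  | _, _ => 1

theorem rep_word {e : List W} : ∀ {ms : List (W ≃ₗ[E] W)} {G : List (List ℕ → List ℕ)},
    List.Forall₂ (Rep e) ms G → ∀ bs : List Bool, Rep e (wordM ms bs) (wordF G bs) := by
  intro ms G h
  induction h with
  | nil => intro bs c hc; cases bs <;> exact ⟨hc, rfl⟩
  | @cons m f ms G hmf _ ih =>
    intro bs c hc
    cases bs with
    | nil => exact ⟨hc, rfl⟩
    | cons b bs =>
      obtain ⟨h1, h2⟩ := ih bs c hc
      cases b
      · exact ⟨h1, by simpa [wordM, wordF, app_mul] using h2⟩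
      · obtain ⟨h3, h4⟩ := hmf _ h1
        exact ⟨h3, by simpa [wordM, wordF, app_mul, h2] using h4⟩

theorem wordM_mem {G : Subgroup (W ≃ₗ[E] W)} : ∀ (ms : List (W ≃ₗ[E] W)), (∀ m ∈ ms, m ∈ G) → ∀ bs, wordM ms bs ∈ G := by
  intro ms
  induction ms with
  | nil => intro _ bs; cases bs <;> exact G.one_mem
  | cons m ms ih =>
    intro h bs
    cases bs with
    | nil => exact G.one_mem
    | cons b bs =>
      refine G.mul_mem ?_ (ih (fun x hx => h x (List.mem_cons_of_mem _ hx)) bs)
      cases b
      · exact G.one_mem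
      · exact h m List.mem_cons_self

theorem wordM_false : ∀ (ms : List (W ≃ₗ[E] W)) (k : ℕ), wordM ms (List.replicate k false) = 1 := by
  intro ms
  induction ms with
  | nil => intro k; cases k <;> rfl
  | cons m ms ih =>
    intro k
    cases k with
    | zero => rfl
    | succ k => simp [List.replicate_succ, wordM, ih]

variable {n : ℕ}

/-- A model: coordinates on a subspace, with generators acting by given functions. -/
structure Model (S : Sys E W n) (e : List W) (ms : List (W ≃ₗ[E] W)) (G : List (List ℕ → List ℕ)) : Prop where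
  indep : ∀ c : List ℕ, c.length = e.length → ev (E := E) e c = 0 → ∀ x ∈ c, (x : E) = 0
  mem : ∀ m ∈ ms, m ∈ S.grp
  rep : List.Forall₂ (Rep e) ms G
  span : ∀ m ∈ S.grp, ∃ (s : Eˣ) (bs : List Bool), bs.length = ms.length ∧ m = sc s * wordM ms bs

variable [Nontrivial W] {S : Sys E W n}

/-- The model of a group of scalars. -/
theorem model_trivial (ht : S.Trivial) {u : W} (hu : u ≠ 0) : Model S [u] [] [] := by
  refine { indep := fun c hc h0 => ?_, mem := fun m hm => by simp at hm, rep := .nil, span := fun m hm => ?_ }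
  · obtain ⟨x, rfl⟩ := List.length_eq_one_iff.1 hc
    simpa [ev, hu] using h0
  · obtain ⟨s, rfl⟩ := ht m hm
    exact ⟨s, [], rfl, by simp [wordM]⟩

variable {l v : W ≃ₗ[E] W}

theorem ev_mem_P0 : ∀ (e : List (P0 l)) (c : List ℕ),
    ((ev (E := E) e c : P0 l) : W) = ev (E := E) (e.map (fun u : P0 l => (u : W))) c := by
  intro e
  induction e with
  | nil => intro c; cases c <;> simp [ev]
  | cons b bs ih => intro c; cases c with
    | nil => simp [ev]
    | cons x xs => simp only [List.map_cons, ev, Submodule.coe_add, Submodule.coe_smul, ih xs]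

/-- An element above one of the smaller group which commutes with `v`. -/
theorem Split.exists_lift {ν : Eˣ} (h : Split S 2 l v (-1) ν) {m₀ : P0 l ≃ₗ[E] P0 l} (hm₀ : m₀ ∈ h.sys.grp) :
    ∃ δ, ∃ hδ : δ ∈ Cent S l, res S l ⟨δ, hδ⟩ = m₀ ∧ δ * v = v * δ := by
  obtain ⟨⟨δ, hδ⟩, rfl⟩ := hm₀
  obtain ⟨τ, hτ⟩ := S.comm δ (mem_Cent.1 hδ).1 v h.hv
  have h2 : τ ^ 2 = 1 := by
    have h1 := comm_pow δ v hτ 2
    rw [h.vpow, ← sc_comm] at h1
    exact sc_inj (W := W) ((mul_eq_right.1 h1.symm).trans (map_one sc).symm)
  rcases (sq_eq_one_iff.1 (show (τ : E) ^ 2 = 1 by rw [← Units.val_pow_eq_pow_val, h2, Units.val_one])) with e | e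
  · exact ⟨δ, hδ, rfl, by rw [hτ, show τ = 1 from Units.ext e, map_one, one_mul]⟩
  · refine ⟨δ * l, mul_mem hδ h.l_mem, ?_, ?_⟩
    · refine LinearEquiv.ext fun u => Subtype.ext ?_
      show (δ * l) (u : W) = δ (u : W)
      rw [app_mul, mem_P0.1 u.2]
    · have hτ' : τ = -1 := Units.ext (e.trans (by rw [Units.val_neg, Units.val_one]))
      have hv1 : v * δ = sc τ⁻¹ * (δ * v) := comm_symm δ v hτ
      have := comm_scalar v δ l hv1 h.comm
      rw [hτ', inv_neg, inv_one, neg_mul_neg, one_mul, map_one, one_mul] at this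
      exact this.symm

/-- A lift of an involution is an involution. -/
theorem Split.lift_square {ν : Eˣ} (h : Split S 2 l v (-1) ν) {δ : W ≃ₗ[E] W} (hδ : δ ∈ Cent S l)
    {m₀ : P0 l ≃ₗ[E] P0 l} (hres : res S l ⟨δ, hδ⟩ = m₀) (hv : δ * v = v * δ) (h0 : m₀ * m₀ = 1) : δ * δ = 1 := by
  obtain ⟨u₀, hu₀, hu₀P⟩ := h.exists_P0
  obtain ⟨s, k, hk, he, hs⟩ := h.of_scalar hu₀ hu₀P (mul_mem hδ hδ) (c := (1 : E)) fun u hu => by
    rw [one_smul]
    have := congrArg (fun f : P0 l ≃ₗ[E] P0 l => ((f ⟨u, hu⟩ : P0 l) : W)) h0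
    simp only [← hres] at this
    exact this
  obtain rfl : s = 1 := Units.ext hs
  rw [map_one, one_mul] at he
  have h1 := comm_pow v l h.comm k
  have h2 : v * l ^ k = l ^ k * v := by
    rw [← he, mul_assoc, hv, ← mul_assoc δ, hv, mul_assoc]
  rw [h2] at h1
  have h3 : (-1 : Eˣ) ^ k = (-1) ^ 0 := by
    rw [pow_zero]; exact sc_inj (W := W) ((mul_eq_right.1 h1.symm).trans (map_one sc).symm)
  rw [he, h.hζ.pow_inj hk two_pos h3, pow_zero]

/-- One level up. -/
theorem Model.extend [NeZero q] (h : Split S 2 l v (-1) 1) (h2 : (2 : E) ≠ 0) {e : List (P0 l)} {ms : List (P0 l ≃ₗ[E] P0 l)}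
    {G : List (List ℕ → List ℕ)} (hM : Model h.sys e ms G) (hne : ∃ u : P0 l, u ≠ 0) :
    ∃ (e' : List W) (ms' : List (W ≃ₗ[E] W)), ms'.take 2 = [v, l] ∧
      e' = e.map (fun u : P0 l => (u : W)) ++ (e.map (fun u : P0 l => (u : W))).map v ∧
      Model S e' ms' (extG q e.length G) := by
  set e₀ := e.map (fun u : P0 l => (u : W)) with he₀
  set N := e.length with hN
  have hlen : (e₀ ++ e₀.map v).length = N + N := by simp [he₀, hN]
  have hsplit : ∀ c : List ℕ, c.length = N + N → ev (E := E) (e₀ ++ e₀.map v) c =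
      ev (E := E) e₀ (c.take N) + v (ev (E := E) e₀ (c.drop N)) := fun c hc => by
    conv_lhs => rw [← List.take_append_drop N c]
    rw [ev_append _ _ _ _ (by simp [he₀, hc, hN]), ev_map]
  have hP : ∀ c, ev (E := E) e₀ c ∈ P0 l := fun c => by rw [he₀, ← ev_mem_P0]; exact Submodule.coe_mem _
  have hvv : ∀ u, v (v u) = u := fun u => by rw [h.v_two rfl, Units.val_one, one_smul]
  have hlv : ∀ u ∈ P0 l, l (v u) = -v u := fun u hu => by
    have := h.apply_pow 1 hu
    simpa using this
  have hq1 : 1 ≤ q := Nat.pos_of_ne_zero (NeZero.ne q)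
  choose L hL hLres hLv using fun m : {m // m ∈ ms} => h.exists_lift (hM.mem m.1 m.2)
  refine ⟨_, v :: l :: ms.attach.map L, by simp, rfl,
    { indep := fun c hc h0 => ?_, mem := ?_, rep := .cons ?_ (.cons ?_ ?_), span := ?_ }⟩
  · rw [hsplit c (hc.trans hlen)] at h0
    obtain ⟨ha, hb⟩ := h.slot_two (hP _) (hP _) h0
    have hc' := hc.trans hlen
    intro x hx
    rw [← List.take_append_drop N c, List.mem_append] at hx
    rcases hx with hx | hx
    · exact hM.indep (c.take N) (by simp [hc', hN]) (Subtype.ext (by rw [ev_mem_P0]; exact ha)) x hx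
    · exact hM.indep (c.drop N) (by simp [hc', hN]) (Subtype.ext (by rw [ev_mem_P0]; exact hb)) x hx
  · intro m hm
    simp only [List.mem_cons, List.mem_map] at hm
    rcases hm with rfl | rfl | ⟨m, -, rfl⟩
    · exact h.hv
    · exact h.hl
    · exact (mem_Cent.1 (hL m)).1
  · intro c hc
    have hc' := hc.trans hlen
    have hl1 : (vF N c).length = N + N := by simp [vF, hc']
    refine ⟨hl1.trans hlen.symm, ?_⟩
    have hlen' : (c.drop N).length = N := by simp [hc']
    rw [hsplit c hc', hsplit _ hl1, map_add, hvv, vF, List.take_left' hlen', List.drop_left' hlen', add_comm]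
  · intro c hc
    have hc' := hc.trans hlen
    have hl1 : (lF q N c).length = N + N := by simp [lF, smulL, hc']
    refine ⟨hl1.trans hlen.symm, ?_⟩
    have hlen' : (c.take N).length = N := by simp [hc']
    rw [hsplit c hc', hsplit _ hl1, map_add, mem_P0.1 (hP _), hlv _ (hP _), lF, List.take_left' hlen',
      List.drop_left' hlen', ev_smulL, map_smul, Nat.cast_sub hq1, CharP.cast_eq_zero E q, Nat.cast_one, zero_sub,
      neg_one_smul]
  · rw [List.forall₂_map_left_iff, List.forall₂_map_right_iff]
    have hrep : List.Forall₂ (Rep e) (ms.attach.map Subtype.val) G := by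
      rw [List.attach_map_subtype_val]; exact hM.rep
    rw [List.forall₂_map_left_iff] at hrep
    refine hrep.imp ?_
    intro m f hmf c hc
    have hc' := hc.trans hlen
    obtain ⟨a1, a2⟩ := hmf (c.take N) (by simp [hc', hN])
    obtain ⟨b1, b2⟩ := hmf (c.drop N) (by simp [hc', hN])
    have hl1 : (liftF N f c).length = N + N := by rw [liftF, List.length_append, hN, a1, b1]
    refine ⟨hl1.trans hlen.symm, ?_⟩
    have hval : ∀ d, L m (ev (E := E) e₀ d) = ((m.1 (ev (E := E) e d) : P0 l) : W) := fun d => by
      rw [he₀, ← ev_mem_P0]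
      exact congrArg Subtype.val (LinearEquiv.congr_fun (hLres m) (ev (E := E) e d))
    have hLv' : ∀ u, L m (v u) = v (L m u) := fun u => LinearEquiv.congr_fun (hLv m) u
    rw [hsplit c hc', hsplit _ hl1, map_add, hLv', hval, hval, a2, b2, ev_mem_P0, ev_mem_P0, liftF,
      List.take_left' a1, List.drop_left' a1]
  · intro m hm
    obtain ⟨j, hj, δ, hδ, rfl⟩ := h.decompose hm
    obtain ⟨s, bs, hbs, he⟩ := hM.span _ (h.mem_sys hδ)
    obtain ⟨w₀, hw₀⟩ : ∃ w, w = wordM (ms.attach.map L) bs := ⟨_, rfl⟩
    have hw : w₀ ∈ Cent S l ∧ ∀ u : P0 l, w₀ (u : W) = ((wordM ms bs u : P0 l) : W) := by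
      subst hw₀
      clear he hbs
      have hgen : ∀ (ls : List {m // m ∈ ms}) (bs : List Bool), wordM (ls.map L) bs ∈ Cent S l ∧
          ∀ u : P0 l, wordM (ls.map L) bs (u : W) = ((wordM (ls.map Subtype.val) bs u : P0 l) : W) := by
        intro ls
        induction ls with
        | nil => intro bs; cases bs <;> exact ⟨one_mem _, fun u => rfl⟩
        | cons m ls ih =>
          intro bs
          cases bs with
          | nil => exact ⟨one_mem _, fun u => rfl⟩
          | cons b bs =>
            obtain ⟨i1, i2⟩ := ih bs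
            refine ⟨mul_mem ?_ i1, fun u => ?_⟩
            · cases b
              · exact one_mem _
              · exact hL m
            · simp only [List.map_cons, wordM, app_mul, i2]
              cases b
              · rfl
              · exact congrArg Subtype.val (LinearEquiv.congr_fun (hLres m) _)
      have := hgen ms.attach bs
      rwa [List.attach_map_subtype_val] at this
    obtain ⟨u₀, hu₀⟩ := hne
    obtain ⟨t, k, hk, het, -⟩ := h.of_scalar (fun e => hu₀ (Subtype.ext e)) u₀.2 (δ := w₀⁻¹ * δ)
      (mul_mem (inv_mem hw.1) hδ) (c := (s : E)) fun u hu => by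
        refine w₀.injective ?_
        rw [app_mul, app_app_inv, map_smul, show w₀ u = _ from hw.2 ⟨u, hu⟩]
        exact congrArg Subtype.val (LinearEquiv.congr_fun he ⟨u, hu⟩)
    rw [inv_mul_eq_iff_eq_mul] at het
    obtain ⟨τ, hτ⟩ : ∃ τ : Eˣ, w₀ * l ^ k = sc τ * (l ^ k * w₀) :=
      S.comm _ (mem_Cent.1 hw.1).1 _ (pow_mem h.hl k)
    refine ⟨t * τ, decide (j = 1) :: decide (k = 1) :: bs, by simp [hbs], ?_⟩
    have hj' : v ^ j = if decide (j = 1) then v else 1 := by
      rcases (show j = 0 ∨ j = 1 by omega) with rfl | rfl <;> simp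
    have hk' : l ^ k = if decide (k = 1) then l else 1 := by
      rcases (show k = 0 ∨ k = 1 by omega) with rfl | rfl <;> simp
    rw [het, wordM, wordM, ← hj', ← hk', ← hw₀]
    calc v ^ j * (w₀ * (sc t * l ^ k)) = v ^ j * (sc t * (w₀ * l ^ k)) := by
          rw [← mul_assoc w₀, ← sc_comm, mul_assoc]
      _ = sc (t * τ) * (v ^ j * (l ^ k * w₀)) := by
          rw [hτ, ← mul_assoc (sc t), ← map_mul, ← mul_assoc, ← sc_comm, mul_assoc]

end Cfsg.Agent.BaseTwo
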