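import Cfsg.Agent.Lib.BaseTwo.Sys
import Mathlib.RingTheory.RootsOfUnity.Basic

/-! Splitting off a hyperbolic pair. -/

set_option autoImplicit false
set_option linter.style.haveILetI false

namespace Cfsg.Agent.BaseTwo

open Subgroup

variable {E W : Type} [Field E] [AddCommGroup W] [Module E W] {n : ℕ} {S : Sys E W n}
  {r : ℕ} {l v : W ≃ₗ[E] W} {ζ ν : Eˣ}

/-- The centraliser of `l` in the group. -/
def Cent (S : Sys E W n) (l : W ≃ₗ[E] W) : Subgroup (W ≃ₗ[E] W) :=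
  S.grp ⊓ centralizer ({l} : Set (W ≃ₗ[E] W))

theorem mem_Cent {δ : W ≃ₗ[E] W} : δ ∈ Cent S l ↔ δ ∈ S.grp ∧ l * δ = δ * l := by
  simp [Cent, mem_inf, mem_centralizer_iff]

theorem Cent.apply_mem {δ : W ≃ₗ[E] W} (hδ : δ ∈ Cent S l) {u : W} (hu : u ∈ P0 l) : δ u ∈ P0 l := by
  show l (δ u) = δ u
  rw [← app_mul, (mem_Cent.1 hδ).2, app_mul, mem_P0.1 hu]

theorem Split.l_mem (h : Split S r l v ζ ν) : l ∈ Cent S l := mem_Cent.2 ⟨h.hl, rfl⟩

theorem Split.sc_mem (c : Eˣ) : sc c ∈ Cent S l := mem_Cent.2 ⟨S.scal c, (sc_comm c l).symm⟩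

theorem Split.comm_inv (h : Split S r l v ζ ν) : l * v = sc ζ⁻¹ * (v * l) := comm_symm v l h.comm

theorem Split.pow_comm (h : Split S r l v ζ ν) (j : ℕ) : l * v ^ j = sc (ζ⁻¹ ^ j) * (v ^ j * l) :=
  comm_pow l v h.comm_inv j

theorem Split.apply_pow (h : Split S r l v ζ ν) (j : ℕ) {u : W} (hu : u ∈ P0 l) :
    l ((v ^ j) u) = ((ζ⁻¹ ^ j : Eˣ) : E) • (v ^ j) u := by
  have := LinearEquiv.congr_fun (h.pow_comm j) u
  rwa [app_mul, app_mul, app_mul, mem_P0.1 hu, sc_apply] at this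

theorem Split.vr_apply (h : Split S r l v ζ ν) (u : W) : (v ^ r) u = (ν : E) • u := by
  rw [h.vpow, sc_apply]

/-- Independence of the translates of `P0`. -/
theorem Split.slots (h : Split S r l v ζ ν) (s : Finset ℕ) (hs : ∀ j ∈ s, j < r) (u : ℕ → W)
    (hu : ∀ j ∈ s, u j ∈ P0 l) (hsum : ∑ j ∈ s, (v ^ j) (u j) = 0) : ∀ j ∈ s, u j = 0 := by
  intro j hj
  refine (LinearEquiv.map_eq_zero_iff (v ^ j)).1 (eigen_zero l s (fun j => ((ζ⁻¹ ^ j : Eˣ) : E))
    (fun j => (v ^ j) (u j)) ?_ (fun i hi => h.apply_pow i (hu i hi)) hsum j hj)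
  intro a ha b hb e
  exact h.hζ.inv.pow_inj (hs a ha) (hs b hb) (Units.ext e)

theorem Split.slot_two (h : Split S r l v ζ ν) {u₀ u₁ : W} (h0 : u₀ ∈ P0 l) (h1 : u₁ ∈ P0 l)
    (he : u₀ + v u₁ = 0) : u₀ = 0 ∧ u₁ = 0 := by
  have := h.slots {0, 1} (fun j hj => by
      simp only [Finset.mem_insert, Finset.mem_singleton] at hj; have := h.hr.two_le; omega)
    (fun j => if j = 0 then u₀ else u₁) (fun j hj => by
      simp only [Finset.mem_insert, Finset.mem_singleton] at hj; rcases hj with rfl | rfl <;> simp [h0, h1])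
    (by simpa [app_one] using he)
  exact ⟨by simpa using this 0 (by simp), by simpa using this 1 (by simp)⟩

theorem Split.slot_three (h : Split S r l v ζ ν) (h3 : 3 ≤ r) {u₀ u₁ u₂ : W} (h0 : u₀ ∈ P0 l)
    (h1 : u₁ ∈ P0 l) (h2 : u₂ ∈ P0 l) (he : u₀ + v u₁ + (v ^ 2) u₂ = 0) : u₀ = 0 ∧ u₁ = 0 ∧ u₂ = 0 := by
  have := h.slots {0, 1, 2} (fun j hj => by
      simp only [Finset.mem_insert, Finset.mem_singleton] at hj; omega)
    (fun j => if j = 0 then u₀ else if j = 1 then u₁ else u₂) (fun j hj => by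
      simp only [Finset.mem_insert, Finset.mem_singleton] at hj; rcases hj with rfl | rfl | rfl <;> simp [h0, h1, h2])
    (by simpa [app_one, add_assoc] using he)
  exact ⟨by simpa using this 0 (by simp), by simpa using this 1 (by simp), by simpa using this 2 (by simp)⟩

theorem Split.v_not_mem (h : Split S r l v ζ ν) {u : W} (hu : u ≠ 0) (hu0 : u ∈ P0 l) : v u ∉ P0 l := by
  intro hv
  exact hu (neg_eq_zero.1 (h.slot_two (u₀ := v u) (u₁ := -u) hv (neg_mem hu0) (by rw [map_neg, add_neg_cancel])).2)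

variable [Nontrivial W]

/-- The `r`-th roots of unity are powers of `ζ`. -/
theorem Split.root (h : Split S r l v ζ ν) {c : Eˣ} (hc : c ^ r = 1) : ∃ j < r, ζ ^ j = c := by
  haveI : NeZero r := ⟨h.hr.ne_zero⟩
  have hz : IsPrimitiveRoot (ζ : E) r := h.hζ.map_of_injective (f := Units.coeHom E) Units.val_injective
  obtain ⟨j, hj, he⟩ := hz.eq_pow_of_pow_eq_one
    (show (c : E) ^ r = 1 by rw [← Units.val_pow_eq_pow_val, hc, Units.val_one])
  exact ⟨j, hj, Units.ext ((Units.val_pow_eq_pow_val ζ j).trans he)⟩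

theorem sc_inj {c d : Eˣ} (h : sc c = (sc d : W ≃ₗ[E] W)) : c = d := by
  obtain ⟨u, hu⟩ := exists_ne (0 : W)
  exact sc_injective hu h

theorem Split.comm_root (h : Split S r l v ζ ν) {m : W ≃ₗ[E] W} {c : Eˣ} (hc : m * l = sc c * (l * m)) :
    ∃ j < r, c = ζ ^ j := by
  have h1 := comm_pow m l hc r
  rw [h.lpow, mul_one, one_mul] at h1
  have hcr : c ^ r = 1 := sc_inj (W := W) ((mul_eq_right.1 h1.symm).trans (map_one sc).symm)
  obtain ⟨j, hj, he⟩ := h.root hcr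
  exact ⟨j, hj, he.symm⟩

/-- Every element is a power of `v` times an element commuting with `l`. -/
theorem Split.decompose (h : Split S r l v ζ ν) {m : W ≃ₗ[E] W} (hm : m ∈ S.grp) :
    ∃ j < r, ∃ δ ∈ Cent S l, m = v ^ j * δ := by
  obtain ⟨c, hc⟩ := S.comm m hm l h.hl
  obtain ⟨j, hj, rfl⟩ := h.comm_root hc
  refine ⟨j, hj, (v ^ j)⁻¹ * m, mem_Cent.2 ⟨S.grp.mul_mem (inv_mem (pow_mem h.hv j)) hm, ?_⟩, by group⟩
  have h1 : l * v ^ j = sc (ζ⁻¹ ^ j) * (v ^ j * l) := h.pow_comm j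
  have h2 : l * m = sc (ζ⁻¹ ^ j) * (m * l) := by rw [inv_pow]; exact comm_symm m l hc
  refine mul_left_cancel (a := v ^ j) ?_
  calc v ^ j * (l * ((v ^ j)⁻¹ * m)) = (v ^ j * l) * (v ^ j)⁻¹ * m := by group
    _ = (sc (ζ⁻¹ ^ j))⁻¹ * (l * v ^ j) * (v ^ j)⁻¹ * m := by rw [h1]; group
    _ = (sc (ζ⁻¹ ^ j))⁻¹ * (l * m) := by group
    _ = m * l := by rw [h2]; group
    _ = _ := by group

theorem Split.l_pow_fix (h : Split S r l v ζ ν) {u : W} (hu : u ∈ P0 l) : ∀ i : ℕ, (l ^ i) u = u := by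
  intro i
  induction i with
  | zero => rfl
  | succ i ih => rw [pow_succ, app_mul, mem_P0.1 hu, ih]

/-- An element commuting with all that commutes with `l`. -/
theorem Split.of_central (h : Split S r l v ζ ν) {δ : W ≃ₗ[E] W} (hδg : δ ∈ S.grp)
    (hCC : ∀ m ∈ Cent S l, δ * m = m * δ) : ∃ (s : Eˣ) (k : ℕ), k < r ∧ δ = sc s * l ^ k := by
  obtain ⟨t, ht⟩ := S.comm v h.hv δ hδg
  have htr : t ^ r = 1 := by
    have hvr : δ * v ^ r = v ^ r * δ := by rw [h.vpow, sc_comm]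
    have h1 := comm_pow δ v (comm_symm v δ ht) r
    rw [hvr] at h1
    have h2 : (t⁻¹) ^ r = 1 := sc_inj (W := W) ((mul_eq_right.1 h1.symm).trans (map_one sc).symm)
    rwa [inv_pow, inv_eq_one] at h2
  obtain ⟨j, hj, rfl⟩ := h.root htr
  -- `δ * l ^ (r - j)` commutes with everything
  set δ' := δ * l ^ (r - j)
  have hv' : Commute δ' v := by
    show δ' * v = v * δ'
    rw [comm_scalar v δ (l ^ (r - j)) ht (comm_pow v l h.comm _), ← pow_add, Nat.add_sub_cancel' hj.le,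
      h.hζ.pow_eq_one, map_one, one_mul]
  have hcent : ∀ m ∈ S.grp, δ' * m = m * δ' := by
    intro m hm
    obtain ⟨i, -, ε, hε, rfl⟩ := h.decompose hm
    have h1 : Commute δ' ε := Commute.mul_left (hCC ε hε) (Commute.pow_left (mem_Cent.1 hε).2 _)
    exact ((hv'.pow_right i).mul_right h1).eq
  obtain ⟨s, hs⟩ := S.center δ' (S.grp.mul_mem hδg (pow_mem h.hl _)) hcent
  refine ⟨s, j, hj, ?_⟩
  rw [← hs, mul_assoc, ← pow_add, Nat.sub_add_cancel hj.le, h.lpow, mul_one]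

/-- An element commuting with `l` acting as a scalar on `P0`. -/
theorem Split.of_scalar (h : Split S r l v ζ ν) {u₀ : W} (hu₀ : u₀ ≠ 0) (hu₀P : u₀ ∈ P0 l)
    {δ : W ≃ₗ[E] W} (hδ : δ ∈ Cent S l) {c : E} (hc : ∀ u ∈ P0 l, δ u = c • u) :
    ∃ (s : Eˣ) (k : ℕ), k < r ∧ δ = sc s * l ^ k ∧ (s : E) = c := by
  have hδg := (mem_Cent.1 hδ).1
  obtain ⟨s, k, hk, he⟩ := h.of_central hδg fun m hm => by
    obtain ⟨t, ht⟩ := S.comm δ hδg m (mem_Cent.1 hm).1
    have h1 := LinearEquiv.congr_fun ht u₀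
    rw [app_mul, app_mul, app_mul, hc _ (Cent.apply_mem hm hu₀P), hc _ hu₀P, map_smul, sc_apply, smul_smul] at h1
    have hmu : m u₀ ≠ 0 := fun e => hu₀ ((LinearEquiv.map_eq_zero_iff m).1 e)
    have hc0 : c ≠ 0 := fun e => hu₀ ((LinearEquiv.map_eq_zero_iff δ).1 (by rw [hc _ hu₀P, e, zero_smul]))
    have h2 : c = (t : E) * c := smul_left_injective E hmu h1
    have : t = 1 := Units.ext ((mul_eq_right₀ hc0).1 h2.symm)
    rw [ht, this, map_one, one_mul]
  refine ⟨s, k, hk, he, ?_⟩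
  have h1 := hc _ hu₀P
  rw [he, app_mul, sc_apply, h.l_pow_fix hu₀P] at h1
  exact smul_left_injective E hu₀ h1

theorem Split.exists_P0 (h : Split S r l v ζ ν) : ∃ u : W, u ≠ 0 ∧ u ∈ P0 l := by
  obtain ⟨w, hw⟩ := exists_ne (0 : W)
  set z : E := (ζ : E)
  have hz : IsPrimitiveRoot z r := h.hζ.map_of_injective (f := Units.coeHom E) Units.val_injective
  haveI : NeZero r := ⟨h.hr.ne_zero⟩
  have hr0 : (r : E) ≠ 0 := (hz.neZero' (n := r)).ne
  let p : ℕ → W := fun k => ∑ i ∈ Finset.range r, z ^ (k * i) • (l ^ i) w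
  have hsum : ∑ k ∈ Finset.range r, p k = (r : E) • w := by
    rw [Finset.sum_comm, Finset.sum_eq_single 0]
    · simp only [mul_zero, pow_zero, one_smul, app_one, Finset.sum_const, Finset.card_range, Nat.cast_smul_eq_nsmul]
    · intro i hi hi0
      rw [← Finset.sum_smul]
      convert zero_smul E _
      simp only [mul_comm _ i, pow_mul]
      exact (hz.pow_of_coprime i ((h.hr.coprime_iff_not_dvd.2 fun hd => by
        have := Nat.le_of_dvd (Nat.pos_of_ne_zero hi0) hd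
        have := Finset.mem_range.1 hi; omega).symm)).geom_sum_eq_zero h.hr.one_lt
    · intro h0; exact absurd (Finset.mem_range.2 h.hr.pos) h0
  obtain ⟨k, hk, hpk⟩ : ∃ k ∈ Finset.range r, p k ≠ 0 := by
    by_contra hno
    push Not at hno
    rw [Finset.sum_eq_zero hno] at hsum
    exact (smul_eq_zero.1 hsum.symm).elim hr0 hw
  have heig : z ^ k • l (p k) = p k := by
    rw [map_sum, Finset.smul_sum]
    let f : ℕ → W := fun i => z ^ (k * i) • (l ^ i) w
    have hf : ∀ i, z ^ k • l (f i) = f (i + 1) := fun i => by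
      simp only [f, map_smul, smul_smul, ← app_mul, ← pow_succ', ← pow_add]
      congr 1
      ring
    show ∑ i ∈ Finset.range r, z ^ k • l (f i) = ∑ i ∈ Finset.range r, f i
    rw [Finset.sum_congr rfl fun i _ => hf i]
    have h1 := Finset.sum_range_succ' f r
    have h2 := Finset.sum_range_succ f r
    have hfr : f r = f 0 := by
      show z ^ (k * r) • (l ^ r) w = z ^ (k * 0) • (l ^ 0) w
      rw [h.lpow, pow_zero, mul_zero, pow_zero, mul_comm, pow_mul, hz.pow_eq_one, one_pow]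
    rw [h2, hfr] at h1
    exact (add_right_cancel h1).symm
  obtain ⟨u, hu⟩ : ∃ u, u = (v ^ (r - k)) (p k) := ⟨_, rfl⟩
  refine ⟨u, fun e => hpk ((LinearEquiv.map_eq_zero_iff _).1 (hu.symm.trans e)), ?_⟩
  have hkr := (Finset.mem_range.1 hk).le
  have hl1 : l (p k) = (z ^ k)⁻¹ • p k := by
    conv_rhs => rw [← heig]
    rw [smul_smul, inv_mul_cancel₀ (pow_ne_zero _ ζ.ne_zero), one_smul]
  show l u = u
  rw [hu]
  have := LinearEquiv.congr_fun (h.pow_comm (r - k)) (p k)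
  rw [app_mul, app_mul, app_mul, hl1, map_smul, sc_apply, smul_smul] at this
  rw [this]
  convert one_smul E _ using 2
  rw [inv_pow, Units.val_inv_eq_inv_val, Units.val_pow_eq_pow_val, ← mul_inv, ← pow_add,
    Nat.sub_add_cancel hkr, hz.pow_eq_one, inv_one]

/-- The restriction to `P0`. -/
def res (S : Sys E W n) (l : W ≃ₗ[E] W) : Cent S l →* (P0 l ≃ₗ[E] P0 l) where
  toFun δ :=
    { toFun := fun u => ⟨(δ : W ≃ₗ[E] W) u, Cent.apply_mem δ.2 u.2⟩
      map_add' := fun a b => Subtype.ext (map_add _ (a : W) b)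
      map_smul' := fun c a => Subtype.ext (map_smul (δ : W ≃ₗ[E] W) c (a : W))
      invFun := fun u => ⟨(δ : W ≃ₗ[E] W)⁻¹ u, Cent.apply_mem (inv_mem δ.2) u.2⟩
      left_inv := fun u => Subtype.ext (app_inv_app _ _)
      right_inv := fun u => Subtype.ext (app_app_inv _ _) }
  map_one' := LinearEquiv.ext fun _ => Subtype.ext rfl
  map_mul' _ _ := LinearEquiv.ext fun _ => Subtype.ext rfl

@[simp] theorem res_apply (δ : Cent S l) (u : P0 l) : ((res S l δ u : P0 l) : W) = (δ : W ≃ₗ[E] W) u := rfl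

theorem res_eq_sc {δ : Cent S l} {c : Eˣ} (h : res S l δ = sc c) :
    ∀ u ∈ P0 l, (δ : W ≃ₗ[E] W) u = (c : E) • u := fun u hu => by
  have := congrArg (fun f : P0 l ≃ₗ[E] P0 l => ((f ⟨u, hu⟩ : P0 l) : W)) h
  exact this

/-- The system induced on `P0`. -/
def Split.sys (h : Split S r l v ζ ν) : Sys E (P0 l) n where
  grp := (res S l).range
  scal c := ⟨⟨sc c, Split.sc_mem c⟩, LinearEquiv.ext fun _ => Subtype.ext rfl⟩
  comm := by
    rintro _ ⟨a, rfl⟩ _ ⟨b, rfl⟩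
    obtain ⟨c, hc⟩ := S.comm a (mem_Cent.1 a.2).1 b (mem_Cent.1 b.2).1
    refine ⟨c, LinearEquiv.ext fun u => Subtype.ext ?_⟩
    exact LinearEquiv.congr_fun hc u
  center := by
    rintro _ ⟨a, rfl⟩ ha
    obtain ⟨u, hu, hu0⟩ := h.exists_P0
    haveI : Nontrivial (P0 l) := ⟨⟨⟨u, hu0⟩, 0, fun e => hu (congrArg Subtype.val e)⟩⟩
    have hag := (mem_Cent.1 a.2).1
    obtain ⟨s, k, -, he⟩ := h.of_central hag fun m hm => by
      obtain ⟨t, ht⟩ := S.comm a hag m (mem_Cent.1 hm).1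
      have h1 : res S l a * res S l ⟨m, hm⟩ = sc t * (res S l ⟨m, hm⟩ * res S l a) :=
        LinearEquiv.ext fun u => Subtype.ext (LinearEquiv.congr_fun ht (u : W))
      rw [ha _ ⟨_, rfl⟩] at h1
      have : t = 1 := sc_inj (W := P0 l) ((mul_eq_right.1 h1.symm).trans (map_one sc).symm)
      rw [ht, this, map_one, one_mul]
    refine ⟨s, LinearEquiv.ext fun u => Subtype.ext ?_⟩
    have := LinearEquiv.congr_fun he (u : W)
    rw [app_mul, h.l_pow_fix u.2] at this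
    exact this
  pow := by
    rintro _ ⟨a, rfl⟩
    obtain ⟨c, hc⟩ := S.pow a (mem_Cent.1 a.2).1
    refine ⟨c, ?_⟩
    rw [← map_pow]
    exact LinearEquiv.ext fun u => Subtype.ext (LinearEquiv.congr_fun hc (u : W))

theorem Split.mem_sys (h : Split S r l v ζ ν) {δ : W ≃ₗ[E] W} (hδ : δ ∈ Cent S l) :
    res S l ⟨δ, hδ⟩ ∈ h.sys.grp := ⟨_, rfl⟩

theorem Split.card_lt [Finite W] (h : Split S r l v ζ ν) : Nat.card (P0 l) < Nat.card W := by
  obtain ⟨u, hu, hu0⟩ := h.exists_P0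
  classical
  haveI := Fintype.ofFinite W
  haveI := Fintype.ofFinite (P0 l)
  rw [Nat.card_eq_fintype_card, Nat.card_eq_fintype_card]
  exact Fintype.card_lt_of_injective_of_notMem (Subtype.val : P0 l → W) Subtype.val_injective
    (b := v u) fun ⟨y, hy⟩ => h.v_not_mem hu hu0 (hy ▸ y.2)

end Cfsg.Agent.BaseTwo
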