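import Cfsg.Agent.Lib.BaseTwo.Field
import Cfsg.Agent.Lib.BaseTwo.Large
import Cfsg.Agent.Lib.Huppert.Main
import Mathlib.GroupTheory.Exponent

/-! The group of Heisenberg type inside a primitive solvable group. -/

set_option autoImplicit false
set_option linter.style.haveILetI false

namespace Cfsg.Agent.BaseTwo

open Subgroup
open Cfsg.Agent.OddBaseTwo (Inv Irr Prim)

variable {A : Type} [Group A] [Finite A] {V : Type} [AddCommGroup V] [Finite V] [DistribMulAction A V]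

/-- The action of an element as an additive automorphism. -/
def act (g : A) : V ≃+ V := DistribMulAction.toAddEquiv V g

theorem act_apply (g : A) (v : V) : act g v = g • v := rfl

/-- What a primitive solvable group gives. -/
structure Setup (E : Type) [Field E] [Module E V] (n : ℕ) (S : Sys E V n) (A : Type) [Group A]
    [DistribMulAction A V] : Prop where
  sq : Squarefree n
  nor : ∀ g : A, Nor S (act g)
  triv : ∀ (g : A) (x : V), x ≠ 0 → Fix S (act g) x → g = 1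
  noAbelian : ∀ K : Subgroup (V ≃ₗ[E] V), K ≤ S.grp → (∀ c : Eˣ, sc c ∈ K) →
    (∀ a ∈ K, ∀ b ∈ K, a * b = b * a) →
    (∀ (g : A), ∀ m ∈ K, ∃ m' ∈ K, ∀ u : V, g • m u = m' (g • u)) →
    ∀ a ∈ K, ∃ c : Eˣ, a = sc c

theorem squarefree_exponent {U M : Subgroup A} [U.Normal] [M.Normal] (hP : Huppert.Pairing U M)
    (hmax : ∀ B : Subgroup A, B.Normal → (∀ a ∈ B, ∀ b ∈ B, a * b = b * a) → U ≤ B → B = U) :
    Squarefree (Monoid.exponent (M ⧸ U.subgroupOf M)) := by
  set N := Monoid.exponent (M ⧸ U.subgroupOf M) with hN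
  have hN0 : N ≠ 0 := Monoid.exponent_ne_zero_of_finite
  rw [Nat.squarefree_iff_prime_squarefree]
  intro r hr hd
  obtain ⟨q, hq⟩ := hd
  obtain ⟨k, hk⟩ : ∃ k, k = r * q := ⟨_, rfl⟩
  have hmem : ∀ a ∈ M, a ^ N ∈ U := fun a ha => by
    have h1 : ((⟨a, ha⟩ ^ N : M) : M ⧸ U.subgroupOf M) = 1 := by
      rw [QuotientGroup.mk_pow]; exact Monoid.pow_exponent_eq_one _
    exact mem_subgroupOf.mp ((QuotientGroup.eq_one_iff _).mp h1)
  -- commutators of powers
  have hstep : ∀ a ∈ M, ∀ b ∈ M, ∀ i : ℕ,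
      a ^ i * b * (a ^ i)⁻¹ * b⁻¹ = (a * b * a⁻¹ * b⁻¹) ^ i := by
    intro a ha b hb i
    induction i with
    | zero => simp
    | succ i ih =>
      have hc : a * (a * b * a⁻¹ * b⁻¹) ^ i = (a * b * a⁻¹ * b⁻¹) ^ i * a :=
        (hP.central _ (pow_mem (hP.comm a ha b hb) i) a ha).symm
      calc a ^ (i + 1) * b * (a ^ (i + 1))⁻¹ * b⁻¹
          = a * (a ^ i * b * (a ^ i)⁻¹ * b⁻¹) * (b * a⁻¹ * b⁻¹) := by rw [pow_succ']; group
        _ = _ := by rw [ih, hc, pow_succ]; group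
  have hswap : ∀ a ∈ M, ∀ b ∈ M, b * a * b⁻¹ * a⁻¹ = (a * b * a⁻¹ * b⁻¹)⁻¹ := fun a _ b _ => by group
  set B := U ⊔ Subgroup.closure ((fun a : A => a ^ k) '' (M : Set A)) with hB
  have hgen : ∀ a ∈ M, ∀ b ∈ M, a ^ k * b ^ k = b ^ k * a ^ k := by
    intro a ha b hb
    have h1 : a ^ N * b * (a ^ N)⁻¹ * b⁻¹ = 1 := by rw [hP.central _ (hmem a ha) b hb]; group
    rw [hstep a ha b hb] at h1
    have h2 : a ^ k * b ^ k * (a ^ k)⁻¹ * (b ^ k)⁻¹ = (a * b * a⁻¹ * b⁻¹) ^ (k * k) := by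
      rw [hstep a ha (b ^ k) (pow_mem hb k)]
      rw [hswap (b ^ k) (pow_mem hb k) a ha, hstep b hb a ha, hswap a ha b hb, ← inv_pow, ← pow_mul, inv_pow, inv_pow, inv_inv]
    have h3 : k * k = N * q := by rw [hq, hk]; ring
    rw [h3, pow_mul (a * b * a⁻¹ * b⁻¹) N q, h1, one_pow] at h2
    exact mul_inv_eq_iff_eq_mul.mp (mul_inv_eq_one.mp h2)
  have hBM : B ≤ M := sup_le hP.le (Subgroup.closure_le _ |>.2 fun _ ⟨a, ha, e⟩ => e ▸ pow_mem ha k)
  have hcU : ∀ u ∈ U, ∀ z ∈ B, u * z = z * u := fun u hu z hz => hP.central u hu z (hBM hz)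
  have habel : ∀ a ∈ B, ∀ b ∈ B, a * b = b * a := by
    have hcomm : B ≤ centralizer (B : Set A) := by
      rw [hB]
      refine sup_le (fun u hu => mem_centralizer_iff.2 fun z hz => (hcU u hu z hz).symm) ?_
      rw [Subgroup.closure_le]
      rintro _ ⟨a, ha, rfl⟩
      rw [SetLike.mem_coe, mem_centralizer_iff]
      have hle : U ⊔ closure ((fun a : A => a ^ k) '' (M : Set A)) ≤ centralizer ({a ^ k} : Set A) := by
        refine sup_le (fun u hu => mem_centralizer_singleton_iff.2 (hP.central u hu _ (pow_mem ha k))) ?_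
        rw [Subgroup.closure_le]
        rintro _ ⟨b, hb, rfl⟩
        exact mem_centralizer_singleton_iff.2 (hgen b hb a ha)
      exact fun z hz => mem_centralizer_singleton_iff.1 (hle hz)
    exact fun a ha b hb => (mem_centralizer_iff.1 (hcomm hb) a ha)
  haveI : (Subgroup.closure ((fun a : A => a ^ k) '' (M : Set A))).Normal := by
    refine ⟨fun z hz g => ?_⟩
    induction hz using Subgroup.closure_induction with
    | mem z hz =>
      obtain ⟨a, ha, rfl⟩ := hz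
      exact subset_closure ⟨g * a * g⁻¹, ‹M.Normal›.conj_mem a ha g, conj_pow⟩
    | one => simp
    | mul a b _ _ iha ihb => simpa [mul_assoc] using mul_mem iha ihb
    | inv a _ iha => simpa [mul_assoc] using inv_mem iha
  have hBU := hmax B inferInstance habel le_sup_left
  have hdvd : N ∣ k := by
    rw [hN]
    refine Monoid.exponent_dvd_of_forall_pow_eq_one fun z => ?_
    induction z using QuotientGroup.induction_on with
    | _ a =>
      rw [← QuotientGroup.mk_pow, QuotientGroup.eq_one_iff, mem_subgroupOf]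
      exact hBU.le (mem_sup_right (subset_closure ⟨a, a.2, rfl⟩))
  have hq0 : 0 < q := Nat.pos_of_ne_zero fun e => hN0 (by rw [hq, e, mul_zero])
  have h1 := Nat.le_of_dvd (hk ▸ Nat.mul_pos hr.pos hq0) hdvd
  rw [hq, hk, mul_assoc] at h1
  have h2 : 0 < r * q := Nat.mul_pos hr.pos (Nat.pos_of_ne_zero fun e => hN0 (by rw [hq, e, mul_zero]))
  have := hr.two_le
  nlinarith

set_option maxHeartbeats 800000 in
/-- A primitive solvable group normalises a group of Heisenberg type. -/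
theorem exists_setup [FaithfulSMul A V] [Nontrivial V] [Group.IsSolvable A] (p : ℕ) [Fact p.Prime]
    [Module (ZMod p) V] (hirr : Irr A V) (hprim : Prim A V p) :
    ∃ (E : Type) (_ : Field E) (_ : Finite E) (_ : Module E V) (n : ℕ) (S : Sys E V n),
      (p : E) = 0 ∧ Setup E n S A := by
  classical
  obtain ⟨U, -, hUmax⟩ := Finite.exists_le_maximal (α := Subgroup A)
    (p := fun U => U.Normal ∧ ∀ x ∈ U, ∀ y ∈ U, x * y = y * x) (a := ⊥)
    ⟨inferInstance, fun x hx y hy => by rw [mem_bot.1 hx, mem_bot.1 hy]⟩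
  obtain ⟨hUn, hU⟩ := hUmax.prop
  haveI := hUn
  have hmax : ∀ B : Subgroup A, B.Normal → (∀ a ∈ B, ∀ b ∈ B, a * b = b * a) → U ≤ B → B = U :=
    fun B hB hBc hUB => le_antisymm (hUmax.2 ⟨hB, hBc⟩ hUB) hUB
  obtain ⟨E, iE, iF, iM, hsemi, hscal, hlin, hpE, hcyc, hfpf⟩ := field_core p hirr hprim U hU
  haveI := hcyc
  obtain ⟨M, hMn, hP, hMC, hnd, hfaith, -, -⟩ := Huppert.exists_class_two U hU hmax
  haveI := hMn
  let φ : M →* (V ≃ₗ[E] V) :=
    { toFun := fun m =>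
        { act (m : A) with
          map_smul' := fun c v => hlin _ (hMC m.2) c v }
      map_one' := LinearEquiv.ext fun v => one_smul A v
      map_mul' := fun a b => LinearEquiv.ext fun v => mul_smul (a : A) b v }
  have hφ : ∀ (m : M) (v : V), φ m v = (m : A) • v := fun _ _ => rfl
  have hφinj : Function.Injective φ := fun a b e =>
    Subtype.ext (eq_of_smul_eq_smul (α := V) fun v => LinearEquiv.congr_fun e v)
  have hφU : ∀ m : M, (m : A) ∈ U → ∃ c : Eˣ, φ m = sc c := fun m hm => by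
    obtain ⟨c, hc⟩ := hscal _ hm
    exact ⟨c, LinearEquiv.ext fun v => hc v⟩
  let grp : Subgroup (V ≃ₗ[E] V) :=
    { carrier := {f | ∃ (c : Eˣ) (m : M), f = sc c * φ m}
      one_mem' := ⟨1, 1, by rw [map_one, map_one, one_mul]⟩
      mul_mem' := by
        rintro _ _ ⟨c, m, rfl⟩ ⟨d, k, rfl⟩
        refine ⟨c * d, m * k, ?_⟩
        rw [map_mul, map_mul, mul_assoc, ← mul_assoc (φ m), ← sc_comm, mul_assoc, mul_assoc]
      inv_mem' := by
        rintro _ ⟨c, m, rfl⟩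
        exact ⟨c⁻¹, m⁻¹, by rw [mul_inv_rev, map_inv, map_inv, ← map_inv sc, sc_comm]⟩ }
  have hmemφ : ∀ m : M, φ m ∈ grp := fun m => ⟨1, m, by rw [map_one, one_mul]⟩
  have hmemsc : ∀ c : Eˣ, sc c ∈ grp := fun c => ⟨c, 1, by rw [map_one, mul_one]⟩
  obtain ⟨v₀, hv₀⟩ := exists_ne (0 : V)
  have hcomm : ∀ m k : M, ∃ c : Eˣ, φ m * φ k = sc c * (φ k * φ m) := fun m k => by
    obtain ⟨c, hc⟩ := hφU (m * k * m⁻¹ * k⁻¹) (by simpa using hP.comm _ m.2 _ k.2)
    refine ⟨c, ?_⟩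
    rw [← hc, ← map_mul, ← map_mul, ← map_mul]
    congr 1
    group
  let n := Monoid.exponent (M ⧸ U.subgroupOf M)
  let S : Sys E V n :=
    { grp := grp
      scal := hmemsc
      comm := by
        rintro _ ⟨c, m, rfl⟩ _ ⟨d, k, rfl⟩
        obtain ⟨e, he⟩ := hcomm m k
        refine ⟨e, LinearEquiv.ext fun v => ?_⟩
        have h := LinearEquiv.congr_fun he v
        simp only [app_mul, sc_apply, map_smul, smul_smul] at h ⊢
        rw [h, smul_smul]
        congr 1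
        ring
      center := by
        rintro _ ⟨c, m, rfl⟩ hcen
        obtain ⟨d, hd⟩ := hφU m (hnd m m.2 fun k hk => by
          have h1 := hcen _ (hmemφ ⟨k, hk⟩)
          rw [mul_assoc, ← mul_assoc (φ ⟨k, hk⟩), ← sc_comm, mul_assoc] at h1
          exact congrArg Subtype.val (hφinj (a₁ := m * ⟨k, hk⟩) (a₂ := ⟨k, hk⟩ * m)
            (by rw [map_mul, map_mul]; exact mul_left_cancel h1)))
        exact ⟨c * d, by rw [hd, ← map_mul]⟩
      pow := by
        rintro _ ⟨c, m, rfl⟩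
        have h1 : ((m ^ n : M) : M ⧸ U.subgroupOf M) = 1 := by
          rw [QuotientGroup.mk_pow]; exact Monoid.pow_exponent_eq_one _
        obtain ⟨d, hd⟩ := hφU (m ^ n) (mem_subgroupOf.mp ((QuotientGroup.eq_one_iff _).mp h1))
        exact ⟨c ^ n * d, by rw [pow_smul_scalar, ← map_pow φ, hd, ← map_mul]⟩ }
  have hnor : ∀ g : A, Nor S (act g) := by
    intro g
    obtain ⟨σ, hσ⟩ := hsemi g
    refine ⟨⟨σ, hσ⟩, ?_⟩
    rintro _ ⟨c, m, rfl⟩
    have hσc : σ c ≠ 0 := fun e => by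
      have h1 := hσ (c : E) v₀
      rw [e, zero_smul, smul_eq_zero_iff_eq, smul_eq_zero] at h1
      exact h1.elim c.ne_zero hv₀
    let m' : M := ⟨g * m * g⁻¹, hMn.conj_mem m m.2 g⟩
    refine ⟨sc (Units.mk0 _ hσc) * φ m', ⟨_, _, rfl⟩, fun v => ?_⟩
    simp only [act_apply, app_mul, sc_apply, Units.val_mk0, hφ]
    rw [hσ, show (g * (m : A) * g⁻¹) • g • v = g • (m : A) • v by rw [← mul_smul, ← mul_smul]; group]
  refine ⟨E, iE, iF, iM, n, S, hpE, squarefree_exponent hP hmax, hnor, fun g x hx hfix => ?_,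
    fun K hKS hKsc hKab hKinv a ha => ?_⟩
  · obtain ⟨h1, h2, h3⟩ := hfix
    have hgU : g ∈ centralizer (U : Set A) := by
      rw [mem_centralizer_iff]
      intro u hu
      obtain ⟨c, hc⟩ := hscal u hu
      refine eq_of_smul_eq_smul (α := V) fun v => ?_
      rw [mul_smul, mul_smul, hc, hc]
      exact (h1 _ v).symm
    have hgm : ∀ k ∈ M, g * k = k * g := fun k hk => eq_of_smul_eq_smul (α := V) fun v => by
      rw [mul_smul, mul_smul]
      exact h2 _ (hmemφ ⟨k, hk⟩) v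
    by_contra hne
    exact hx (hfpf g (hfaith g hgU hgm) hne x h3)
  · obtain ⟨c, m, rfl⟩ := hKS ha
    let B : Subgroup A := (K.comap φ).map M.subtype
    have hB : ∀ b : A, b ∈ B ↔ ∃ hb : b ∈ M, φ ⟨b, hb⟩ ∈ K := fun b => by simp [B]
    haveI : B.Normal := ⟨fun b hb g => by
      obtain ⟨hbM, hbK⟩ := (hB b).1 hb
      obtain ⟨k, hk, hgk⟩ := hKinv g _ hbK
      refine (hB _).2 ⟨hMn.conj_mem b hbM g, ?_⟩
      convert hk using 1
      refine LinearEquiv.ext fun v => ?_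
      have := hgk (g⁻¹ • v)
      rw [smul_inv_smul] at this
      rw [← this, hφ, hφ, mul_smul, mul_smul]⟩
    have hBab : ∀ x ∈ B, ∀ y ∈ B, x * y = y * x := fun x hx y hy => by
      obtain ⟨hxM, hxK⟩ := (hB x).1 hx
      obtain ⟨hyM, hyK⟩ := (hB y).1 hy
      exact congrArg Subtype.val (hφinj (a₁ := (⟨x, hxM⟩ : M) * ⟨y, hyM⟩) (a₂ := ⟨y, hyM⟩ * ⟨x, hxM⟩)
        (by rw [map_mul, map_mul]; exact hKab _ hxK _ hyK))
    have hUB : U ≤ B := fun u hu => (hB u).2 ⟨hP.le hu, by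
      obtain ⟨d, hd⟩ := hφU ⟨u, hP.le hu⟩ hu
      rw [hd]; exact hKsc d⟩
    have hmB : (m : A) ∈ B := (hB _).2 ⟨m.2, by
      have := K.mul_mem (inv_mem (hKsc c)) ha
      rwa [inv_mul_cancel_left] at this⟩
    obtain ⟨d, hd⟩ := hφU m ((hmax B inferInstance hBab hUB).le hmB)
    exact ⟨c * d, by rw [hd, ← map_mul]⟩

/-- Fields of at least seven elements. -/
theorem base_large {E : Type} [Field E] [Finite E] [Module E V] [Nontrivial V] {n : ℕ} {S : Sys E V n}
    (hS : Setup E n S A) (h2 : (2 : E) ≠ 0) (hQ : 7 ≤ Nat.card E) :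
    ∃ x y : V, x ≠ 0 ∧ ∀ g : A, g • x = x → g • y = y → g = 1 := by
  obtain ⟨x, y, hp⟩ : ∃ x y : V, Pre S x y x := by
    rcases tri_large S hS.sq h2 hQ with ht | ⟨x, y, hp⟩
    · obtain ⟨γ, hγ⟩ := exists_generator (E := E)
      obtain ⟨x, hx⟩ := exists_ne (0 : V)
      exact ⟨x, _, pre_trivial ht hx γ.ne_zero (generator_rigid hγ)⟩
    · exact ⟨x, y, hp.toPre⟩
  exact ⟨x, y, hp.freeX.1, fun g h1 h3 => hS.triv g x hp.freeX.1
    (hp.key (act g) (hS.nor g) h1 h3 ⟨1, one_mem _, h1⟩)⟩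

end Cfsg.Agent.BaseTwo
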