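import Cfsg.Agent.Lib.BaseTwo.Peel

/-! The recursion step. -/

set_option autoImplicit false
set_option linter.style.haveILetI false

namespace Cfsg.Agent.BaseTwo

variable {E W : Type} [Field E] [AddCommGroup W] [Module E W] [Nontrivial W] {n : ℕ} {S : Sys E W n}
  {r : ℕ} {l v : W ≃ₗ[E] W} {ζ ν : Eˣ}

/-- The new first vector. -/
def newX (r : ℕ) (v : W ≃ₗ[E] W) (c : E) (y w : W) : W :=
  y + v w + if r = 2 then 0 else c • (v ^ 2) w

theorem Split.v_two (h : Split S r l v ζ ν) (hr : r = 2) (u : W) : v (v u) = (ν : E) • u := by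
  have := h.vr_apply u
  rwa [hr, pow_two, app_mul] at this

theorem Split.newX_eigen (h : Split S r l v ζ ν) {c : E} (hc : c ≠ 0) {y w : W} (hy : y ∈ P0 l)
    (hw : w ∈ P0 l) (hy0 : y ≠ 0) (hw0 : w ≠ 0) (a : E) : l (newX r v c y w) ≠ a • newX r v c y w := by
  intro he
  have hlv : l (v w) = ((ζ⁻¹ : Eˣ) : E) • v w := by simpa using h.apply_pow 1 hw
  have hone : ((ζ⁻¹ : Eˣ) : E) ≠ 1 := fun e =>
    h.hζ.ne_one h.hr.one_lt (inv_eq_one.1 (Units.ext e))
  rw [← sub_eq_zero] at he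
  by_cases h2 : r = 2
  · simp only [newX, if_pos h2, add_zero, map_add, mem_P0.1 hy, hlv, smul_add] at he
    have h0 := h.slot_two (u₀ := (1 - a) • y) (u₁ := (((ζ⁻¹ : Eˣ) : E) - a) • w) (Submodule.smul_mem _ _ hy)
      (Submodule.smul_mem _ _ hw) (by rw [map_smul, sub_smul, sub_smul, one_smul, ← he]; abel)
    have ha := (smul_eq_zero.1 h0.1).resolve_right hy0
    have hb := (smul_eq_zero.1 h0.2).resolve_right hw0
    exact hone ((sub_eq_zero.1 hb).trans (sub_eq_zero.1 ha).symm)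
  · have h3 : 3 ≤ r := by have := h.hr.two_le; omega
    simp only [newX, if_neg h2, map_add, mem_P0.1 hy, hlv, map_smul, h.apply_pow 2 hw, smul_add, smul_smul] at he
    have h0 := h.slot_three h3 (u₀ := (1 - a) • y) (u₁ := (((ζ⁻¹ : Eˣ) : E) - a) • w)
      (u₂ := (c * ((ζ⁻¹ ^ 2 : Eˣ) : E) - a * c) • w) (Submodule.smul_mem _ _ hy)
      (Submodule.smul_mem _ _ hw) (Submodule.smul_mem _ _ hw)
      (by rw [map_smul, map_smul, sub_smul, sub_smul, sub_smul, one_smul, ← he]; abel)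
    have ha := (smul_eq_zero.1 h0.1).resolve_right hy0
    have hb := (smul_eq_zero.1 h0.2.1).resolve_right hw0
    exact hone ((sub_eq_zero.1 hb).trans (sub_eq_zero.1 ha).symm)

theorem Split.newX_ne (h : Split S r l v ζ ν) {c : E} (hc : c ≠ 0) {y w : W} (hy : y ∈ P0 l)
    (hw : w ∈ P0 l) (hy0 : y ≠ 0) (hw0 : w ≠ 0) : newX r v c y w ≠ 0 := fun e =>
  h.newX_eigen hc hy hw hy0 hw0 0 (by rw [e, map_zero, smul_zero])

/-- A line moved by all but the scalars, seen in the whole group. -/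
theorem Split.line (h : Split S r l v ζ ν) {x : P0 l} (hx : LineFree h.sys x) {m : W ≃ₗ[E] W} (hm : m ∈ S.grp)
    {a : E} (he : m (x : W) = a • (x : W)) :
    ∃ (s : Eˣ) (k : ℕ), k < r ∧ m = sc s * l ^ k ∧ (s : E) = a := by
  have hx0 : (x : W) ≠ 0 := fun e => hx.1 (Subtype.ext e)
  have ha : a ≠ 0 := fun e => hx0 ((LinearEquiv.map_eq_zero_iff m).1 (by rw [he, e, zero_smul]))
  obtain ⟨j, hj, δ, hδ, rfl⟩ := h.decompose hm
  rw [app_mul] at he
  have hδx := Cent.apply_mem hδ x.2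
  have h1 := h.apply_pow j hδx
  rw [he, map_smul, mem_P0.1 x.2, smul_smul] at h1
  have h2 : ((ζ⁻¹ ^ j : Eˣ) : E) = 1 := by
    have := smul_left_injective E hx0 h1
    exact mul_right_cancel₀ ha (this.symm.trans (one_mul a).symm)
  have hj0 : j = 0 := h.hζ.inv.pow_inj hj h.hr.pos ((Units.ext h2).trans (pow_zero _).symm)
  subst hj0
  rw [pow_zero, app_one] at he
  obtain ⟨s, hs⟩ := hx.2 _ (h.mem_sys hδ) a (Subtype.ext he)
  have hsc := res_eq_sc hs
  obtain ⟨s', k, hk, e, hs'⟩ := h.of_scalar hx0 x.2 hδ hsc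
  refine ⟨s', k, hk, by rw [pow_zero, one_mul, e], hs'.trans ?_⟩
  have h3 := hsc _ x.2
  change δ (x : W) = _ at h3
  exact smul_left_injective E hx0 (h3.symm.trans he)

/-- The recursion. -/
theorem Split.step (h : Split S r l v ζ ν) (h2 : (2 : E) ≠ 0) {x y w : P0 l} (hp : Pre h.sys x y w)
    {c : E} (hc : c = 1 ∨ c = -1) (hν : r = 3 → (c ^ 3 * (ν : E)) ^ 3 ≠ 1)
    (hX : LineFree S (newX r v c (y : W) (w : W))) :
    Tri S (newX r v c (y : W) (w : W)) (x : W) (newX r v c (y : W) (w : W)) := by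
  have hx0 : (x : W) ≠ 0 := fun e => hp.freeX.1 (Subtype.ext e)
  have hy0 : (y : W) ≠ 0 := fun e => hp.ne (Subtype.ext e)
  have hw0 : (w : W) ≠ 0 := fun e => hp.freeW.1 (Subtype.ext e)
  have hcne : c ≠ 0 := by rcases hc with rfl | rfl <;> simp
  set X := newX r v c (y : W) (w : W) with hXdef
  refine { freeX := hX, freeW := hX, ne := hx0, key := fun g hg hgX hgx _ => ?_, out := fun m hm he => ?_ }
  swap
  · -- `X` has two components
    obtain ⟨j, hj, δ, hδ, rfl⟩ := h.decompose hm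
    have h1 : X = δ⁻¹ ((v ^ j)⁻¹ (x : W)) := by rw [← he, app_mul, app_inv_app, app_inv_app]
    have h2' : l ((v ^ j)⁻¹ (x : W)) = ((ζ ^ j : Eˣ) : E) • (v ^ j)⁻¹ (x : W) := by
      have h3 := LinearEquiv.congr_fun (h.pow_comm j) ((v ^ j)⁻¹ (x : W))
      rw [app_mul, app_app_inv, mem_P0.1 x.2, app_mul, app_mul, sc_apply, inv_pow] at h3
      refine (v ^ j).injective ?_
      rw [map_smul, app_app_inv]
      conv_rhs => rw [h3]
      rw [smul_smul, Units.mul_inv, one_smul]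
    refine h.newX_eigen hcne y.2 w.2 hy0 hw0 ((ζ ^ j : Eˣ) : E) ?_
    rw [← hXdef, h1, ← app_mul, (mem_Cent.1 (inv_mem hδ)).2, app_mul, h2', map_smul]
  obtain ⟨⟨σ, hσ⟩, hgm⟩ := hg
  have hgc : ∀ u, g (c • u) = c • g u := fun u => by rcases hc with rfl | rfl <;> simp
  choose φ hφm hφ using hgm
  -- the image of `l`
  have hlx : φ l h.hl (x : W) = (1 : E) • (x : W) := by
    have := hφ l h.hl (x : W)
    rw [mem_P0.1 x.2, hgx] at this
    rw [one_smul]; exact this.symm
  obtain ⟨s, i, hi, hli, hs⟩ := h.line hp.freeX (hφm l h.hl) hlx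
  obtain rfl : s = 1 := Units.ext hs
  rw [map_one, one_mul] at hli
  have hi0 : i ≠ 0 := by
    rintro rfl
    have hl1 : l = 1 := LinearEquiv.ext fun u => g.injective (by rw [hφ l h.hl, hli]; rfl)
    have h1 := h.comm
    rw [hl1, mul_one, one_mul] at h1
    exact h.hζ.ne_one h.hr.one_lt
      (sc_inj (W := W) ((mul_eq_right.1 h1.symm).trans (map_one sc).symm))
  obtain ⟨b, -, hb⟩ := Nat.exists_mul_mod_eq_one_of_coprime
    ((h.hr.coprime_iff_not_dvd.2 fun hd => by
      have := Nat.le_of_dvd (Nat.pos_of_ne_zero hi0) hd; omega).symm) h.hr.one_lt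
  have hlb : (φ l h.hl) ^ b = l := by
    rw [hli, ← pow_mul, ← Nat.mod_add_div (i * b) r, hb, pow_add, pow_one, pow_mul, h.lpow, one_pow, mul_one]
  have hP : ∀ u, g u ∈ P0 l ↔ u ∈ P0 l := by
    intro u
    constructor
    · intro hu
      refine g.injective ?_
      rw [hφ l h.hl, hli]
      exact h.l_pow_fix hu i
    · intro hu
      have h1 : φ l h.hl (g u) = g u := by rw [← hφ l h.hl, mem_P0.1 hu]
      have hk : ∀ k : ℕ, ((φ l h.hl) ^ k) (g u) = g u := fun k => by
        induction k with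
        | zero => rfl
        | succ k ih => rw [pow_succ, app_mul, h1, ih]
      have := hk b
      rwa [hlb] at this
  have hφC : ∀ δ (hδ : δ ∈ Cent S l), φ δ (mem_Cent.1 hδ).1 ∈ Cent S l := by
    intro δ hδ
    refine mem_Cent.2 ⟨hφm _ _, ?_⟩
    have hcm : Commute (φ l h.hl) (φ δ (mem_Cent.1 hδ).1) := LinearEquiv.ext fun u => by
      obtain ⟨u, rfl⟩ := g.surjective u
      rw [app_mul, app_mul, ← hφ, ← hφ, ← hφ, ← hφ, ← app_mul, (mem_Cent.1 hδ).2, app_mul]
    have := hcm.pow_left b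
    rwa [hlb] at this
  -- the restriction
  let g₀ : P0 l ≃+ P0 l :=
    { toFun := fun u => ⟨g u, (hP u).2 u.2⟩
      invFun := fun u => ⟨g.symm u, (hP _).1 (by rw [g.apply_symm_apply]; exact u.2)⟩
      left_inv := fun u => Subtype.ext (g.symm_apply_apply _)
      right_inv := fun u => Subtype.ext (g.apply_symm_apply _)
      map_add' := fun a b => Subtype.ext (map_add g (a : W) b) }
  have hg₀ : Nor h.sys g₀ := by
    refine ⟨⟨σ, fun a u => Subtype.ext (hσ a u)⟩, ?_⟩
    rintro _ ⟨δ, rfl⟩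
    exact ⟨_, h.mem_sys (hφC δ δ.2), fun u => Subtype.ext (hφ _ _ (u : W))⟩
  -- the image of `v`
  obtain ⟨j, hj, δ, hδ, hvj⟩ := h.decompose (hφm v h.hv)
  have hgv : ∀ u, g (v u) = (v ^ j) (δ (g u)) := fun u => by rw [hφ v h.hv, hvj, app_mul]
  have hj0 : j ≠ 0 := by
    rintro rfl
    have hcm : Commute (φ v h.hv) (φ l h.hl) := by
      rw [hvj, pow_zero, one_mul, hli]
      exact Commute.pow_right (show Commute δ l from (mem_Cent.1 hδ).2.symm) i
    have hvl : v * l = l * v := LinearEquiv.ext fun u => g.injective (by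
      rw [app_mul, app_mul, hφ v h.hv, hφ l h.hl, hφ l h.hl, hφ v h.hv, ← app_mul, hcm.eq, app_mul])
    have h1 := h.comm
    rw [hvl] at h1
    exact h.hζ.ne_one h.hr.one_lt
      (sc_inj (W := W) ((mul_eq_right.1 h1.symm).trans (map_one sc).symm))
  obtain ⟨t, ht⟩ := S.comm δ (mem_Cent.1 hδ).1 (v ^ j) (pow_mem h.hv j)
  have hgy : g (y : W) ∈ P0 l := (hP _).2 y.2
  have hgw : δ (g (w : W)) ∈ P0 l := Cent.apply_mem hδ ((hP _).2 w.2)
  have hδgw0 : δ (g (w : W)) ≠ 0 := fun e => hw0 (g.injective ((δ.map_eq_zero_iff.1 e).trans (map_zero g).symm))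
  have htr : ∀ (s : Eˣ) (k : ℕ), δ = sc s * l ^ k → t ^ r = 1 := by
    intro s k he
    have h1 := comm_pow (v ^ j) δ (comm_symm δ (v ^ j) ht) r
    have h2 : δ ^ r = sc (s ^ r) := by
      rw [he, (show Commute (sc s) (l ^ k) from sc_comm s _).mul_pow, ← pow_mul, mul_comm k, pow_mul, h.lpow,
        one_pow, mul_one, map_pow]
    rw [h2, ← sc_comm] at h1
    have h3 : (t⁻¹) ^ r = 1 := sc_inj (W := W) ((mul_eq_right.1 h1.symm).trans (map_one sc).symm)
    rwa [inv_pow, inv_eq_one] at h3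
  -- the key of the smaller system
  have fix₀ : ∀ a : E, a ≠ 0 → δ (g (w : W)) = a • (w : W) → g (y : W) = y → Fix h.sys g₀ w := by
    intro a ha hgwa hgyy
    refine hp.key g₀ hg₀ (Subtype.ext hgx) (Subtype.ext hgyy) ⟨_, h.mem_sys
      (δ := δ⁻¹ * sc (Units.mk0 a ha)) (mul_mem (inv_mem hδ) (Split.sc_mem _)), Subtype.ext ?_⟩
    show g (w : W) = ((δ⁻¹ * sc (Units.mk0 a ha) : W ≃ₗ[E] W)) (w : W)
    rw [app_mul, sc_apply, Units.val_mk0, ← hgwa, app_inv_app]
  have δform : ∀ a : E, δ (w : W) = a • (w : W) →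
      ∃ (s : Eˣ) (k : ℕ), k < r ∧ δ = sc s * l ^ k ∧ (s : E) = a := fun a he =>
    h.line hp.freeW (mem_Cent.1 hδ).1 he
  suffices hmain : ∃ k : ℕ, k < r ∧ j = 1 ∧ k = 0 ∧ δ = l ^ k ∧ Fix h.sys g₀ w by
    obtain ⟨k, -, rfl, rfl, hδe, hfix⟩ := hmain
    obtain ⟨u₀, hu₀, hu₀P⟩ := h.exists_P0
    have hlin : ∀ (a : E) (u : W), g (a • u) = a • g u := by
      intro a u
      have h1 : g (a • u₀) = a • g u₀ := congrArg Subtype.val (hfix.1 a ⟨u₀, hu₀P⟩)
      rw [hσ] at h1
      rw [hσ, smul_left_injective E (fun e => hu₀ (g.injective (e.trans (map_zero g).symm))) h1]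
    have hv1 : ∀ u, g (v u) = v (g u) := fun u => by rw [hgv, hδe, pow_one]; rfl
    have hi1 : i = 1 := by
      have h1 : v * l ^ i = sc (ζ ^ i) * (l ^ i * v) := comm_pow v l h.comm i
      have h2 : v * l ^ i = sc ζ * (l ^ i * v) := LinearEquiv.ext fun u => by
        obtain ⟨u, rfl⟩ := g.surjective u
        rw [app_mul, app_mul, app_mul, ← hli, ← hφ l h.hl, ← hv1, ← hv1, ← hφ l h.hl, sc_apply, ← hlin,
          ← app_mul, h.comm]
        rfl
      have h3 : ζ ^ i = ζ ^ 1 := (sc_inj (W := W) (mul_right_cancel (h1.symm.trans h2))).trans (pow_one ζ).symm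
      exact h.hζ.pow_inj hi h.hr.one_lt h3
    have hl1 : ∀ u, g (l u) = l (g u) := fun u => by rw [hφ l h.hl, hli, hi1, pow_one]
    have hC : ∀ ε (hε : ε ∈ Cent S l), φ ε (mem_Cent.1 hε).1 = ε := by
      intro ε hε
      have hP0 : ∀ u ∈ P0 l, φ ε (mem_Cent.1 hε).1 u = ε u := by
        intro u hu
        obtain ⟨u', rfl⟩ := g.surjective u
        have h1 : g (ε u') = ε (g u') :=
          congrArg Subtype.val (hfix.2.1 _ (h.mem_sys hε) ⟨u', (hP u').1 hu⟩)
        rw [← hφ, h1]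
      obtain ⟨s, k, hk, he, hs⟩ := h.of_scalar hu₀ hu₀P (δ := ε⁻¹ * φ ε (mem_Cent.1 hε).1)
        (mul_mem (inv_mem hε) (hφC ε hε)) (c := 1) fun u hu => by
          rw [app_mul, hP0 u hu, app_inv_app, one_smul]
      obtain rfl : s = 1 := Units.ext hs
      rw [map_one, one_mul, inv_mul_eq_iff_eq_mul] at he
      obtain ⟨τ, hτ⟩ := S.comm v h.hv ε (mem_Cent.1 hε).1
      have h2 : v * φ ε (mem_Cent.1 hε).1 = sc τ * (φ ε (mem_Cent.1 hε).1 * v) := LinearEquiv.ext fun u => by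
        obtain ⟨u, rfl⟩ := g.surjective u
        rw [app_mul, app_mul, app_mul, ← hφ, ← hv1, ← hv1, ← hφ, sc_apply, ← hlin, ← app_mul, hτ]
        rfl
      rw [he, comm_scalar v ε (l ^ k) hτ (comm_pow v l h.comm k)] at h2
      have h3 : ζ ^ k = ζ ^ 0 := by
        rw [pow_zero]; exact mul_eq_left.1 (sc_inj (W := W) (mul_right_cancel h2))
      rw [h.hζ.pow_inj hk h.hr.pos h3, pow_zero, mul_one] at he
      exact he
    refine ⟨hlin, fun m hm u => ?_, hgX⟩
    obtain ⟨q, -, ε, hε, rfl⟩ := h.decompose hm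
    have hvq : ∀ q u, g ((v ^ q) u) = (v ^ q) (g u) := by
      intro q
      induction q with
      | zero => intro u; rfl
      | succ q ih => intro u; rw [pow_succ, app_mul, ih, hv1, ← app_mul]
    rw [app_mul, hvq, hφ ε (mem_Cent.1 hε).1, hC ε hε, app_mul]
  have hgX' : g (y : W) + (v ^ j) (δ (g (w : W))) +
      (if r = 2 then 0 else c • (v ^ j) (δ ((v ^ j) (δ (g (w : W)))))) = X := by
    refine Eq.trans ?_ hgX
    rw [hXdef, newX, map_add, map_add, hgv]
    congr 1
    split_ifs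
    · rw [map_zero]
    · rw [hgc, pow_two v, app_mul, hgv, hgv]
  by_cases hr2 : r = 2
  · have hj1 : j = 1 := by omega
    subst hj1
    rw [if_pos hr2, add_zero, hXdef, newX, if_pos hr2, add_zero, pow_one] at hgX'
    have h0 := h.slot_two (u₀ := g (y : W) - y) (u₁ := δ (g (w : W)) - w) (sub_mem hgy y.2) (sub_mem hgw w.2)
      (by rw [map_sub, sub_add_sub_comm, hgX', sub_self])
    have hfix := fix₀ 1 one_ne_zero (by rw [one_smul]; exact sub_eq_zero.1 h0.2) (sub_eq_zero.1 h0.1)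
    have hgww : g (w : W) = w := congrArg Subtype.val hfix.2.2
    obtain ⟨s, k, hk, hδe, hs⟩ := δform 1 (by rw [one_smul]; simpa [hgww] using sub_eq_zero.1 h0.2)
    obtain rfl : s = 1 := Units.ext hs
    rw [map_one, one_mul] at hδe
    refine ⟨k, hk, rfl, ?_, hδe, hfix⟩
    -- the square of the image of `v`
    by_contra hk0
    have hk1 : k = 1 := by omega
    subst hk1
    obtain ⟨u₀, hu₀, hu₀P⟩ := h.exists_P0
    obtain ⟨u₁, hu₁⟩ := g.surjective u₀
    have hu₁P : u₁ ∈ P0 l := (hP u₁).1 (hu₁ ▸ hu₀P)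
    have h1 : g (v (v u₁)) = (ν : E) • u₀ := by
      rw [h.v_two hr2]
      have : g ((ν : E) • u₁) = (ν : E) • g u₁ := congrArg Subtype.val (hfix.1 (ν : E) ⟨u₁, hu₁P⟩)
      rw [this, hu₁]
    rw [hgv, hgv, hu₁, hδe, pow_one, pow_one, mem_P0.1 hu₀P] at h1
    have h2' : l (v u₀) = ((ζ⁻¹ : Eˣ) : E) • v u₀ := by simpa using h.apply_pow 1 hu₀P
    rw [h2', map_smul, h.v_two hr2, smul_smul] at h1
    have h3 : ((ζ⁻¹ : Eˣ) : E) = 1 :=
      mul_right_cancel₀ ν.ne_zero ((smul_left_injective E hu₀ h1).trans (one_mul _).symm)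
    exact h.hζ.ne_one h.hr.one_lt (inv_eq_one.1 (Units.ext h3))
  have h3 : 3 ≤ r := by have := h.hr.two_le; omega
  rw [if_neg hr2, hXdef, newX, if_neg hr2] at hgX'
  -- the twofold translate
  have hδv : δ ((v ^ j) (δ (g (w : W)))) = (t : E) • (v ^ j) (δ (δ (g (w : W)))) := by
    have := LinearEquiv.congr_fun ht (δ (g (w : W)))
    rwa [app_mul, app_mul, app_mul, sc_apply] at this
  rw [hδv, map_smul, smul_smul, ← app_mul (v ^ j) (v ^ j), ← pow_add,
    show j + j = (j + j) % r + r * ((j + j) / r) from (Nat.mod_add_div _ _).symm, pow_add, pow_mul, h.vpow,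
    ← map_pow, app_mul, sc_apply, map_smul, smul_smul] at hgX'
  set B := δ (δ (g (w : W)))
  set e := c * (t : E) * ((ν ^ ((j + j) / r) : Eˣ) : E) with he
  set jj := (j + j) % r with hjj
  let u : ℕ → W := fun q => (if q = 0 then g (y : W) - y else 0) + (if q = j then δ (g (w : W)) else 0)
    + (if q = jj then e • B else 0) - (if q = 1 then (w : W) else 0) - (if q = 2 then c • (w : W) else 0)
  have hBP : B ∈ P0 l := Cent.apply_mem hδ hgw
  have hjjr : jj < r := Nat.mod_lt _ h.hr.pos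
  have hone' : ∀ (a : ℕ) (z : W), a < r →
      ∑ q ∈ Finset.range r, (v ^ q) (if q = a then z else 0) = (v ^ a) z := by
    intro a z ha
    rw [Finset.sum_eq_single a (fun q _ hq => by rw [if_neg hq, map_zero])
      (fun h' => absurd (Finset.mem_range.2 ha) h'), if_pos rfl]
  have hsum : ∑ q ∈ Finset.range r, (v ^ q) (u q) = 0 := by
    simp only [u, map_add, map_sub, Finset.sum_add_distrib, Finset.sum_sub_distrib]
    rw [hone' 0 _ h.hr.pos, hone' j _ hj, hone' jj _ hjjr, hone' 1 _ (by omega), hone' 2 _ (by omega),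
      pow_zero, app_one, pow_one, map_smul, map_smul, sub_add_eq_add_sub, sub_add_eq_add_sub,
      sub_sub, sub_sub, sub_eq_zero, hgX', add_assoc]
  have hu := h.slots (Finset.range r) (fun q hq => Finset.mem_range.1 hq) u (fun q _ => by
    refine sub_mem (sub_mem (add_mem (add_mem ?_ ?_) ?_) ?_) ?_ <;> split_ifs <;>
      (first
        | exact zero_mem _
        | exact w.2
        | exact Submodule.smul_mem _ _ w.2
        | exact sub_mem hgy y.2
        | exact hgw
        | exact Submodule.smul_mem _ _ hBP)) hsum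
  have hjjj : jj ≠ j := fun e' => by
    rcases Nat.lt_or_ge (j + j) r with hlt | hge
    · rw [hjj, Nat.mod_eq_of_lt hlt] at e'; omega
    · rw [hjj, Nat.mod_eq_sub_mod hge, Nat.mod_eq_of_lt (by omega)] at e'; omega
  have hjj0 : jj ≠ 0 := fun e' => by
    have hd : r ∣ j + j := Nat.dvd_of_mod_eq_zero e'
    rw [← two_mul] at hd
    rcases h.hr.dvd_mul.1 hd with h' | h'
    · have := Nat.le_of_dvd (by norm_num) h'; omega
    · have := Nat.le_of_dvd (Nat.pos_of_ne_zero hj0) h'; omega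
  have hy' : g (y : W) = y := by
    have := hu 0 (Finset.mem_range.2 h.hr.pos)
    simp only [u, if_neg (Ne.symm hj0), if_neg (Ne.symm hjj0), if_true, if_neg (show (0 : ℕ) ≠ 1 by omega),
      if_neg (show (0 : ℕ) ≠ 2 by omega), add_zero, sub_zero] at this
    exact sub_eq_zero.1 this
  rcases (show j = 1 ∨ j = 2 ∨ (j ≠ 1 ∧ j ≠ 2) by omega) with hj1 | hj2 | ⟨hj1, hj2⟩
  · subst hj1
    have hjj2 : jj = 2 := by rw [hjj, Nat.mod_eq_of_lt (by omega)]
    have e1 := hu 1 (Finset.mem_range.2 (by omega))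
    have e2 := hu 2 (Finset.mem_range.2 (by omega))
    simp only [u, hjj2, if_true, if_neg (show (1 : ℕ) ≠ 0 by omega), if_neg (show (1 : ℕ) ≠ 2 by omega),
      if_neg (show (2 : ℕ) ≠ 0 by omega), if_neg (show (2 : ℕ) ≠ 1 by omega), zero_add, add_zero, sub_zero,
      sub_eq_zero] at e1 e2
    have hfix := fix₀ 1 one_ne_zero (by rw [one_smul]; exact e1) hy'
    have hgww : g (w : W) = w := congrArg Subtype.val hfix.2.2
    rw [hgww] at e1
    obtain ⟨s, k, hk, hδe, hs⟩ := δform 1 (by rw [one_smul]; exact e1)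
    obtain rfl : s = 1 := Units.ext hs
    rw [map_one, one_mul] at hδe
    refine ⟨k, hk, rfl, ?_, hδe, hfix⟩
    simp only [B, hgww, e1] at e2
    have hdiv : (1 + 1) / r = 0 := Nat.div_eq_of_lt (by omega)
    rw [he, hdiv, pow_zero, Units.val_one, mul_one] at e2
    have ht1 : t = 1 := Units.ext ((mul_eq_left₀ hcne).1 (smul_left_injective E hw0 e2))
    rw [ht1, map_one, one_mul, pow_one, hδe] at ht
    have h4 := comm_pow v l h.comm k
    rw [← ht] at h4
    exact h.hζ.pow_inj hk h.hr.pos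
      (sc_inj (W := W) ((mul_eq_right.1 h4.symm).trans (map_one sc).symm) |>.trans (pow_zero ζ).symm)
  · subst hj2
    exfalso
    have hr3 : r = 3 := by
      by_contra hne
      have h4 : 4 < r := by
        rcases (show r = 4 ∨ 4 < r by omega) with h4 | h4
        · exact absurd (h4 ▸ h.hr) (by norm_num)
        · exact h4
      have hjj4 : jj = 4 := by rw [hjj, Nat.mod_eq_of_lt (by omega)]
      have e1 := hu 1 (Finset.mem_range.2 (by omega))
      simp only [u, hjj4, if_true, if_neg (show (1 : ℕ) ≠ 0 by omega), if_neg (show (1 : ℕ) ≠ 2 by omega),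
        if_neg (show (1 : ℕ) ≠ 4 by omega), add_zero, sub_zero, zero_sub, neg_eq_zero] at e1
      exact hw0 e1
    have hjj1 : jj = 1 := by rw [hjj, hr3]
    have e1 := hu 1 (Finset.mem_range.2 (by omega))
    have e2 := hu 2 (Finset.mem_range.2 (by omega))
    simp only [u, hjj1, if_true, if_neg (show (1 : ℕ) ≠ 0 by omega), if_neg (show (1 : ℕ) ≠ 2 by omega),
      if_neg (show (2 : ℕ) ≠ 0 by omega), if_neg (show (2 : ℕ) ≠ 1 by omega), zero_add, add_zero, sub_zero,
      sub_eq_zero] at e1 e2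
    have hfix := fix₀ c hcne e2 hy'
    have hgww : g (w : W) = w := congrArg Subtype.val hfix.2.2
    rw [hgww] at e2
    obtain ⟨s, k, hk, hδe, hs⟩ := δform c e2
    have ht3 := htr s k hδe
    simp only [B, hgww, e2, map_smul] at e1
    rw [he, show (2 + 2) / r = 1 by rw [hr3], pow_one, smul_smul, smul_smul] at e1
    have h5 : c * (t : E) * (ν : E) * c * c = 1 :=
      smul_left_injective E hw0 (e1.trans (one_smul E _).symm)
    refine hν hr3 ?_
    calc (c ^ 3 * (ν : E)) ^ 3 = (c ^ 3 * (ν : E)) ^ 3 * (t : E) ^ 3 := by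
          rw [← Units.val_pow_eq_pow_val, show t ^ 3 = 1 from hr3 ▸ ht3, Units.val_one, mul_one]
      _ = (c * (t : E) * (ν : E) * c * c) ^ 3 := by ring
      _ = 1 := by rw [h5, one_pow]
  · exfalso
    have e1 := hu j (Finset.mem_range.2 hj)
    simp only [u, if_neg hj0, if_neg hj1, if_neg hj2, if_neg (Ne.symm hjjj), if_true, zero_add, add_zero,
      sub_zero] at e1
    exact hδgw0 e1

end Cfsg.Agent.BaseTwo
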