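import Cfsg.Agent.EqLemmas
import Mathlib.Algebra.Module.Equiv.Basic
import Mathlib.Algebra.Field.Basic
import Mathlib.GroupTheory.OrderOfElement
import Mathlib.RingTheory.RootsOfUnity.PrimitiveRoots
import Mathlib.Tactic

/-! Bases of two vectors: groups of Heisenberg type and the vectors used in the recursion. -/

set_option autoImplicit false
set_option linter.style.haveILetI false

namespace Cfsg.Agent.BaseTwo

variable {E W : Type} [Field E] [AddCommGroup W] [Module E W]

theorem app_mul (a b : W ≃ₗ[E] W) (u : W) : (a * b) u = a (b u) := rfl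

theorem app_one (u : W) : (1 : W ≃ₗ[E] W) u = u := rfl

theorem app_inv_app (a : W ≃ₗ[E] W) (u : W) : a⁻¹ (a u) = u := a.symm_apply_apply u

theorem app_app_inv (a : W ≃ₗ[E] W) (u : W) : a (a⁻¹ u) = u := a.apply_symm_apply u

/-- Multiplication by a unit. -/
def sc : Eˣ →* (W ≃ₗ[E] W) where
  toFun c :=
    { toFun := fun u => (c : E) • u
      map_add' := smul_add _
      map_smul' := fun a u => smul_comm _ a u
      invFun := fun u => ((c⁻¹ : Eˣ) : E) • u
      left_inv := fun u => by simp [smul_smul]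
      right_inv := fun u => by simp [smul_smul] }
  map_one' := LinearEquiv.ext fun u => one_smul E u
  map_mul' a b := LinearEquiv.ext fun u => show ((a * b : Eˣ) : E) • u = (a : E) • (b : E) • u by
    rw [Units.val_mul, mul_smul]

@[simp] theorem sc_apply (c : Eˣ) (u : W) : sc c u = (c : E) • u := rfl

theorem sc_comm (c : Eˣ) (a : W ≃ₗ[E] W) : sc c * a = a * sc c :=
  LinearEquiv.ext fun u => (a.map_smul (c : E) u).symm

/-- A group of Heisenberg type: scalars, commutators and centre scalar, `n`-th powers scalar. -/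
structure Sys (E W : Type) [Field E] [AddCommGroup W] [Module E W] (n : ℕ) where
  grp : Subgroup (W ≃ₗ[E] W)
  scal : ∀ c : Eˣ, sc c ∈ grp
  comm : ∀ a ∈ grp, ∀ b ∈ grp, ∃ c : Eˣ, a * b = sc c * (b * a)
  center : ∀ a ∈ grp, (∀ b ∈ grp, a * b = b * a) → ∃ c : Eˣ, a = sc c
  pow : ∀ a ∈ grp, ∃ c : Eˣ, a ^ n = sc c

variable {n : ℕ} (S : Sys E W n)

/-- All elements are scalar. -/
def Sys.Trivial : Prop := ∀ a ∈ S.grp, ∃ c : Eˣ, a = sc c

/-- The line of `x` is moved by all but the scalars. -/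
def LineFree (x : W) : Prop := x ≠ 0 ∧ ∀ m ∈ S.grp, ∀ c : E, m x = c • x → ∃ s : Eˣ, m = sc s

/-- Semilinear normalisers. -/
def Nor (g : W ≃+ W) : Prop :=
  (∃ σ : E → E, ∀ (c : E) (u : W), g (c • u) = σ c • g u) ∧
    ∀ m ∈ S.grp, ∃ m' ∈ S.grp, ∀ u, g (m u) = m' (g u)

/-- Linear, centralising and fixing `w`. -/
def Fix (g : W ≃+ W) (w : W) : Prop :=
  (∀ (c : E) (u : W), g (c • u) = c • g u) ∧ (∀ m ∈ S.grp, ∀ u, g (m u) = m (g u)) ∧ g w = w

/-- The vectors handed down by the recursion, without the condition on `y`. -/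
structure Pre (x y w : W) : Prop where
  freeX : LineFree S x
  freeW : LineFree S w
  ne : y ≠ 0
  key : ∀ g : W ≃+ W, Nor S g → g x = x → g y = y → (∃ m ∈ S.grp, g w = m w) → Fix S g w

/-- The vectors handed down by the recursion. -/
structure Tri (x y w : W) : Prop extends Pre S x y w where
  out : ∀ m ∈ S.grp, m w ≠ y

theorem sc_injective {u : W} (hu : u ≠ 0) {c d : Eˣ} (h : sc c = (sc d : W ≃ₗ[E] W)) : c = d := by
  refine Units.ext (smul_left_injective E hu ?_)
  exact LinearEquiv.congr_fun h u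

theorem sc_eq_one {u : W} (hu : u ≠ 0) {c : Eˣ} (h : (sc c : W ≃ₗ[E] W) u = u) : c = 1 :=
  Units.ext (smul_left_injective E hu (h.trans (one_smul E u).symm))

theorem comm_scalar (a b c : W ≃ₗ[E] W) {ζ ξ : Eˣ} (h1 : a * b = sc ζ * (b * a)) (h2 : a * c = sc ξ * (c * a)) :
    a * (b * c) = sc (ζ * ξ) * (b * c * a) := by
  rw [← mul_assoc, h1, mul_assoc, mul_assoc, h2, ← mul_assoc b (sc ξ), ← sc_comm, map_mul]
  simp only [mul_assoc]

theorem comm_pow (a b : W ≃ₗ[E] W) {ζ : Eˣ} (h : a * b = sc ζ * (b * a)) :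
    ∀ k : ℕ, a * b ^ k = sc (ζ ^ k) * (b ^ k * a) := by
  intro k
  induction k with
  | zero => simp
  | succ k ih => rw [pow_succ, pow_succ, comm_scalar a _ b ih h]

theorem comm_symm (a b : W ≃ₗ[E] W) {ζ : Eˣ} (h : a * b = sc ζ * (b * a)) : b * a = sc ζ⁻¹ * (a * b) := by
  rw [h, ← mul_assoc, ← map_mul, inv_mul_cancel, map_one, one_mul]

/-- An element generating a hyperbolic pair, with eigenvalues in the field. -/
structure Split (r : ℕ) (l v : W ≃ₗ[E] W) (ζ ν : Eˣ) : Prop where
  hr : r.Prime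
  hl : l ∈ S.grp
  hv : v ∈ S.grp
  hζ : IsPrimitiveRoot ζ r
  comm : v * l = sc ζ * (l * v)
  lpow : l ^ r = 1
  vpow : v ^ r = sc ν

/-- The fixed space of `l`. -/
def P0 (l : W ≃ₗ[E] W) : Submodule E W where
  carrier := {u | l u = u}
  zero_mem' := map_zero l
  add_mem' {a b} ha hb := show l (a + b) = a + b by rw [map_add, show l a = a from ha, show l b = b from hb]
  smul_mem' c u hu := show l (c • u) = c • u by rw [map_smul, show l u = u from hu]

theorem mem_P0 {l : W ≃ₗ[E] W} {u : W} : u ∈ P0 l ↔ l u = u := Iff.rfl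

/-- Eigenvectors for distinct eigenvalues are independent. -/
theorem eigen_zero {ι : Type*} [DecidableEq ι] (l : W ≃ₗ[E] W) :
    ∀ (s : Finset ι) (ev : ι → E) (u : ι → W), Set.InjOn ev s → (∀ i ∈ s, l (u i) = ev i • u i) →
      ∑ i ∈ s, u i = 0 → ∀ i ∈ s, u i = 0 := by
  intro s
  induction s using Finset.induction_on with
  | empty => intro _ _ _ _ _ i hi; exact absurd hi (Finset.notMem_empty i)
  | insert a s ha ih =>
    intro ev u hinj heig hsum
    rw [Finset.sum_insert ha] at hsum
    have h2 : ∑ i ∈ s, (ev i - ev a) • u i = 0 := by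
      have h := congrArg l hsum
      rw [map_add, map_sum, map_zero, heig a (Finset.mem_insert_self a s),
        Finset.sum_congr rfl fun i hi => heig i (Finset.mem_insert_of_mem hi)] at h
      have h3 : ev a • u a + ∑ i ∈ s, ev a • u i = 0 := by
        rw [← Finset.smul_sum, ← smul_add, hsum, smul_zero]
      rw [Finset.sum_congr rfl fun i _ => sub_smul (ev i) (ev a) (u i), Finset.sum_sub_distrib, sub_eq_zero]
      exact add_left_cancel (h.trans h3.symm)
    have hrest := ih ev (fun i => (ev i - ev a) • u i) (hinj.mono (Finset.subset_insert a s))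
      (fun i hi => by rw [map_smul, heig i (Finset.mem_insert_of_mem hi), smul_comm]) h2
    have hs : ∀ i ∈ s, u i = 0 := fun i hi => by
      refine (smul_eq_zero.1 (hrest i hi)).resolve_left (sub_ne_zero.2 fun e => ha ?_)
      rwa [← hinj (Finset.mem_insert_of_mem hi) (Finset.mem_insert_self a s) e]
    intro i hi
    rcases Finset.mem_insert.1 hi with rfl | hi
    · rwa [Finset.sum_eq_zero hs, add_zero] at hsum
    · exact hs i hi

end Cfsg.Agent.BaseTwo
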